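import Cfsg.Agent.Lib.Lie.MultExc.OSevenThree.Table
import Cfsg.Agent.Lib.Spor.SchurCert.LinPacked

/-!
The certificate at the prime 2: a polycyclic sequence of a Sylow subgroup and conjugations.
-/

set_option autoImplicit false
set_option maxRecDepth 100000
set_option maxHeartbeats 0

namespace CfsgLib.Lie.MultExc.OSevenThree.P2

open CfsgLib.Spor.SchurCert

/-- The Sylow elements. -/
def sw : List (List ℕ) := [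
    [384, 527, 513, 618, 631, 679],
    [276, 565, 598, 681, 720, 706],
    [249, 532, 513, 621, 653, 670, 706],
    [339, 407, 513, 621, 686, 717],
    [282, 500, 621, 651, 720, 705],
    [159, 494, 577, 631, 642, 670, 705],
    [573, 654, 669],
    [531, 595, 685, 705],
    [339, 513, 579, 681, 717, 705]]

/-- The conjugating elements. -/
def gw : List (List ℕ) := [
    [289, 429, 585, 689, 720],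
    [137, 494, 513, 595, 631, 657, 719, 705],
    [296, 487, 588, 631, 651, 718, 706],
    [282, 561, 578, 631, 657, 718, 705],
    [88, 431, 513, 588, 676, 718],
    [375, 442, 573, 631, 681, 721, 705],
    [339, 564, 513, 619, 683, 670, 705],
    [159, 433, 602, 677, 721, 706],
    [116, 421, 592, 680, 706],
    [585, 631, 642, 719, 705],
    [368, 530, 623, 671, 669, 705],
    [289, 442, 614, 674, 719],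
    [37, 522, 513, 580, 690, 719, 706],
    [251, 426, 631, 678, 705],
    [258, 440, 513, 604, 631, 653, 722],
    [292, 566, 513, 609, 631],
    [361, 497, 600, 675, 706],
    [240, 419, 513, 610, 631, 689, 670],
    [286, 457, 622, 674, 718],
    [379, 505, 623, 631, 677, 717, 705]]

/-- The certificate. -/
def cert : CfsgLib.Spor.SchurCert.Cert where
  p := 2
  m := 9
  N := 4
  rules := [
    ([0, 0], [4, 5, 8]),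
    ([1, 1], [6]),
    ([2, 2], [4, 8]),
    ([3, 3], [7]),
    ([4, 4], [8]),
    ([5, 5], [8]),
    ([6, 6], []),
    ([7, 7], []),
    ([8, 8], []),
    ([1, 0], [0, 1, 5]),
    ([2, 0], [0, 2, 5]),
    ([2, 1], [1, 2, 4, 6, 7]),
    ([3, 0], [0, 3, 4, 5, 7, 8]),
    ([3, 1], [1, 3, 5, 6, 7]),
    ([3, 2], [2, 3, 5, 6, 7]),
    ([4, 0], [0, 4]),
    ([4, 1], [1, 4, 7]),
    ([4, 2], [2, 4]),
    ([4, 3], [3, 4, 7, 8]),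
    ([5, 0], [0, 5]),
    ([5, 1], [1, 5, 7, 8]),
    ([5, 2], [2, 5, 8]),
    ([5, 3], [3, 5, 7, 8]),
    ([5, 4], [4, 5]),
    ([6, 0], [0, 6, 7]),
    ([6, 1], [1, 6]),
    ([6, 2], [2, 6, 7, 8]),
    ([6, 3], [3, 6, 7]),
    ([6, 4], [4, 6, 8]),
    ([6, 5], [5, 6, 8]),
    ([7, 0], [0, 7]),
    ([7, 1], [1, 7, 8]),
    ([7, 2], [2, 7, 8]),
    ([7, 3], [3, 7]),
    ([7, 4], [4, 7]),
    ([7, 5], [5, 7]),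
    ([7, 6], [6, 7]),
    ([8, 0], [0, 8]),
    ([8, 1], [1, 8]),
    ([8, 2], [2, 8]),
    ([8, 3], [3, 8]),
    ([8, 4], [4, 8]),
    ([8, 5], [5, 8]),
    ([8, 6], [6, 8]),
    ([8, 7], [7, 8])]
  maps := [
    [([0, 3], [4, 5, 6]), ([1, 2], [0, 1, 2, 3, 4, 5, 6, 7, 8]), ([4, 5], [0, 3, 6, 7, 8]), ([6], [6, 7, 8]), ([7], [0, 3, 4, 5, 6, 8]), ([8], [0, 3, 4, 5, 6, 7])],
    [([1, 2, 8], [4, 5, 7]), ([4, 5, 7], [1, 2, 8])],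
    [([0, 2, 6], [2, 3]), ([1, 2, 3, 6, 7], [0, 3, 4, 5, 7, 8]), ([4, 6], [0, 3, 8]), ([5], [2, 3, 4, 5, 6, 8]), ([8], [4, 5, 6])],
    [([1, 2], [5, 6]), ([3, 6], [5, 6, 8]), ([4, 6], [3, 4, 5, 6]), ([5, 6], [1, 2]), ([7], [1, 2, 5, 6, 7]), ([8], [1, 2, 3, 6])],
    [([0, 3], [0, 3, 4, 5, 6]), ([1], [0, 3, 5, 6, 8]), ([2, 3], [2, 3, 4, 5, 6]), ([4], [0, 1, 3, 5, 6, 7, 8]), ([5], [0, 1, 3, 4]), ([6], [7, 8]), ([7], [6, 8]), ([8], [8])],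
    [([0, 2, 3], [0, 2, 3, 7, 8]), ([1, 2, 8], [1, 2, 7]), ([4, 6, 7], [4, 6, 7, 8]), ([5, 6, 8], [5, 6])],
    [([0, 2, 5, 7], [0, 2, 5, 7]), ([1, 2, 7], [1, 2, 7]), ([3, 6, 7, 8], [3, 6, 7, 8]), ([4, 6, 7, 8], [4, 6, 7, 8])],
    [([0, 2, 5, 7, 8], [0, 2, 4, 5, 6]), ([1, 2, 7], [1, 2, 7]), ([3, 6, 7, 8], [3, 6, 7, 8]), ([4, 6, 7, 8], [4, 6, 7, 8])],
    [([0, 2, 7, 8], [0, 2, 7, 8]), ([1, 2, 8], [1, 2, 8]), ([3, 5], [3, 5]), ([4, 6], [4, 6])],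
    [([0, 3], [0, 3]), ([1], [1, 6]), ([2, 3], [0, 1, 2, 6, 7]), ([4], [0, 1, 3, 4, 5, 6, 8]), ([5], [0, 1, 3]), ([6], [6]), ([7], [6, 7]), ([8], [8])],
    [([0], [0, 1, 2, 4, 5, 7]), ([1, 2], [4, 5]), ([3, 6], [1, 2, 3, 4, 5, 6, 7]), ([4, 6], [4, 6, 7]), ([5, 6], [5, 6, 7]), ([7], [7]), ([8], [1, 2, 4, 5, 8])],
    [([0, 8], [0, 4, 5]), ([1, 2, 8], [1, 2, 8]), ([3, 6], [0, 3, 4, 5, 6, 7]), ([4, 5, 8], [4, 5, 8]), ([7, 8], [7, 8])],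
    [([0], [0, 1, 2, 7, 8]), ([1, 2], [4, 5]), ([3, 6], [1, 2, 3, 6, 7, 8]), ([4, 6], [4, 6]), ([5, 6], [5, 6]), ([7], [7]), ([8], [1, 2, 4, 5, 8])],
    [([0], [0, 1, 2, 8]), ([1, 2, 8], [1, 2, 8]), ([3, 6], [0, 1, 2, 3, 4, 5, 6, 7, 8]), ([4, 5, 8], [4, 5, 8]), ([7, 8], [1, 2, 4, 5, 7, 8])],
    [([0, 3, 7], [0, 3, 4, 5, 8]), ([1, 8], [1, 4, 5, 6, 7]), ([6], [6])],
    [([0, 3], [0, 1, 3, 4, 7, 8]), ([1, 2, 8], [1, 2, 8]), ([4, 5, 8], [5, 6, 8]), ([6, 8], [0, 1, 3, 4, 5, 6, 7, 8]), ([7, 8], [4, 6, 7])],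
    [([0, 3], [4, 5, 6, 8]), ([1, 2], [0, 1, 2, 3, 4, 5, 6, 7]), ([4, 5], [0, 3, 6, 8]), ([6], [0, 3, 4, 5, 8]), ([7], [0, 3, 4, 5, 6, 7, 8]), ([8], [0, 3, 4, 5, 6])],
    [([0, 3], [0, 3, 6, 8]), ([1], [1]), ([2, 3], [0, 1, 2, 7, 8]), ([4], [0, 1, 3, 4, 5, 6]), ([5], [0, 1, 3]), ([6], [6]), ([7], [6, 7, 8]), ([8], [8])],
    [([0, 3, 4, 5, 7], [0, 3, 4, 5, 7]), ([1, 5, 7, 8], [1, 5, 7, 8]), ([6, 7, 8], [6, 7, 8])],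
    [([0, 2, 3, 5, 8], [0, 2, 3, 4, 5, 6]), ([1, 2, 7], [1, 2, 4, 6, 7, 8]), ([4, 6, 8], [4, 6, 8])]]
  overlaps := [
    ([0, 0, 0], [(0, 0), (37, 2), (19, 1), (15, 0)], [(0, 1)]),
    ([1, 1, 1], [(1, 0), (25, 0)], [(1, 1)]),
    ([1, 1, 0], [(1, 0), (24, 0)], [(9, 1), (9, 0), (20, 2), (1, 1), (29, 1), (44, 3), (8, 4), (35, 3), (29, 2), (5, 1), (43, 1), (8, 2)]),
    ([1, 0, 0], [(0, 1)], [(9, 0), (19, 2), (9, 1), (0, 0), (38, 2), (20, 1), (16, 0), (35, 2), (7, 3), (8, 3), (5, 2), (42, 2)]),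
    ([2, 2, 2], [(2, 0), (39, 1), (17, 0)], [(2, 1)]),
    ([2, 2, 0], [(2, 0), (37, 1), (15, 0)], [(10, 1), (10, 0), (21, 2), (2, 1), (42, 2), (8, 3), (5, 2)]),
    ([2, 2, 1], [(2, 0), (38, 1), (16, 0)], [(11, 1), (11, 0), (32, 4), (26, 3), (17, 2), (2, 1), (41, 2), (4, 1), (8, 1), (44, 3), (7, 2), (8, 2), (28, 1), (43, 3), (6, 2), (44, 2)]),
    ([2, 1, 1], [(1, 1)], [(11, 0), (31, 4), (25, 3), (16, 2), (11, 1), (1, 0), (26, 0), (41, 3), (34, 2), (28, 1), (44, 3), (8, 4), (36, 3), (6, 2), (7, 2), (4, 1), (44, 1), (43, 2), (36, 1), (44, 3), (7, 2), (8, 2)]),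
    ([2, 1, 0], [(11, 0), (30, 4), (24, 3), (15, 2), (10, 1), (9, 0), (21, 2), (42, 4), (5, 3), (8, 3), (7, 5)], [(9, 1), (10, 0), (20, 2), (11, 1), (35, 5), (29, 4), (44, 6), (44, 7), (7, 6), (8, 6), (29, 5), (5, 4), (43, 4), (8, 5)]),
    ([3, 3, 3], [(3, 0), (33, 0)], [(3, 1)]),
    ([3, 3, 0], [(3, 0), (30, 0)], [(12, 1), (12, 0), (40, 5), (33, 4), (22, 3), (18, 2), (3, 1), (34, 1), (7, 2), (42, 2), (44, 3), (8, 4), (7, 3), (41, 3), (23, 2), (4, 1), (42, 1), (8, 2), (5, 1), (44, 1), (8, 2)]),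
    ([3, 3, 1], [(3, 0), (31, 0)], [(13, 1), (13, 0), (33, 4), (27, 3), (22, 2), (3, 1), (35, 1), (7, 2), (43, 2), (44, 3), (44, 4), (7, 3), (42, 3), (29, 2), (5, 1), (43, 1), (8, 2), (43, 2), (6, 1), (44, 1)]),
    ([3, 1, 1], [(1, 1)], [(13, 0), (31, 4), (25, 3), (20, 2), (13, 1), (1, 0), (27, 0), (35, 2), (29, 1), (44, 3), (43, 4), (36, 3), (6, 2), (44, 3), (7, 2), (42, 2), (5, 1), (8, 1), (43, 2), (36, 1), (44, 3), (7, 2), (8, 2)]),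
    ([3, 1, 0], [(13, 0), (30, 4), (24, 3), (19, 2), (12, 1), (9, 0), (22, 2), (41, 5), (34, 4), (23, 3), (42, 6), (35, 5), (5, 4), (44, 4), (8, 5), (7, 4), (42, 4), (43, 5), (44, 6), (44, 7), (7, 6)], [(9, 1), (12, 0), (38, 5), (31, 4), (20, 3), (16, 2), (13, 1), (34, 5), (28, 4), (23, 3), (44, 6), (44, 7), (7, 6), (42, 6), (29, 5), (5, 4), (43, 4), (8, 5), (44, 5), (8, 6), (7, 5), (8, 5), (29, 4)]),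
    ([3, 3, 2], [(3, 0), (32, 0)], [(14, 1), (14, 0), (33, 4), (27, 3), (22, 2), (3, 1), (35, 1), (7, 2), (43, 2), (44, 3), (44, 4), (7, 3), (42, 3), (29, 2), (5, 1), (43, 1), (8, 2), (43, 2), (6, 1), (44, 1)]),
    ([3, 2, 2], [(2, 1)], [(14, 0), (32, 4), (26, 3), (21, 2), (14, 1), (2, 0), (40, 1), (18, 0), (8, 3), (35, 2), (36, 3), (7, 4), (29, 3), (5, 2), (43, 2), (8, 3), (43, 3), (6, 2), (44, 2), (8, 3), (7, 2)]),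
    ([3, 2, 1], [(14, 0), (31, 4), (25, 3), (20, 2), (13, 1), (11, 0), (33, 4), (27, 3), (18, 2), (43, 5), (36, 4), (44, 6), (7, 5), (44, 5), (42, 6), (35, 5), (29, 4), (44, 6), (8, 7), (36, 6), (6, 5), (7, 5), (5, 4), (44, 4), (8, 5), (36, 4), (7, 5)], [(11, 1), (13, 0), (32, 4), (26, 3), (21, 2), (14, 1), (35, 5), (29, 4), (5, 3), (43, 3), (8, 4), (43, 5), (36, 4), (6, 3), (44, 4), (7, 3), (8, 3), (41, 4), (34, 3), (43, 5), (36, 4), (44, 6), (7, 5)]),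
    ([4, 4, 4], [(4, 0), (41, 0)], [(4, 1)]),
    ([4, 4, 0], [(4, 0), (37, 0)], [(15, 1), (15, 0), (4, 1)]),
    ([4, 0, 0], [(0, 1), (4, 0), (42, 0), (8, 1)], [(15, 0), (15, 1), (0, 0), (41, 2), (23, 1), (4, 0), (42, 0), (8, 1)]),
    ([4, 4, 1], [(4, 0), (38, 0)], [(16, 1), (16, 0), (34, 2), (4, 1), (44, 1), (44, 2), (7, 1)]),
    ([4, 1, 1], [(1, 1)], [(16, 0), (31, 2), (16, 1), (1, 0), (28, 0), (44, 2), (44, 3), (7, 2), (8, 2)]),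
    ([4, 1, 0], [(16, 0), (30, 2), (15, 1), (9, 0), (23, 2)], [(9, 1), (15, 0), (16, 1), (35, 3)]),
    ([4, 4, 2], [(4, 0), (39, 0)], [(17, 1), (17, 0), (4, 1)]),
    ([4, 2, 1], [(17, 0), (16, 1), (11, 0), (34, 4), (28, 3), (4, 2), (43, 2), (8, 3), (7, 3)], [(11, 1), (16, 0), (32, 2), (17, 1), (41, 4), (34, 3), (4, 2), (44, 2), (8, 3), (36, 2), (7, 3)]),
    ([4, 4, 3], [(4, 0), (40, 0)], [(18, 1), (18, 0), (41, 3), (34, 2), (4, 1), (44, 1), (8, 2), (7, 1)]),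
    ([4, 3, 0], [(18, 0), (37, 3), (30, 2), (15, 1), (12, 0), (41, 5), (34, 4), (23, 3), (4, 2), (42, 2), (44, 3), (8, 4), (7, 3)], [(12, 1), (15, 0), (18, 1), (41, 4), (34, 3), (4, 2), (44, 2), (8, 3), (35, 2), (7, 3)]),
    ([4, 3, 1], [(18, 0), (38, 3), (31, 2), (16, 1), (13, 0), (34, 4), (28, 3), (23, 2), (44, 5), (44, 6), (7, 5), (44, 5), (8, 6)], [(13, 1), (16, 0), (33, 2), (18, 1), (44, 4), (7, 3), (42, 3), (43, 4), (44, 5)]),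
    ([4, 3, 2], [(18, 0), (39, 3), (32, 2), (17, 1), (14, 0), (34, 4), (28, 3), (23, 2), (44, 5), (44, 6), (7, 5), (8, 5)], [(14, 1), (17, 0), (18, 1), (42, 4), (35, 3), (43, 5), (36, 4), (44, 6), (7, 5)])]
  fuses := [
    ⟨0, [0, 0], [], [(12, 1), (0, 0), (40, 2), (22, 1), (18, 0), (42, 3), (35, 2), (44, 4), (7, 3), (8, 3), (41, 3), (23, 2), (4, 1), (42, 1), (8, 2), (5, 1), (44, 1), (8, 2), (33, 1), (3, 0), (7, 0)], [], [(28, 2), (23, 1), (4, 0), (42, 0), (43, 1), (8, 2), (29, 1), (5, 0), (43, 0), (8, 1), (6, 0)], []⟩,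
    ⟨0, [2, 0], [0, 2], [(19, 1), (15, 0), (22, 2), (18, 1), (42, 4), (35, 3), (44, 5), (7, 4), (8, 4)], [], [(41, 4), (34, 3), (28, 2), (44, 4), (8, 5), (35, 4), (29, 3), (44, 5), (43, 6), (36, 5), (6, 4)], [(24, 2), (19, 1), (15, 0), (33, 4), (27, 3), (22, 2), (18, 1), (42, 4), (35, 3), (44, 5), (7, 4), (8, 4), (7, 5), (6, 4)]⟩,
    ⟨0, [4, 0], [0, 4], [(30, 0), (33, 1)], [], [(41, 5), (28, 4), (23, 3), (4, 2), (42, 2), (43, 3), (8, 4), (42, 4), (29, 3), (5, 2), (43, 2), (8, 3), (43, 3), (6, 2)], [(24, 2), (19, 1), (15, 0), (33, 4), (27, 3), (22, 2), (18, 1), (42, 4), (35, 3), (44, 5), (7, 4), (8, 4), (7, 5), (28, 4), (23, 3), (4, 2), (42, 2), (43, 3), (8, 4), (29, 3), (5, 2), (43, 2), (8, 3), (6, 2)]⟩,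
    ⟨0, [1, 1], [], [(11, 1), (1, 0), (26, 0), (41, 3), (34, 2), (28, 1), (44, 3), (8, 4), (36, 3), (6, 2), (7, 2), (17, 1), (2, 0), (41, 1), (4, 0), (8, 0)], [], [(37, 8), (30, 7), (24, 6), (19, 5), (15, 4), (12, 3), (10, 2), (9, 1), (0, 0), (38, 2), (20, 1), (16, 0), (35, 2), (7, 3), (8, 3), (5, 2), (39, 2), (17, 1), (42, 3), (40, 4), (22, 3), (18, 2), (42, 5), (35, 4), (44, 6), (7, 5), (8, 5), (41, 5), (23, 4), (4, 3), (42, 3), (8, 4), (5, 3), (44, 3), (8, 4), (34, 3), (35, 4), (36, 5), (7, 6), (38, 7), (31, 6), (25, 5), (20, 4), (16, 3), (13, 2), (11, 1), (1, 0), (26, 0), (41, 3), (34, 2), (28, 1), (44, 3), (8, 4), (36, 3), (6, 2), (7, 2), (18, 1), (42, 4), (35, 3), (43, 5), (36, 4), (44, 6), (7, 5), (41, 5), (28, 4), (23, 3), (4, 2), (42, 2), (43, 3), (8, 4), (44, 4), (42, 5), (35, 4), (29,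 3), (5, 2), (43, 2), (8, 3), (44, 4), (7, 3), (8, 3), (6, 2), (8, 3), (32, 2), (14, 1), (2, 0), (40, 1), (18, 0), (8, 3), (35, 2), (36, 3), (7, 4), (40, 5), (33, 4), (27, 3), (22, 2), (18, 1), (3, 0), (34, 0), (7, 1), (42, 1), (44, 2), (8, 3), (36, 2), (7, 3), (41, 4), (34, 3), (28, 2), (23, 1), (4, 0), (42, 0), (43, 1), (8, 2), (42, 3), (35, 2), (29, 1), (5, 0), (43, 0), (8, 1), (43, 2), (36, 1), (6, 0), (44, 1), (7, 0), (8, 0)], []⟩,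
    ⟨0, [2, 1], [1, 2], [(20, 1), (16, 0), (35, 2), (7, 3), (39, 3), (21, 2), (17, 1), (8, 4)], [], [(37, 4), (30, 3), (24, 2), (12, 1), (0, 0), (40, 2), (22, 1), (18, 0), (42, 3), (35, 2), (44, 4), (7, 3), (8, 3), (41, 3), (23, 2), (4, 1), (42, 1), (8, 2), (5, 1), (44, 1), (8, 2), (36, 1), (7, 2), (38, 3), (31, 2), (25, 1), (13, 0), (36, 4), (6, 3), (7, 3), (8, 3), (21, 2), (14, 1), (35, 5), (29, 4), (5, 3), (43, 3), (8, 4), (40, 5), (33, 4), (27, 3), (3, 2), (36, 2), (7, 3), (41, 4), (34, 3), (28, 2), (44, 4), (8, 5), (35, 4), (29, 3), (44, 5), (43, 6), (36, 5), (6, 4), (44, 5), (7, 4), (8, 4)], [(37, 8), (30, 7), (24, 6), (19, 5), (15, 4), (12, 3), (10, 2), (9, 1), (0, 0), (38, 2), (20, 1), (16, 0), (35, 2), (7, 3), (8, 3), (5, 2), (39, 2), (17, 1), (42, 3), (40, 4), (22, 3), (18, 2), (42,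 5), (35, 4), (44, 6), (7, 5), (8, 5), (41, 5), (23, 4), (4, 3), (42, 3), (8, 4), (5, 3), (44, 3), (8, 4), (34, 3), (35, 4), (36, 5), (7, 6), (40, 7), (33, 6), (27, 5), (22, 4), (18, 3), (3, 2), (34, 2), (7, 3), (42, 3), (44, 4), (8, 5), (36, 4), (7, 5), (43, 6), (36, 5), (6, 4), (44, 5), (7, 4), (8, 4)]⟩,
    ⟨1, [0, 0], [], [(38, 2), (11, 1), (1, 0), (26, 0), (41, 3), (34, 2), (28, 1), (44, 3), (8, 4), (36, 3), (6, 2), (7, 2), (39, 2), (17, 1), (2, 0), (41, 1), (4, 0), (8, 0), (8, 0)], [], [(34, 2), (23, 1), (4, 0), (42, 0), (44, 1), (42, 2), (35, 1), (5, 0), (44, 0), (8, 1), (7, 0)], []⟩,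
    ⟨2, [0, 0], [4], [(24, 2), (10, 1), (0, 0), (39, 2), (21, 1), (17, 0), (8, 3), (5, 2), (43, 2), (44, 3), (39, 4), (32, 3), (26, 2), (17, 1), (2, 0), (41, 1), (4, 0), (8, 0), (44, 2), (7, 1), (8, 1), (43, 1), (6, 0)], [], [(14, 1), (2, 0), (40, 1), (18, 0), (8, 3), (35, 2), (36, 3), (7, 4), (27, 3), (22, 2), (18, 1), (3, 0), (34, 0), (7, 1), (42, 1), (44, 2), (8, 3), (36, 2), (7, 3)], []⟩,
    ⟨2, [1, 0], [0, 1, 4], [(30, 4), (24, 3), (12, 2), (10, 1), (9, 0), (21, 2), (42, 4), (5, 3), (8, 3), (43, 7), (36, 6), (44, 8), (7, 7), (44, 7), (39, 8), (32, 7), (26, 6), (21, 5), (17, 4), (14, 3), (2, 2), (40, 3), (18, 2), (8, 5), (35, 4), (36, 5), (7, 6), (28, 5), (23, 4), (4, 3), (42, 3), (43, 4), (8, 5), (29, 4), (5, 3), (43, 3), (8, 4), (43, 4), (6, 3), (44, 3), (8, 4), (7, 3), (8, 3)], [(25,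 2), (11, 1), (36, 5), (6, 4), (32, 4), (17, 3), (2, 2), (41, 3), (4, 2), (8, 2), (40, 3), (33, 2), (43, 4), (36, 3), (44, 5), (7, 4), (8, 4)], [(39, 5), (32, 4), (21, 3), (17, 2), (14, 1), (34, 5), (28, 4), (23, 3), (44, 6), (42, 7), (35, 6), (29, 5), (5, 4), (43, 4), (8, 5), (8, 6), (7, 5), (8, 5), (27, 4), (18, 3), (3, 2), (34, 2), (7, 3), (43, 3), (44, 4)], [(12, 1), (10, 0), (22, 2), (41, 5), (34, 4), (23, 3), (42, 6), (35, 5), (5, 4), (44, 4), (8, 5), (7, 4), (40, 4), (18, 3), (3, 2), (34, 2), (7, 3), (8, 3), (4, 2), (42, 2), (44, 3), (8, 4), (34, 3), (23, 2), (35, 4), (5, 3), (44, 3), (43, 4), (36, 3)]⟩,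
    ⟨2, [2, 0], [0, 2, 4], [(24, 1), (15, 0), (32, 3), (26, 2), (17, 1), (44, 5), (7, 4), (8, 4), (6, 3)], [(28, 2), (43, 4), (6, 3), (8, 3)], [(39, 2), (14, 1), (40, 6), (33, 5), (27, 4), (22, 3), (3, 2), (35, 2), (7, 3), (43, 3), (44, 4), (44, 5), (7, 4), (8, 4)], [(12, 1), (10, 0), (22, 2), (41, 5), (34, 4), (23, 3), (42, 6), (35, 5), (5, 4), (44, 4), (8, 5), (7, 4), (40, 4), (18, 3), (3, 2), (34, 2), (7, 3), (8, 3), (41, 3), (4, 2), (8, 2)]⟩,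
    ⟨2, [3, 0], [0, 3], [(19, 0), (21, 1), (43, 3)], [(29, 2)], [(39, 5), (26, 4), (21, 3), (17, 2), (14, 1), (2, 0), (40, 1), (18, 0), (8, 3), (35, 2), (36, 3), (7, 4), (28, 3), (23, 2), (4, 1), (42, 1), (43, 2), (8, 3), (29, 2), (5, 1), (43, 1), (8, 2), (43, 2), (6, 1), (44, 1), (8, 2), (40, 2), (33, 1), (3, 0), (7, 0)], [(14, 1), (2, 0), (40, 1), (18, 0), (8, 3), (35, 2), (36, 3), (7, 4), (27, 3), (22, 2), (18, 1), (3, 0), (34, 0), (7, 1), (42, 1), (44, 2), (8, 3), (36, 2), (7, 3), (28, 2), (23, 1), (4, 0), (42, 0), (43, 1), (8, 2), (29, 1), (5, 0), (43, 0), (8, 1), (6, 0)]⟩,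
    ⟨2, [1, 1], [], [(31, 4), (25, 3), (13, 2), (11, 1), (1, 0), (26, 0), (41, 3), (34, 2), (28, 1), (44, 3), (8, 4), (36, 3), (6, 2), (7, 2), (18, 1), (42, 4), (35, 3), (43, 5), (36, 4), (44, 6), (7, 5), (43, 5), (6, 4), (44, 4), (8, 5), (32, 4), (21, 3), (17, 2), (14, 1), (2, 0), (40, 1), (18, 0), (8, 3), (35, 2), (36, 3), (7, 4), (28, 3), (23, 2), (4, 1), (42, 1), (43, 2), (8, 3), (29, 2), (5, 1), (43, 1), (8, 2), (44, 2), (8, 3), (33, 2), (27, 1), (3, 0), (36, 0), (7, 1), (36, 1), (6, 0), (7, 0)], [], [(37, 5), (30, 4), (19, 3), (15, 2), (12, 1), (0, 0), (40, 2), (22, 1), (18, 0), (42, 3), (35, 2), (44, 4), (7, 3), (8, 3), (41, 3), (23, 2), (4, 1), (42, 1), (8, 2), (5, 1), (44, 1), (8, 2), (34, 1), (35, 2), (7, 3), (40, 3), (22, 2), (18, 1), (3, 0), (34, 0), (7, 1), (42, 1), (44, 2), (8,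 3), (41, 3), (34, 2), (23, 1), (4, 0), (42, 0), (44, 1), (8, 2), (35, 1), (5, 0), (44, 0), (44, 1), (7, 0), (8, 0)], []⟩,
    ⟨2, [3, 3], [4], [(5, 0)], [], [(39, 5), (26, 4), (21, 3), (17, 2), (14, 1), (2, 0), (40, 1), (18, 0), (8, 3), (35, 2), (36, 3), (7, 4), (28, 3), (23, 2), (4, 1), (42, 1), (43, 2), (8, 3), (29, 2), (5, 1), (43, 1), (8, 2), (43, 2), (6, 1), (44, 1), (8, 2), (40, 2), (33, 1), (3, 0), (7, 0), (41, 0), (42, 1), (43, 2), (8, 3)], []⟩,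
    ⟨3, [1, 0], [0, 1], [(25, 1), (13, 0), (36, 4), (6, 3), (32, 3), (21, 2), (14, 1), (35, 5), (29, 4), (5, 3), (43, 3), (8, 4), (44, 5), (7, 4), (8, 4)], [], [(42, 2), (29, 1), (5, 0), (43, 0), (8, 1), (43, 1), (6, 0)], [(29, 1), (5, 0), (43, 0), (8, 1), (6, 0)]⟩,
    ⟨4, [1, 0], [0, 1, 5, 7], [(9, 0), (22, 2)], [(13, 1), (36, 5), (6, 4)], [(37, 4), (24, 3), (19, 2), (12, 1), (0, 0), (40, 2), (22, 1), (18, 0), (42, 3), (35, 2), (44, 4), (7, 3), (8, 3), (41, 3), (23, 2), (4, 1), (42, 1), (8, 2), (5, 1), (44, 1), (8, 2), (35, 1), (36, 2), (7, 3), (40, 3), (27, 2), (22, 1), (3, 0), (35, 0), (7, 1), (43, 1), (44, 2), (8, 3), (34, 2), (28, 1), (23, 0), (44, 3), (42, 4), (35, 3), (29, 2), (5, 1), (43, 1), (8, 2), (43, 3), (36, 2), (6, 1)], [(24, 4), (19, 3), (15, 2), (12, 1), (0, 0), (40, 2), (22,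 1), (18, 0), (42, 3), (35, 2), (44, 4), (7, 3), (8, 3), (41, 3), (23, 2), (4, 1), (42, 1), (8, 2), (5, 1), (44, 1), (8, 2), (34, 1), (35, 2), (36, 3), (7, 4), (27, 3), (22, 2), (18, 1), (3, 0), (34, 0), (7, 1), (42, 1), (44, 2), (8, 3), (36, 2), (7, 3), (29, 2), (5, 1), (43, 1), (8, 2), (6, 1), (44, 1), (8, 2)]⟩,
    ⟨4, [2, 0], [0, 2, 3, 4, 5], [(12, 1), (10, 0), (22, 2), (41, 5), (34, 4), (23, 3), (42, 6), (35, 5), (5, 4), (44, 4), (8, 5), (7, 4), (40, 4), (18, 3), (3, 2), (34, 2), (7, 3), (8, 3)], [(14, 1), (33, 5), (27, 4), (22, 3), (3, 2), (35, 2), (7, 3), (43, 3), (44, 4), (44, 5), (7, 4), (41, 4), (28, 3), (23, 2), (8, 5), (29, 4), (5, 3), (43, 3), (8, 4), (6, 3)], [(24, 4), (19, 3), (15, 2), (12, 1), (10, 0), (22, 2), (41, 5), (34, 4), (23, 3), (42, 6), (35, 5), (5, 4), (44, 4), (8, 5),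 (7, 4), (41, 4), (4, 3), (8, 3), (33, 5), (27, 4), (22, 3), (3, 2), (35, 2), (7, 3), (43, 3), (44, 4), (44, 5), (7, 4), (41, 4), (28, 3), (23, 2), (8, 5), (29, 4), (5, 3), (43, 3), (8, 4), (6, 3)], [(26, 4), (21, 3), (17, 2), (14, 1), (34, 5), (28, 4), (23, 3), (44, 6), (42, 7), (35, 6), (29, 5), (5, 4), (43, 4), (8, 5), (8, 6), (36, 5), (6, 4), (7, 4), (40, 4), (18, 3), (3, 2), (34, 2), (7, 3), (8, 3), (4, 2), (42, 2), (43, 3), (37, 4), (24, 3), (19, 2), (10, 1), (0, 0), (39, 2), (21, 1), (17, 0), (8, 3), (5, 2), (42, 2), (43, 3), (44, 4), (8, 5), (31, 4), (25, 3), (20, 2), (16, 1), (11, 0), (34, 4), (28, 3), (4, 2), (43, 2), (8, 3), (7, 3), (29, 2), (44, 4), (8, 5), (36, 4), (6, 3), (7, 3), (40, 3), (22, 2), (8, 5), (35, 4), (5, 3), (44, 3), (43, 4), (36, 3), (44, 5), (7, 4), (8, 4), (24, 3),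 (12, 2), (10, 1), (9, 0), (21, 2), (42, 4), (5, 3), (8, 3), (43, 7), (36, 6), (44, 8), (7, 7), (38, 7), (25, 6), (20, 5), (16, 4), (13, 3), (11, 2), (1, 1), (26, 1), (41, 4), (34, 3), (28, 2), (44, 4), (8, 5), (36, 4), (6, 3), (7, 3), (18, 2), (42, 5), (35, 4), (43, 6), (36, 5), (44, 7), (7, 6), (41, 6), (28, 5), (23, 4), (4, 3), (42, 3), (43, 4), (8, 5), (44, 5), (42, 6), (35, 5), (29, 4), (5, 3), (43, 3), (8, 4), (44, 5), (7, 4), (8, 4), (6, 3), (40, 3), (3, 2), (41, 3), (34, 2), (44, 4), (7, 3), (8, 3)]⟩,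
    ⟨4, [3, 0], [0, 3, 6, 7], [(15, 0), (18, 1)], [], [(37, 6), (30, 5), (24, 4), (19, 3), (12, 2), (9, 1), (0, 0), (38, 2), (20, 1), (16, 0), (35, 2), (7, 3), (8, 3), (5, 2), (40, 2), (18, 1), (8, 4), (34, 3), (4, 2), (44, 2), (42, 3), (35, 2), (44, 4), (7, 3), (8, 3), (5, 2), (43, 2), (44, 3), (44, 4), (7, 3), (8, 3), (27, 2), (3, 1), (36, 1), (7, 2), (28, 1), (42, 3), (29, 2), (8, 4), (6, 3)], [(24, 4), (19, 3), (15, 2), (12, 1), (0, 0), (40, 2), (22, 1), (18, 0), (42, 3), (35, 2), (44, 4), (7, 3), (8, 3), (41, 3), (23, 2), (4, 1), (42, 1), (8, 2), (5, 1), (44, 1), (8, 2), (34, 1), (35, 2), (36, 3), (7, 4), (25, 3), (20, 2), (16, 1), (13, 0), (34, 4), (28, 3), (23, 2), (44, 5), (44, 6), (7, 5), (42, 5), (29, 4), (5, 3), (43, 3), (8, 4), (44, 4), (8, 5), (36, 4), (6, 3), (33, 3), (18, 2), (3,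 1), (34, 1), (7, 2), (44, 2), (42, 3), (35, 2), (43, 4), (36, 3), (44, 5), (7, 4), (8, 4), (6, 3), (8, 3)]⟩,
    ⟨4, [1, 1], [5], [(1, 0)], [], [(37, 4), (24, 3), (19, 2), (12, 1), (0, 0), (40, 2), (22, 1), (18, 0), (42, 3), (35, 2), (44, 4), (7, 3), (8, 3), (41, 3), (23, 2), (4, 1), (42, 1), (8, 2), (5, 1), (44, 1), (8, 2), (35, 1), (36, 2), (7, 3), (40, 3), (27, 2), (22, 1), (3, 0), (35, 0), (7, 1), (43, 1), (44, 2), (8, 3), (35, 2), (29, 1), (5, 0), (43, 0), (8, 1), (36, 1), (6, 0)], []⟩,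
    ⟨4, [2, 1], [1, 2, 3, 4], [(13, 1), (11, 0), (33, 4), (27, 3), (18, 2), (43, 5), (36, 4), (44, 6), (7, 5), (44, 5), (42, 6), (35, 5), (29, 4), (44, 6), (8, 7), (36, 6), (6, 5), (7, 5)], [], [(24, 4), (19, 3), (15, 2), (12, 1), (10, 0), (22, 2), (41, 5), (34, 4), (23, 3), (42, 6), (35, 5), (5, 4), (44, 4), (8, 5), (7, 4), (41, 4), (4, 3), (8, 3), (33, 5), (27, 4), (22, 3), (3, 2), (35, 2), (7, 3), (43, 3), (44, 4), (44, 5), (7, 4), (42, 4), (29, 3), (5, 2), (43, 2), (8, 3), (43, 3), (6, 2), (8, 2)], [(39, 4), (26, 3), (21, 2), (14, 1), (35, 5), (29, 4), (5, 3), (43, 3), (8, 4), (43, 5), (36, 4), (6, 3), (44, 4), (7, 3), (8, 3), (40, 3), (3, 2), (41, 3), (34, 2), (42, 4), (35, 3), (43, 5), (36, 4), (37, 6), (30, 5), (24, 4), (19, 3), (15, 2), (10, 1), (0, 0), (39, 2), (21, 1), (17, 0), (8,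 3), (5, 2), (41, 2), (4, 1), (8, 1), (7, 3), (38, 3), (25, 2), (20, 1), (11, 0), (35, 4), (29, 3), (44, 5), (44, 6), (7, 5), (8, 5), (6, 4), (40, 4), (22, 3), (18, 2), (42, 5), (35, 4), (44, 6), (7, 5), (8, 5), (42, 5), (5, 4), (8, 4), (37, 6), (30, 5), (24, 4), (15, 3), (12, 2), (10, 1), (9, 0), (21, 2), (42, 4), (5, 3), (8, 3), (41, 7), (34, 6), (23, 5), (4, 4), (42, 4), (44, 5), (8, 6), (36, 5), (7, 6), (38, 7), (31, 6), (25, 5), (20, 4), (13, 3), (11, 2), (1, 1), (26, 1), (41, 4), (34, 3), (28, 2), (44, 4), (8, 5), (36, 4), (6, 3), (7, 3), (18, 2), (42, 5), (35, 4), (43, 6), (36, 5), (44, 7), (7, 6), (42, 6), (29, 5), (5, 4), (43, 4), (8, 5), (44, 5), (8, 6), (36, 5), (6, 4), (7, 4), (8, 4), (18, 3), (3, 2), (34, 2), (7, 3), (41, 3), (4, 2), (8, 2)]⟩,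
    ⟨4, [3, 1], [1, 3, 6], [(16, 0)], [], [(37, 6), (30, 5), (24, 4), (19, 3), (12, 2), (9, 1), (0, 0), (38, 2), (20, 1), (16, 0), (35, 2), (7, 3), (8, 3), (5, 2), (40, 2), (18, 1), (8, 4), (34, 3), (4, 2), (44, 2), (42, 3), (35, 2), (44, 4), (7, 3), (8, 3), (5, 2), (43, 2), (44, 3), (44, 4), (7, 3), (8, 3), (27, 2), (3, 1), (36, 1), (7, 2), (29, 1), (43, 3), (6, 2), (8, 2)], [(37, 4), (24, 3), (19, 2), (12, 1), (0, 0), (40, 2), (22, 1), (18, 0), (42, 3), (35, 2), (44, 4), (7, 3), (8, 3), (41, 3), (23, 2), (4, 1), (42, 1), (8, 2), (5, 1), (44, 1), (8, 2), (35, 1), (36, 2), (7, 3), (38, 3), (25, 2), (20, 1), (13, 0), (35, 4), (29, 3), (5, 2), (43, 2), (8, 3), (7, 3), (43, 3), (6, 2), (8, 2), (3, 1), (35, 1), (36, 2), (7, 3), (43, 3), (6, 2), (8, 2)]⟩]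
  adj := [
    [(0, 1), (1, 1), (46, 1), (54, 1), (63, 1), (64, 1)],
    [(2, 1), (45, 1), (82, 1)],
    [(0, 1), (2, 1), (3, 1), (45, 1), (54, 1), (82, 1)],
    [(1, 1), (3, 1), (4, 1), (54, 1), (63, 1), (66, 1), (82, 1)],
    [(0, 2), (2, 1), (3, 2), (4, 1), (6, 2), (45, 2), (54, 2), (82, 2)],
    [(0, 1), (2, 1), (3, 2), (6, 1), (45, 2), (46, 2), (63, 2), (64, 2), (82, 2)],
    [(1, 1), (2, 2), (45, 2), (82, 2)],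
    [(1, 2), (3, 3), (4, 2), (54, 2), (63, 2), (66, 2), (82, 2)],
    [(2, 2), (4, 3), (6, 2)]]
  base := [
    ([(36, 1)], 2, [(1, 1), (2, 2), (4, 1), (5, 2), (6, 3), (7, 1), (8, 2), (9, 3), (11, 1), (12, 3), (14, 3), (15, 1), (16, 3), (18, 2), (19, 2), (20, 3), (21, 2), (22, 2), (23, 1), (24, 2), (25, 1), (27, 2), (28, 2)])]
  dense := [
    [0, 0, 0, 0, 0, 0, 0, 0, 0, 0, 0, 0, 0, 0, 0, 1, 0, 0, 0, 1, 0, 0, 0, 0, 0, 0, 0, 0, 0, 0, 0, 0, 0, 0, 0, 0, 0, 1],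
    [0, 0, 0, 0, 0, 0, 0, 0, 0, 0, 0, 0, 0, 0, 0, 0, 0, 0, 0, 0, 0, 0, 0, 0, 0, 1],
    [0, 0, 0, 0, 0, 3, 0, 0, 2, 2, 0, 0, 0, 0, 0, 0, 0, 0, 0, 0, 3, 0, 0, 0, 1, 0, 0, 0, 0, 2, 0, 0, 0, 0, 0, 3, 0, 0, 0, 0, 0, 0, 0, 3, 3],
    [0, 0, 0, 0, 0, 3, 0, 3, 3, 2, 0, 0, 0, 0, 0, 0, 3, 0, 0, 3, 3, 0, 0, 0, 0, 0, 0, 0, 0, 0, 0, 0, 0, 0, 0, 3, 0, 0, 3, 0, 0, 0, 3],
    [0, 0, 0, 0, 0, 0, 0, 0, 0, 0, 0, 0, 0, 0, 0, 0, 0, 1, 0, 0, 0, 0, 0, 0, 0, 0, 0, 0, 0, 0, 0, 0, 0, 0, 0, 0, 0, 0, 0, 1],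
    [0, 0, 0, 0, 0, 3, 0, 0, 3, 0, 2, 0, 0, 0, 0, 1, 0, 0, 0, 0, 0, 3, 0, 0, 0, 0, 0, 0, 0, 0, 0, 0, 0, 0, 0, 0, 0, 1, 0, 0, 0, 0, 3],
    [0, 0, 0, 0, 3, 0, 3, 3, 2, 0, 0, 2, 0, 0, 0, 0, 1, 3, 0, 0, 0, 0, 0, 0, 0, 0, 3, 0, 3, 0, 0, 0, 3, 0, 0, 0, 0, 0, 1, 0, 0, 3, 0, 3, 2],
    [0, 0, 0, 0, 3, 0, 3, 2, 2, 0, 0, 2, 0, 0, 0, 0, 3, 0, 0, 0, 0, 0, 0, 0, 0, 3, 3, 0, 3, 0, 0, 3, 0, 0, 3, 0, 2, 0, 0, 0, 0, 3, 0, 3, 1],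
    [0, 0, 0, 0, 0, 0, 0, 0, 3, 0, 0, 0, 0, 0, 0, 1, 0, 0, 0, 0, 3, 1, 0, 0, 1, 0, 0, 0, 0, 2, 1, 0, 0, 0, 0, 3, 0, 0, 0, 0, 0, 0, 1, 3, 2],
    [0, 0, 0, 0, 0, 0, 0, 0, 0, 0, 0, 0, 0, 0, 0, 0, 0, 0, 0, 0, 0, 0, 0, 0, 0, 0, 0, 0, 0, 0, 0, 0, 0, 1],
    [0, 0, 0, 0, 3, 3, 0, 2, 1, 0, 0, 0, 2, 0, 0, 0, 0, 0, 3, 0, 0, 0, 3, 3, 0, 0, 0, 0, 0, 0, 1, 0, 0, 3, 3, 0, 0, 0, 0, 0, 3, 3, 2, 0, 2],
    [0, 0, 0, 0, 0, 3, 3, 2, 3, 0, 0, 0, 0, 2, 0, 0, 0, 0, 0, 0, 0, 0, 3, 0, 0, 0, 0, 3, 0, 3, 0, 1, 0, 3, 0, 3, 0, 0, 0, 0, 0, 0, 3, 1, 1],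
    [0, 0, 0, 0, 0, 3, 3, 2, 2, 0, 0, 0, 0, 2, 0, 0, 0, 0, 0, 0, 3, 0, 0, 0, 0, 3, 0, 3, 0, 3, 0, 3, 0, 0, 0, 3, 2, 0, 0, 0, 0, 0, 3, 2, 1],
    [0, 0, 0, 0, 0, 0, 0, 0, 2, 0, 0, 0, 0, 0, 0, 0, 3, 0, 0, 1, 3, 0, 1, 0, 1, 0, 0, 0, 3, 2, 1, 3, 0, 0, 0, 1, 0, 0, 3, 0, 0, 1, 1],
    [0, 0, 0, 0, 0, 3, 3, 2, 3, 0, 0, 0, 0, 0, 2, 0, 0, 0, 0, 0, 0, 0, 3, 0, 0, 0, 0, 3, 0, 3, 0, 0, 1, 3, 0, 3, 0, 0, 0, 0, 0, 0, 3, 1, 1],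
    [0, 0, 0, 0, 0, 3, 3, 2, 1, 0, 0, 0, 0, 0, 2, 0, 0, 0, 3, 0, 0, 3, 0, 0, 0, 0, 3, 0, 0, 3, 0, 0, 3, 0, 0, 3, 3, 0, 0, 0, 3, 0, 0, 2, 3],
    [0, 0, 0, 0, 0, 0, 0, 1, 0, 0, 0, 0, 0, 0, 0, 0, 0, 0, 1, 0, 1, 3, 0, 0, 0, 1, 3, 1, 0, 0, 0, 1, 3, 1, 3, 0, 1, 0, 0, 0, 0, 3, 1, 2, 2],
    [0, 0, 0, 0, 0, 0, 0, 0, 0, 0, 0, 0, 0, 0, 0, 0, 0, 0, 0, 0, 0, 0, 0, 0, 0, 0, 0, 0, 0, 0, 0, 0, 0, 0, 0, 0, 0, 0, 0, 0, 0, 1],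
    [0, 0, 0, 0, 0, 0, 0, 0, 0, 0, 0, 0, 0, 0, 0, 2, 0, 0, 0, 0, 0, 0, 0, 0, 0, 0, 0, 0, 0, 0, 0, 0, 0, 0, 0, 0, 0, 1],
    [0, 0, 0, 0, 0, 0, 0, 0, 0, 0, 0, 0, 0, 0, 0, 2, 0, 0, 0, 0, 0, 0, 0, 3, 0, 0, 0, 0, 0, 0, 0, 0, 0, 0, 0, 0, 0, 0, 0, 0, 0, 3],
    [0, 0, 0, 0, 0, 0, 0, 3, 0, 0, 0, 0, 0, 0, 0, 0, 2, 0, 0, 0, 0, 0, 0, 0, 0, 0, 0, 0, 0, 0, 0, 0, 0, 0, 3, 0, 0, 0, 1, 0, 0, 0, 0, 0, 2],
    [0, 0, 0, 0, 0, 0, 0, 3, 3, 0, 0, 0, 0, 0, 0, 0, 2, 0, 0, 0, 0, 0, 0, 0, 0, 0, 0, 0, 3, 0, 0, 3, 0, 0, 0, 0, 0, 0, 0, 0, 0, 0, 0, 0, 2],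
    [0, 0, 0, 0, 0, 0, 0, 0, 0, 0, 0, 0, 0, 0, 0, 0, 0, 0, 0, 0, 0, 0, 0, 1, 0, 0, 0, 0, 0, 0, 1, 0, 0, 0, 0, 3],
    [0, 0, 0, 0, 0, 0, 0, 0, 0, 0, 0, 0, 0, 0, 0, 0, 0, 2, 0, 0, 0, 0, 0, 0, 0, 0, 0, 0, 0, 0, 0, 0, 0, 0, 0, 0, 0, 0, 0, 1],
    [0, 0, 0, 0, 0, 0, 0, 0, 0, 0, 0, 0, 0, 0, 0, 0, 0, 0, 0, 0, 0, 0, 0, 0, 0, 0, 0, 0, 1, 0, 0, 0, 3, 0, 0, 0, 3, 0, 0, 0, 0, 3, 0, 1, 3],
    [0, 0, 0, 0, 0, 0, 0, 3, 3, 0, 0, 0, 0, 0, 0, 0, 0, 0, 2, 0, 0, 0, 0, 0, 0, 0, 0, 0, 0, 0, 0, 0, 0, 0, 3, 0, 0, 0, 0, 0, 1, 3, 0, 0, 3],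
    [0, 0, 0, 0, 0, 0, 0, 0, 0, 0, 0, 0, 0, 0, 0, 0, 0, 0, 0, 0, 0, 0, 0, 1, 0, 0, 0, 0, 0, 0, 1, 0, 0, 0, 0, 3, 0, 1, 0, 0, 0, 0, 1],
    [0, 0, 0, 0, 0, 0, 0, 0, 1, 0, 0, 0, 0, 0, 0, 0, 0, 0, 0, 0, 0, 0, 0, 1, 0, 0, 0, 0, 1, 0, 0, 1, 0, 3, 1, 0, 0, 0, 1, 0, 0, 0, 3, 3, 1],
    [0, 0, 0, 0, 0, 0, 0, 0, 1, 0, 0, 0, 0, 0, 0, 0, 0, 0, 0, 0, 0, 0, 0, 1, 0, 0, 0, 0, 1, 0, 0, 0, 1, 0, 1, 3, 3, 0, 0, 1, 0, 0, 3, 3, 1],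
    [1, 0, 0, 1, 0, 0, 3, 2, 1, 0, 0, 0, 1, 0, 0, 0, 0, 0, 1, 0, 0, 0, 1, 0, 0, 0, 0, 0, 3, 3, 0, 0, 0, 1, 0, 1, 0, 0, 0, 0, 1, 1, 1, 2, 2, 2],
    [0, 0, 0, 0, 0, 0, 0, 3, 1, 0, 0, 0, 0, 0, 0, 2, 0, 0, 2, 2, 0, 0, 2, 0, 1, 0, 0, 1, 3, 3, 0, 0, 0, 1, 3, 1, 3, 0, 0, 0, 0, 3, 2, 3],
    [0, 0, 0, 0, 0, 0, 0, 2, 1, 0, 0, 0, 0, 0, 0, 1, 0, 0, 1, 1, 0, 0, 1, 0, 1, 0, 0, 1, 0, 0, 1, 0, 0, 2, 0, 1, 0, 0, 0, 0, 0, 3, 0, 3, 1],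
    [3, 0, 0, 3, 2, 0, 2, 3, 0, 3, 3, 0, 3, 3, 3, 3, 2, 0, 0, 3, 2, 0, 2, 1, 3, 3, 0, 3, 2, 2, 3, 3, 3, 3, 1, 1, 3, 3, 2, 3, 1, 2, 3, 2, 1, 0, 2],
    [0, 0, 0, 0, 0, 0, 3, 2, 0, 1, 1, 0, 0, 3, 3, 1, 2, 2, 1, 1, 2, 0, 1, 0, 0, 3, 0, 0, 3, 2, 0, 3, 0, 0, 1, 1, 3, 0, 0, 2, 0, 3, 2, 3, 3],
    [0, 1, 1, 0, 0, 3, 1, 0, 2, 0, 0, 1, 0, 0, 0, 0, 0, 1, 0, 0, 0, 0, 0, 3, 0, 0, 1, 0, 1, 0, 0, 0, 0, 0, 0, 3, 1, 0, 1, 1, 0, 2, 2, 0, 3, 0, 0, 0, 0, 0, 0, 0, 0, 0, 2],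
    [1, 0, 0, 3, 1, 1, 1, 2, 1, 0, 1, 0, 0, 0, 3, 0, 0, 2, 2, 0, 0, 1, 3, 0, 1, 0, 1, 3, 0, 0, 0, 0, 1, 0, 3, 3, 2, 0, 0, 2, 3, 1, 3, 2, 1, 0, 0, 0, 0, 0, 0, 0, 0, 0, 0, 0, 0, 0, 0, 0, 0, 0, 0, 2, 0, 0, 0, 1],
    [0, 0, 0, 0, 1, 3, 0, 2, 0, 1, 2, 3, 2, 0, 0, 0, 0, 3, 1, 0, 0, 1, 1, 2, 1, 3, 1, 3, 0, 0, 1, 0, 3, 3, 1, 2, 1, 0, 0, 0, 1, 0, 3, 2, 3, 0, 0, 0, 0, 0, 0, 0, 0, 0, 0, 0, 0, 0, 0, 0, 0, 0, 0, 0, 0, 0, 0, 1],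
    [0, 0, 0, 0, 1, 1, 0, 1, 2, 0, 1, 0, 1, 0, 3, 1, 0, 1, 1, 0, 0, 0, 0, 1, 1, 0, 1, 3, 3, 0, 0, 0, 1, 3, 2, 0, 0, 0, 0, 3, 0, 2, 1, 2, 0, 0, 0, 0, 0, 0, 0, 0, 0, 0, 0, 0, 0, 0, 0, 0, 0, 0, 0, 0, 0, 0, 0, 1],
    [0, 0, 0, 0, 0, 0, 0, 1, 0, 0, 0, 0, 0, 0, 0, 0, 0, 3, 1, 1, 0, 0, 1, 0, 0, 0, 3, 1, 0, 3, 0, 0, 0, 3, 1, 0, 1, 0, 0, 3, 3, 0, 1],
    [3, 1, 1, 0, 3, 3, 3, 1, 0, 0, 0, 1, 3, 1, 1, 3, 0, 1, 0, 3, 0, 1, 2, 3, 0, 1, 1, 1, 2, 1, 3, 1, 1, 1, 2, 3, 1, 3, 0, 0, 3, 3, 2, 0, 2, 0, 0, 0, 0, 0, 0, 0, 0, 0, 0, 0, 0, 0, 0, 0, 0, 0, 0, 0, 2],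
    [0, 0, 3, 3, 3, 0, 3, 2, 3, 0, 0, 0, 0, 0, 3, 0, 0, 3, 3, 0, 0, 3, 0, 3, 0, 0, 3, 0, 3, 3, 0, 0, 0, 3, 0, 3, 3, 0, 0, 3, 2, 3, 2, 0, 3, 0, 0, 0, 0, 0, 0, 0, 0, 0, 0, 0, 0, 0, 0, 0, 0, 0, 0, 0, 0, 0, 2, 1],
    [0, 0, 0, 0, 0, 1, 1, 1, 2, 0, 0, 0, 0, 1, 1, 0, 0, 0, 0, 0, 0, 1, 0, 0, 0, 1, 0, 0, 0, 1, 0, 0, 1, 0, 0, 1, 1, 0, 0, 0, 0, 0, 3, 0, 1],
    [0, 0, 0, 0, 0, 0, 3, 1, 1, 1, 0, 0, 0, 3, 0, 1, 0, 0, 1, 0, 0, 0, 1, 3, 0, 0, 0, 0, 3, 0, 0, 0, 0, 0, 1, 2, 3, 3, 0, 0, 3, 0, 0, 2, 0, 0, 0, 0, 0, 0, 0, 0, 0, 0, 0, 0, 0, 0, 0, 0, 0, 0, 0, 0, 0, 0, 0, 0, 0, 0, 0, 0, 0, 0, 0, 0, 0, 0, 0, 0, 0, 0, 0, 0, 0, 0, 1, 0, 1],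
    [1, 1, 0, 1, 2, 3, 2, 3, 3, 1, 2, 2, 1, 1, 0, 3, 2, 2, 3, 0, 2, 3, 3, 0, 1, 2, 2, 2, 2, 1, 0, 1, 0, 2, 2, 2, 2, 1, 1, 1, 0, 0, 3, 1, 3, 0, 0, 0, 0, 0, 0, 0, 0, 0, 0, 0, 0, 0, 0, 0, 0, 0, 0, 0, 0, 0, 0, 0, 0, 0, 0, 0, 0, 0, 0, 0, 0, 0, 0, 0, 0, 0, 0, 0, 1, 1, 1],
    [0, 0, 0, 0, 0, 0, 1, 1, 2, 3, 0, 0, 0, 1, 0, 2, 0, 0, 2, 0, 0, 0, 1, 2, 0, 1, 0, 3, 0, 0, 3, 0, 0, 1, 2, 1, 2, 3, 3, 0, 0, 1, 2, 1, 3, 0, 0, 0, 0, 0, 0, 0, 0, 0, 0, 0, 0, 0, 0, 0, 0, 0, 0, 0, 0, 0, 0, 0, 0, 0, 0, 0, 0, 0, 0, 0, 0, 0, 0, 0, 0, 0, 0, 0, 0, 0, 0, 1, 1],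
    [3, 1, 0, 3, 3, 2, 3, 1, 3, 0, 0, 0, 3, 0, 0, 0, 0, 0, 3, 3, 0, 0, 2, 3, 3, 0, 0, 3, 0, 3, 0, 0, 0, 0, 0, 0, 2, 3, 0, 0, 2, 3, 2, 2, 1, 0, 0, 0, 0, 0, 0, 0, 0, 0, 0, 0, 0, 0, 0, 0, 0, 0, 0, 0, 0, 0, 0, 0, 0, 0, 0, 0, 0, 0, 0, 0, 0, 0, 0, 0, 0, 0, 2, 0, 0, 0, 1],
    [1, 1, 0, 1, 2, 3, 0, 0, 3, 1, 1, 3, 0, 2, 1, 1, 0, 1, 0, 0, 2, 3, 3, 0, 1, 2, 2, 0, 1, 3, 2, 1, 0, 0, 3, 0, 0, 2, 2, 2, 2, 3, 2, 3, 0, 0, 0, 0, 0, 0, 0, 0, 0, 0, 0, 0, 0, 0, 0, 0, 0, 0, 0, 0, 0, 0, 0, 0, 0, 0, 0, 0, 0, 0, 0, 0, 0, 0, 0, 0, 0, 0, 0, 0, 1, 1],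
    [0, 0, 0, 0, 0, 0, 1, 0, 1, 3, 0, 0, 0, 1, 0, 0, 0, 0, 0, 0, 0, 0, 1, 1, 0, 1, 0, 3, 0, 0, 3, 0, 0, 0, 3, 2, 1, 0, 0, 0, 0, 1, 1, 1, 2, 0, 0, 0, 0, 0, 0, 0, 0, 0, 0, 0, 0, 0, 0, 0, 0, 0, 0, 0, 0, 0, 0, 0, 0, 0, 0, 0, 0, 0, 0, 0, 0, 0, 0, 0, 0, 0, 0, 0, 0, 0, 0, 1]]
  tgt := [
    ([(0, 3)], [(1, 1), (3, 1), (4, 1), (5, 2), (6, 3), (7, 3), (8, 2), (9, 2), (11, 2), (12, 2), (13, 1), (14, 1), (15, 2), (16, 2), (17, 3), (19, 2), (20, 3), (22, 1), (24, 1), (28, 1), (29, 2), (30, 3), (36, 2), (39, 2), (40, 2), (41, 2)]),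
    ([], []),
    ([], []),
    ([], []),
    ([(0, 2)], [(1, 2), (3, 2), (4, 2), (6, 2), (7, 2), (13, 2), (14, 2), (17, 2), (20, 2), (22, 2), (24, 2), (28, 2), (30, 2)]),
    ([], [(0, 2), (1, 2), (3, 2), (4, 1), (5, 2), (6, 1), (7, 2), (8, 1), (10, 2), (12, 1), (13, 3), (14, 2), (16, 3), (17, 2), (18, 2), (19, 1), (21, 3), (22, 3), (23, 3), (24, 2), (28, 2), (30, 3), (31, 3), (32, 2), (34, 2), (35, 2), (36, 2), (37, 2), (40, 2), (41, 2), (43, 2), (45, 2), (46, 2)]),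
    ([(0, 1)], [(1, 3), (3, 3), (4, 3), (5, 2), (6, 1), (7, 1), (8, 2), (9, 2), (11, 2), (12, 2), (13, 3), (14, 3), (15, 2), (16, 2), (17, 1), (19, 2), (20, 1), (22, 3), (24, 3), (28, 3), (29, 2), (30, 1), (36, 2), (39, 2), (40, 2), (41, 2)]),
    ([(0, 3)], [(2, 3), (3, 1), (4, 3), (6, 1), (7, 3), (10, 2), (11, 3), (12, 3), (13, 3), (15, 2), (16, 2), (18, 1), (19, 2), (20, 2), (21, 1), (23, 3), (24, 3), (26, 1), (27, 3), (29, 2), (30, 2), (34, 2), (39, 2), (41, 2)]),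
    ([], [(1, 2), (2, 3), (3, 1), (4, 3), (5, 2), (6, 3), (7, 3), (9, 3), (11, 2), (12, 3), (13, 3), (14, 3), (16, 2), (19, 1), (20, 1), (21, 3), (22, 1), (23, 3), (26, 2), (29, 2), (31, 2), (35, 2), (37, 2), (41, 2)]),
    ([], [(0, 3), (2, 1), (3, 2), (4, 1), (5, 3), (6, 2), (7, 3), (8, 2), (9, 1), (10, 3), (11, 2), (12, 3), (13, 1), (14, 1), (15, 3), (16, 3), (17, 2), (18, 3), (19, 2), (20, 1), (21, 3), (22, 2), (23, 1), (24, 3), (26, 3), (27, 3), (28, 1), (29, 3), (30, 3), (31, 1), (32, 3), (34, 2), (35, 1), (36, 2), (37, 1), (39, 1), (41, 3), (43, 3), (45, 1), (46, 1)]),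
    ([(0, 3)], [(0, 1), (1, 2), (2, 2), (3, 3), (4, 3), (5, 3), (6, 2), (7, 2), (9, 1), (12, 1), (13, 3), (14, 1), (15, 1), (16, 1), (18, 3), (19, 1), (20, 1), (21, 2), (22, 2), (23, 3), (24, 3), (26, 2), (28, 2), (29, 1), (30, 3), (31, 2), (32, 1), (33, 1), (34, 2), (35, 1), (36, 1), (37, 2), (38, 1), (39, 1), (41, 2), (42, 1), (43, 2), (44, 3), (45, 1), (46, 2), (47, 1)]),
    ([(0, 1)], [(2, 1), (3, 2), (4, 1), (5, 3), (6, 2), (7, 1), (8, 2), (9, 2), (10, 3), (11, 2), (12, 3), (13, 1), (14, 3), (15, 1), (16, 1), (17, 3), (18, 3), (19, 1), (20, 2), (22, 3), (23, 1), (24, 2), (28, 1), (29, 2), (30, 3), (31, 1), (34, 2), (35, 3), (36, 2), (38, 1), (39, 2), (40, 3), (41, 3), (43, 3), (45, 1), (46, 1)]),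
    ([(0, 1)], [(0, 2), (2, 3), (4, 3), (5, 1), (6, 2), (8, 3), (9, 3), (10, 2), (11, 1), (12, 3), (15, 2), (16, 1), (17, 3), (18, 1), (19, 1), (20, 2), (21, 3), (22, 1), (23, 3), (26, 1), (27, 1), (29, 2), (30, 3), (32, 3), (33, 1), (36, 3), (37, 2), (39, 3), (40, 3), (41, 2), (42, 1), (44, 3), (45, 3), (47, 1)]),
    ([(0, 1)], [(1, 2), (2, 3), (4, 3), (5, 3), (6, 1), (7, 3), (8, 1), (9, 1), (10, 2), (12, 3), (13, 2), (14, 2), (15, 2), (16, 3), (18, 1), (19, 1), (20, 3), (21, 1), (22, 2), (23, 2), (24, 1), (26, 2), (27, 2), (29, 2), (30, 3), (31, 2), (32, 3), (34, 1), (36, 1), (38, 1), (39, 3), (40, 3), (41, 2), (43, 3), (45, 1), (46, 1)]),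
    ([(0, 2)], [(0, 3), (1, 3), (2, 1), (3, 2), (5, 2), (7, 2), (8, 1), (11, 3), (12, 3), (14, 2), (15, 3), (16, 1), (17, 2), (18, 3), (20, 2), (21, 3), (23, 3), (24, 1), (26, 3), (27, 2), (28, 3), (29, 2), (30, 1), (31, 2), (32, 1), (34, 1), (35, 2), (36, 2), (37, 1), (39, 3), (40, 3), (41, 1), (42, 1), (43, 2), (44, 3), (45, 1), (46, 2), (47, 1)]),
    ([(0, 2)], [(1, 1), (2, 3), (4, 2), (6, 2), (7, 3), (8, 1), (9, 1), (10, 3), (12, 1), (13, 1), (14, 1), (15, 2), (16, 2), (18, 1), (19, 1), (20, 3), (21, 1), (22, 2), (23, 2), (26, 2), (28, 1), (29, 2), (30, 3), (31, 2), (32, 2), (36, 3), (37, 3), (38, 1), (39, 2), (40, 2), (42, 1), (43, 1), (44, 3), (45, 2), (46, 3), (47, 1)]),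
    ([], [(0, 2), (1, 1), (2, 3), (3, 3), (4, 1), (5, 1), (7, 1), (8, 2), (9, 1), (10, 2), (11, 1), (12, 2), (13, 1), (15, 1), (16, 3), (17, 3), (18, 1), (19, 1), (20, 3), (21, 3), (22, 2), (23, 1), (24, 1), (26, 2), (27, 1), (28, 1), (29, 2), (30, 1), (31, 3), (34, 1), (35, 3), (37, 2), (39, 2), (40, 3), (41, 1), (43, 1), (45, 3), (46, 3)]),
    ([], [(4, 3), (23, 1)]),
    ([(0, 1)], [(0, 3), (1, 1), (2, 3), (4, 1), (5, 2), (7, 2), (9, 1), (10, 2), (11, 3), (12, 1), (13, 2), (14, 2), (15, 2), (16, 2), (17, 3), (20, 1), (21, 3), (24, 3), (26, 2), (27, 3), (28, 3), (30, 2), (31, 3), (32, 2), (34, 3), (35, 1), (36, 3), (37, 1), (38, 1), (39, 2), (40, 3), (41, 3), (42, 1), (43, 2), (44, 3), (45, 1), (46, 2), (47, 1)]),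
    ([(0, 2)], [(0, 1), (1, 1), (2, 3), (4, 2), (6, 2), (7, 3), (8, 1), (9, 1), (10, 3), (12, 1), (13, 1), (14, 1), (15, 2), (16, 2), (19, 1), (20, 3), (21, 1), (22, 2), (23, 2), (26, 2), (28, 1), (29, 2), (30, 3), (31, 2), (32, 2), (36, 3), (37, 3), (38, 1), (39, 2), (40, 2), (42, 1), (43, 1), (44, 3), (45, 2), (46, 3), (47, 1)]),
    ([(0, 2)], [(0, 3), (3, 2), (4, 2), (5, 1), (6, 3), (7, 2), (10, 3), (11, 1), (13, 3), (14, 3), (15, 3), (16, 2), (17, 1), (18, 3), (20, 1), (21, 1), (22, 3), (23, 3), (27, 3), (28, 1), (30, 1), (31, 2), (32, 2), (34, 3), (35, 1), (36, 1), (37, 3), (38, 1), (39, 2), (40, 3), (41, 1), (42, 1), (43, 2), (44, 3), (45, 1), (46, 2), (47, 1)]),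
    ([], [(1, 3), (2, 2), (3, 3), (5, 3), (8, 2), (9, 2), (10, 1), (11, 2), (12, 3), (13, 1), (14, 2), (16, 3), (17, 2), (18, 3), (19, 1), (21, 3), (22, 1), (23, 2), (26, 3), (28, 3), (29, 2), (30, 2), (31, 3), (34, 2), (36, 1), (37, 1), (38, 1), (39, 2), (40, 2), (42, 1), (43, 3), (44, 3), (46, 1), (47, 1)]),
    ([], [(0, 3), (1, 2), (2, 1), (3, 3), (5, 1), (6, 3), (8, 2), (9, 3), (10, 1), (11, 1), (12, 2), (13, 2), (14, 1), (15, 3), (16, 2), (18, 2), (19, 2), (20, 2), (21, 1), (22, 1), (23, 1), (24, 2), (26, 3), (28, 1), (29, 2), (30, 1), (32, 2), (34, 3), (35, 3), (36, 1), (37, 3), (38, 1), (40, 1), (41, 1), (42, 1), (44, 3), (45, 3), (47, 1)]),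
    ([], [(2, 2), (3, 2), (4, 2), (5, 2), (7, 2), (9, 2), (10, 2), (17, 1), (19, 3), (20, 2), (21, 2), (22, 2), (23, 2), (27, 2), (29, 2), (31, 2), (35, 2), (39, 2), (40, 2), (43, 2), (45, 2), (46, 2)]),
    ([], [(0, 1), (1, 3), (5, 2), (6, 1), (7, 3), (8, 2), (9, 1), (10, 3), (11, 2), (12, 1), (13, 2), (15, 3), (16, 1), (17, 1), (18, 3), (19, 3), (20, 1), (21, 1), (23, 1), (24, 2), (26, 3), (27, 2), (28, 1), (30, 2), (31, 1), (34, 1), (35, 1), (36, 3), (37, 1), (38, 1), (39, 2), (40, 3), (41, 1), (42, 1), (44, 3), (45, 3), (47, 1)]),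
    ([], [(1, 1)]),
    ([], [(1, 2), (2, 3), (3, 1), (5, 2), (6, 1), (7, 3), (8, 3), (11, 3), (12, 1), (13, 3), (14, 2), (15, 1), (16, 3), (17, 1), (18, 3), (20, 2), (23, 2), (26, 1), (27, 3), (28, 3), (29, 2), (30, 2), (31, 3), (32, 2), (34, 3), (35, 3), (36, 2), (37, 2), (40, 1), (41, 3), (43, 1), (45, 3), (46, 3)]),
    ([(0, 1)], [(2, 1), (5, 1), (6, 1), (9, 3), (10, 2), (11, 2), (12, 1), (13, 3), (16, 1), (17, 3), (18, 1), (20, 2), (21, 3), (22, 2), (23, 1), (24, 1), (26, 1), (28, 1), (30, 3), (31, 3), (34, 1), (35, 1), (36, 1), (37, 1), (38, 1), (40, 1), (41, 1), (42, 1), (43, 2), (44, 3), (45, 1), (46, 2), (47, 1)]),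
    ([], [(3, 2), (4, 1), (5, 1), (8, 2), (9, 3), (10, 1), (11, 1), (12, 1), (15, 2), (16, 1), (17, 2), (19, 3), (20, 2), (21, 1), (22, 1), (23, 2), (24, 3), (26, 1), (27, 2), (29, 2), (30, 3), (31, 1), (34, 2), (37, 2), (38, 1), (39, 2), (40, 2), (41, 2)]),
    ([(0, 3)], [(0, 1), (1, 2), (2, 2), (3, 3), (4, 3), (6, 2), (7, 1), (9, 1), (10, 2), (11, 1), (12, 2), (13, 2), (14, 1), (15, 3), (16, 1), (17, 2), (18, 1), (20, 3), (21, 1), (22, 1), (23, 1), (24, 2), (27, 2), (28, 3), (30, 3), (31, 3), (34, 2), (35, 2), (36, 2), (37, 2), (38, 1), (39, 2), (40, 2)]),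
    ([], [(0, 2), (1, 1), (2, 1), (4, 3), (5, 1), (6, 1), (7, 1), (8, 3), (9, 2), (10, 2), (11, 3), (12, 2), (13, 2), (14, 1), (15, 2), (18, 3), (20, 3), (21, 2), (22, 2), (23, 3), (27, 2), (29, 2), (30, 2), (31, 2), (32, 2)]),
    ([(0, 1)], [(0, 2), (1, 2), (3, 2), (4, 1), (5, 3), (6, 2), (7, 2), (8, 2), (9, 2), (10, 1), (11, 2), (12, 1), (14, 1), (16, 1), (18, 3), (20, 1), (21, 2), (22, 2), (27, 3), (28, 2), (30, 1), (31, 3), (34, 2), (35, 2), (37, 2), (38, 1), (43, 2), (45, 2), (46, 2)]),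
    ([(0, 3)], [(1, 2), (4, 1), (5, 3), (10, 1), (11, 3), (12, 3), (13, 2), (15, 2), (16, 1), (17, 2), (18, 1), (20, 3), (21, 2), (26, 2), (27, 1), (28, 2), (29, 2), (30, 3), (31, 1), (34, 2), (37, 2), (38, 1), (39, 2), (40, 2), (41, 2)]),
    ([], [(9, 1)]),
    ([(0, 2)], [(1, 3), (3, 1), (4, 2), (5, 3), (6, 2), (8, 3), (9, 1), (10, 2), (11, 3), (12, 1), (13, 3), (17, 3), (19, 1), (20, 2), (21, 1), (22, 3), (23, 3), (24, 3), (26, 1), (27, 2), (28, 1), (32, 2), (35, 2), (39, 2), (40, 2), (41, 2), (43, 2), (45, 2), (46, 2)]),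
    ([], [(0, 2), (1, 1), (2, 3), (3, 2), (4, 1), (5, 3), (6, 1), (7, 3), (8, 3), (11, 3), (12, 2), (13, 2), (14, 1), (15, 2), (17, 1), (18, 3), (19, 3), (20, 1), (22, 3), (23, 1), (30, 2), (32, 2), (35, 2), (39, 2), (40, 2), (43, 2), (45, 2), (46, 2)]),
    ([(0, 1)], []),
    ([], [(2, 2), (3, 2), (4, 2), (5, 2), (7, 2), (9, 2), (10, 2), (17, 2), (18, 1), (20, 2), (21, 2), (22, 2), (23, 2), (27, 2), (29, 2), (31, 2), (35, 2), (39, 2), (40, 2), (43, 2), (45, 2), (46, 2)]),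
    ([(0, 1)], [(1, 3), (2, 1), (4, 1), (5, 1), (6, 1), (7, 3), (8, 3), (9, 3), (11, 2), (14, 2), (17, 1), (18, 3), (19, 1), (20, 1), (22, 3), (23, 2), (26, 2), (27, 3), (28, 3), (29, 2), (31, 2), (32, 2), (41, 2)]),
    ([], [(4, 2), (23, 3)]),
    ([(0, 3)], [(1, 3), (3, 3), (4, 2), (5, 3), (6, 2), (7, 2), (8, 3), (9, 3), (12, 2), (13, 1), (14, 3), (15, 3), (16, 1), (18, 1), (19, 2), (20, 3), (21, 1), (23, 1), (24, 2), (26, 2), (27, 3), (28, 1), (30, 2), (32, 2), (35, 2), (37, 2), (41, 2)]),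
    ([], [(17, 1)]),
    ([], [(2, 2), (3, 2), (4, 2), (5, 2), (7, 2), (9, 2), (10, 2), (17, 2), (18, 3), (20, 2), (21, 2), (22, 1), (23, 2), (26, 1), (27, 2), (29, 2), (31, 2), (35, 2), (39, 2), (40, 2), (43, 2), (45, 2), (46, 2)]),
    ([(0, 2)], [(0, 2), (1, 1), (2, 2), (4, 3), (6, 3), (7, 1), (8, 2), (9, 1), (11, 1), (14, 1), (15, 2), (17, 1), (18, 1), (19, 3), (21, 1), (22, 3), (23, 1), (24, 2), (26, 3), (27, 3), (29, 2), (30, 2), (31, 2), (35, 2), (39, 2), (40, 2), (41, 2), (43, 2), (45, 2), (46, 2)]),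
    ([(0, 2)], [(0, 2), (1, 3), (2, 2), (3, 2), (4, 3), (5, 2), (6, 3), (7, 1), (11, 3), (12, 2), (13, 2), (14, 1), (15, 2), (19, 2), (20, 3), (23, 3), (26, 2), (28, 2), (29, 2), (30, 2), (31, 2), (35, 2), (39, 2), (40, 2), (41, 2), (43, 2), (45, 2), (46, 2)])]

/-- Orbits inside the subgroup. -/
def orbits : List (ℕ × List (ℕ × List ℕ)) := [
    (0, [(0, []), (3, [1]), (66, [0, 5]), (69, [0, 1]), (70, [8]), (75, [0, 2, 4]), (167, [0, 2]), (173, [0, 8]), (210, [0, 4]), (241, [4]), (276, [0]), (277, [0, 2, 8]), (302, [2]), (305, [2, 4]), (309, [2, 8]), (353, [5])]),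
    (1, [(1, []), (2, [1, 2, 3, 5, 7]), (301, [7]), (303, [1, 2, 3, 5]), (304, [3, 8]), (306, [1, 2, 5, 7]), (307, [3, 7, 8]), (308, [1, 2, 5])]),
    (4, [(4, []), (11, [4, 5, 6, 7]), (121, [6]), (126, [4, 5, 7])])]

theorem checks : certChecks 364 tab cert sw gw orbits = true := by decide +kernel

theorem lin_ok : cert.linOK = true :=
  CfsgLib.Spor.SchurCert.Packed.linOK_of_linP cert (by decide +kernel)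

end CfsgLib.Lie.MultExc.OSevenThree.P2
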