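import Cfsg.Agent.Lib.Lie.MultExc.OSevenThree.Table
import Cfsg.Agent.Lib.Spor.SchurCert.LinPacked

/-!
The certificate at the prime 3: a polycyclic sequence of a Sylow subgroup and conjugations.
-/

set_option autoImplicit false
set_option maxRecDepth 100000
set_option maxHeartbeats 0

namespace CfsgLib.Lie.MultExc.OSevenThree.P3

open CfsgLib.Spor.SchurCert

/-- The Sylow elements. -/
def sw : List (List ℕ) := [
    [181, 540, 595, 631, 678, 721, 706],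
    [393, 433, 513, 617, 631, 642, 718],
    [534, 513, 580, 675, 720, 706],
    [393, 457, 605, 631, 689],
    [393, 521, 573, 631, 657, 706],
    [251, 474, 624, 680, 720],
    [546, 513, 579, 675, 670],
    [487, 621, 721, 706],
    [483, 513, 615, 686, 670, 705]]

/-- The conjugating elements. -/
def gw : List (List ℕ) := [
    [181, 485, 513, 598, 631, 689],
    [214, 465, 594, 631, 686, 719],
    [215, 553, 513, 574, 671, 722, 705],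
    [35, 555, 597, 631, 671, 717, 705],
    [272, 421, 513, 621, 631, 654, 718, 705],
    [169, 537, 513, 618, 631, 686, 718, 706],
    [209, 505, 513, 577, 686, 706],
    [251, 508, 513, 597, 631, 690, 721],
    [251, 476, 598, 631, 656, 706],
    [22, 485, 575, 674],
    [181, 528, 513, 574, 675, 722, 706],
    [181, 446, 513, 610, 631, 671, 720, 706],
    [181, 446, 513, 610, 631, 671, 720, 706],
    [477, 513, 618, 631, 641, 720, 706],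
    [477, 513, 618, 631, 641, 720, 706],
    [289, 524, 513, 597, 631, 656, 719],
    [60, 503, 595, 690, 706],
    [113, 530, 513, 579, 685, 669],
    [272, 415, 587, 653, 722, 706],
    [322, 447, 602, 631, 678, 669, 706],
    [22, 525, 588, 631, 674, 669, 706],
    [288, 494, 602, 683, 717, 706],
    [146, 536, 588, 631, 678, 669, 705],
    [263, 413, 631, 689, 717, 705]]

/-- The certificate. -/
def cert : CfsgLib.Spor.SchurCert.Cert where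
  p := 3
  m := 9
  N := 9
  rules := [
    ([0, 0, 0], [4, 5, 6, 8, 8]),
    ([1, 1, 1], [7, 7]),
    ([2, 2, 2], [8]),
    ([3, 3, 3], [8]),
    ([4, 4, 4], []),
    ([5, 5, 5], []),
    ([6, 6, 6], []),
    ([7, 7, 7], []),
    ([8, 8, 8], []),
    ([1, 0], [0, 1, 2, 2, 3, 4, 4, 5, 6, 6, 8, 8]),
    ([2, 0], [0, 2, 4, 4, 5, 6, 6]),
    ([2, 1], [1, 2, 4, 4, 5, 5]),
    ([3, 0], [0, 3, 5, 5, 6, 6, 7, 7, 8, 8]),
    ([3, 1], [1, 3, 4, 5, 6, 6]),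
    ([3, 2], [2, 3, 6, 7]),
    ([4, 0], [0, 4, 6, 6, 7, 8, 8]),
    ([4, 1], [1, 4, 6]),
    ([4, 2], [2, 4]),
    ([4, 3], [3, 4]),
    ([5, 0], [0, 5, 6, 8, 8]),
    ([5, 1], [1, 5, 6, 6, 8, 8]),
    ([5, 2], [2, 5, 7, 7]),
    ([5, 3], [3, 5, 7, 7, 8, 8]),
    ([5, 4], [4, 5, 8]),
    ([6, 0], [0, 6, 7, 7, 8, 8]),
    ([6, 1], [1, 6, 7]),
    ([6, 2], [2, 6, 8, 8]),
    ([6, 3], [3, 6, 8]),
    ([6, 4], [4, 6]),
    ([6, 5], [5, 6]),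
    ([7, 0], [0, 7, 8, 8]),
    ([7, 1], [1, 7]),
    ([7, 2], [2, 7]),
    ([7, 3], [3, 7]),
    ([7, 4], [4, 7]),
    ([7, 5], [5, 7]),
    ([7, 6], [6, 7]),
    ([8, 0], [0, 8]),
    ([8, 1], [1, 8]),
    ([8, 2], [2, 8]),
    ([8, 3], [3, 8]),
    ([8, 4], [4, 8]),
    ([8, 5], [5, 8]),
    ([8, 6], [6, 8]),
    ([8, 7], [7, 8])]
  maps := [
    [([0], [0, 0, 1, 2, 5, 6, 6, 8]), ([1], [1, 4, 4, 8, 8]), ([2], [3, 4, 7, 8]), ([3], [2, 4, 7, 8]), ([4], [4, 4, 8]), ([5], [5, 5, 8, 8]), ([6], [6, 6]), ([7], [7, 7]), ([8], [8])],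
    [([0], [0, 0, 2, 2, 3, 4, 4, 6, 7, 8]), ([1], [1, 1, 2, 2, 3, 4, 5, 5, 6, 6, 8, 8]), ([2], [3, 3]), ([3], [2, 2, 8]), ([4], [4, 8, 8]), ([5], [4, 5, 5, 7, 7]), ([6], [6, 6, 7, 8, 8]), ([7], [7, 8]), ([8], [8, 8])],
    [([1, 3, 5, 5, 6, 6], [2, 2, 3, 3, 4, 4, 6]), ([2, 3, 3, 5, 5, 8, 8], [1, 1, 2, 2, 3, 3, 4, 4, 5, 8, 8]), ([4, 5, 6, 8], [7]), ([7, 8], [2, 2, 3, 3, 4, 4, 7, 8, 8])],
    [([0, 1, 3, 5, 5, 6, 7, 7, 8], [2, 2, 3, 3, 4, 7, 8, 8]), ([2, 3], [0, 0, 1, 1, 2, 2, 4, 5, 6, 7, 8, 8]), ([4, 6, 6, 8], [4, 4, 6, 8, 8])],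
    [([0, 1, 3, 5, 5, 6, 7, 7, 8], [2, 2, 3, 3, 4, 7, 8, 8]), ([2, 3], [0, 0, 1, 1, 2, 2, 4, 5, 6, 7, 8, 8]), ([4, 6, 6, 8], [4, 4, 6, 8, 8])],
    [([0, 1], [0, 1, 2, 3, 4]), ([2], [0, 1, 2, 3, 3, 4, 6, 6, 7, 7]), ([3], [0, 0, 1, 1, 3, 4, 4, 6, 6, 7, 8, 8]), ([4], [6, 6, 8]), ([5], [0, 1, 2, 2, 3, 3, 5, 5, 6, 6, 7, 7]), ([6], [4, 4, 8, 8]), ([7], [4, 4, 6, 6, 7, 8]), ([8], [8, 8])],
    [([0, 1], [0, 1, 2, 3, 4]), ([2], [0, 1, 2, 3, 3, 4, 6, 6, 7, 7, 8, 8]), ([3], [0, 0, 1, 1, 3, 4, 4, 6, 6, 7]), ([4], [6, 6, 8]), ([5], [0, 1, 2, 2, 3, 3, 5, 5, 6, 6, 7, 7, 8]), ([6], [4, 4, 8, 8]), ([7], [4, 4, 6, 6, 7, 8]), ([8], [8, 8])],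
    [([1, 3], [1, 2, 2, 4, 4, 5, 5, 6, 6, 7, 7]), ([2, 3], [2, 3, 4, 8, 8]), ([4], [2, 3, 4, 7, 8]), ([6], [2, 3, 4, 4, 6, 8]), ([7], [2, 3, 4, 4, 6, 6, 7, 8]), ([8], [2, 2, 3, 3, 4, 6, 6, 7, 7, 8, 8])],
    [([1, 3, 5, 5], [1, 2, 2, 4, 4, 6, 6, 7, 7]), ([2, 3], [2, 3, 4, 6, 8, 8]), ([4], [2, 2, 3, 3, 7, 7]), ([6], [2, 2, 3, 3, 4, 7]), ([7], [2, 3, 4, 4, 7, 8]), ([8], [2, 2, 3, 3, 4, 6, 7, 7, 8, 8])],
    [([0], [0, 0, 2, 2, 3, 4, 4, 5, 5, 7, 7, 8, 8]), ([1], [1, 1, 4, 6, 7, 7, 8, 8]), ([2], [3, 3, 5, 7, 7, 8]), ([3], [2, 2, 4, 5, 5, 6, 7, 7, 8]), ([4], [4, 6, 6, 7, 8]), ([5], [4, 5, 5, 6, 7, 8]), ([6], [6, 6, 7, 7]), ([7], [7]), ([8], [8, 8])],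
    [([0], [0, 0, 2, 2, 3, 4, 4, 5, 5, 6, 8, 8]), ([1], [1, 1, 4, 7, 7, 8, 8]), ([2], [3, 3, 5, 7, 7, 8, 8]), ([3], [2, 2, 4, 5, 5, 6, 7, 7]), ([4], [4, 6, 6, 7, 8]), ([5], [4, 5, 5, 6, 7, 8, 8]), ([6], [6, 6, 7, 7]), ([7], [7]), ([8], [8, 8])],
    [([0], [0, 0, 1, 2, 4, 4, 6, 7, 7, 8, 8]), ([1], [1, 5, 6, 6, 7, 7, 8, 8]), ([2], [3, 4, 6, 6, 7, 8]), ([3], [2, 4, 6, 6, 7, 8]), ([4], [4, 4, 8, 8]), ([5], [5, 5]), ([6], [6, 6, 8]), ([7], [7, 7]), ([8], [8])],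
    [([0], [0, 0, 1, 2, 4, 4, 6, 7, 7, 8, 8]), ([1], [1, 5, 6, 6, 7, 7, 8, 8]), ([2], [3, 4, 6, 6, 7, 8]), ([3], [2, 4, 6, 6, 7, 8]), ([4], [4, 4, 8, 8]), ([5], [5, 5]), ([6], [6, 6, 8]), ([7], [7, 7]), ([8], [8])],
    [([0], [0, 0, 4, 5, 5, 7, 8, 8]), ([1], [1, 1, 2, 3, 3, 4, 5, 6, 8]), ([2], [3, 3, 4, 6, 6, 7, 8]), ([3], [2, 2, 4, 6, 8, 8]), ([4], [4]), ([5], [4, 5, 5, 7, 8, 8]), ([6], [6, 6, 7, 8]), ([7], [7, 8, 8]), ([8], [8, 8])],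
    [([0], [0, 0, 4, 5, 5, 7, 8, 8]), ([1], [1, 1, 2, 3, 3, 4, 5, 6, 8]), ([2], [3, 3, 4, 6, 6, 7, 8]), ([3], [2, 2, 4, 6, 8, 8]), ([4], [4]), ([5], [4, 5, 5, 7, 8, 8]), ([6], [6, 6, 7, 8]), ([7], [7, 8, 8]), ([8], [8, 8])],
    [([0, 1, 5, 5], [0, 1, 2, 3, 5, 5, 6, 7, 7]), ([2, 3], [2, 2, 3, 3, 6, 6, 7]), ([4], [4]), ([6], [2, 2, 3, 3, 6, 7, 8, 8]), ([7], [2, 2, 3, 3, 7, 7, 8, 8]), ([8], [4, 4, 6, 6, 7, 8])],
    [([0, 1, 5, 5, 6, 6, 7, 7], [0, 1, 4, 4, 5, 5, 6, 8]), ([2, 3, 6, 8], [0, 1, 2, 2, 3, 3, 4, 4, 5, 5, 6, 7, 7]), ([4, 6, 7, 7], [4, 4, 6, 6, 7])],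
    [([0, 1], [3, 3, 4, 7, 7, 8]), ([2], [3, 5, 5, 6]), ([3], [2, 4, 4, 5, 6, 7]), ([4], [4, 4, 6, 7, 7]), ([5], [0, 0, 1, 1, 2, 2, 4, 4, 5, 6, 7, 7, 8, 8]), ([6], [4, 6]), ([7], [4, 4, 6]), ([8], [8])],
    [([0, 1, 5, 5, 6, 6, 7, 7], [0, 1, 4, 4, 5, 5, 6, 8]), ([2, 3, 6, 8], [0, 1, 2, 2, 3, 3, 4, 5, 5, 8]), ([4, 6, 7, 7], [4, 4, 6, 6, 7])],
    [([1, 3, 5, 5], [1, 1, 2, 2, 4, 4, 5, 6]), ([2, 3, 3, 5, 5], [1, 1, 2, 3, 4, 4, 5, 5, 6, 7, 8, 8]), ([4, 5], [1, 3, 4, 6, 7, 8]), ([6], [1, 1, 3, 3, 4, 5, 5, 7]), ([7], [4, 5, 6, 7, 7, 8, 8]), ([8], [4, 5, 6, 7, 8])],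
    [([1, 3, 5, 5], [4, 4, 5, 5, 6, 7, 7]), ([2, 3, 3, 5, 5], [1, 1, 3, 3, 4, 4, 6, 6]), ([4, 5], [1, 1, 2, 2, 4, 4, 5, 7, 7, 8, 8]), ([6], [1, 2, 5, 6, 6, 7, 7, 8]), ([7], [4, 5, 6, 8, 8]), ([8], [4, 4, 5, 5, 6, 6, 7, 8])],
    [([0], [1, 4, 5, 5, 6, 7, 7, 8]), ([1, 3, 5, 5], [2, 3, 3, 4, 4, 5, 6, 7]), ([2, 3, 3, 5, 5], [4, 4, 5, 5, 6]), ([4, 5], [1, 3, 5, 5, 6, 7, 7, 8, 8]), ([6], [1, 1, 3, 3, 4, 5, 5, 6, 6, 7, 7, 8, 8]), ([7], [4, 5, 6, 8, 8]), ([8], [7, 7, 8, 8])],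
    [([1, 5], [0, 4, 4, 5, 5, 6, 6, 7, 7]), ([2], [0, 0, 1, 2, 4, 4, 6, 6, 8, 8]), ([3, 5], [0, 0, 2, 3, 3, 4, 4, 5, 6, 7, 7, 8]), ([4, 5], [2, 3, 3, 5, 5, 7, 7]), ([6], [2, 2, 3, 4, 4, 6, 7, 8, 8]), ([7], [4, 5, 6, 8, 8]), ([8], [4, 4, 5, 5, 6, 6, 8])],
    [([0, 1, 3], [4, 4, 5, 7, 7, 8]), ([2, 3, 3], [0, 1, 3, 4, 5, 7, 8]), ([4], [2, 2, 3, 4, 5, 5, 6, 6, 7, 7]), ([5], [0, 0, 1, 1, 2, 3, 4, 5, 7, 8]), ([6], [2, 2, 3, 5, 6, 7, 8]), ([7], [0, 1, 3, 4, 5, 5, 7, 7, 8]), ([8], [8, 8])]]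
  overlaps := [
    ([0, 0, 0, 0], [(0, 0), (37, 4), (37, 3), (24, 2), (19, 1), (15, 0), (42, 6), (42, 5), (35, 4), (29, 3), (29, 2), (43, 7), (43, 6), (36, 5), (6, 3), (8, 4), (43, 4), (36, 3), (44, 5), (44, 6), (7, 4), (8, 4)], [(0, 1)]),
    ([1, 1, 1, 1], [(1, 0), (31, 1), (31, 0)], [(1, 1)]),
    ([1, 1, 1, 0], [(1, 0), (30, 1), (30, 0), (44, 3), (44, 2), (8, 3)], [(9, 2), (9, 1), (9, 0), (38, 11), (38, 10), (25, 9), (25, 8), (20, 7), (16, 6), (16, 5), (13, 4), (11, 3), (11, 2), (21, 7), (21, 6), (17, 5), (17, 4), (35, 9), (35, 8), (7, 9), (34, 9), (23, 8), (23, 7), (4, 5), (42, 6), (44, 8), (44, 7), (41, 9), (41, 8), (34, 7), (23, 6), (23, 5), (42, 7), (44, 9), (44, 8), (8, 9), (42, 9), (35, 8), (5, 6), (42, 7), (35, 6), (40, 8), (33, 7), (22, 6), (18, 5), (44, 11), (44, 10), (7, 8), (8, 8), (23, 7), (42, 9), (43, 10), (43, 11),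 (41, 12), (28, 11), (28, 10), (23, 9), (23, 8), (4, 6), (42, 7), (43, 9), (43, 8), (43, 10), (43, 9), (8, 10), (6, 8), (23, 7), (23, 6), (42, 8), (43, 10), (43, 9), (42, 11), (42, 10), (29, 9), (5, 7), (43, 9), (43, 8), (43, 10), (43, 9), (6, 7), (8, 7), (43, 7), (44, 8), (43, 9), (36, 8), (44, 10), (8, 11), (32, 10), (32, 9), (26, 8), (26, 7), (17, 6), (14, 5), (2, 3), (40, 3), (43, 4), (44, 5), (41, 6), (34, 5), (28, 4), (43, 7), (36, 6), (8, 8), (36, 7), (6, 5), (44, 7), (44, 6), (44, 8), (44, 7), (7, 5), (39, 6), (39, 5), (17, 4), (14, 3), (34, 6), (28, 5), (40, 9), (40, 8), (33, 7), (27, 6), (18, 5), (44, 8), (8, 9), (34, 8), (28, 7), (34, 9), (28, 8), (4, 6), (35, 7), (29, 6), (36, 8), (36, 9), (6, 7), (38, 9), (38, 8), (31, 7), (20, 6), (13, 5), (13, 4), (11, 3), (1, 1), (32, 2), (32, 1), (34, 3), (34, 2), (34, 4), (34, 3), (35,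 5), (35, 4), (35, 6), (35, 5), (33, 7), (33, 6), (22, 5), (22, 4), (18, 3), (18, 2), (42, 9), (42, 8), (35, 7), (35, 6), (44, 10), (44, 9), (7, 7), (44, 8), (44, 7), (8, 8), (44, 8), (44, 9), (7, 7), (41, 7), (23, 6), (23, 5), (4, 3), (42, 4), (8, 5), (5, 3), (27, 4), (27, 3), (43, 5), (41, 7), (41, 6), (28, 5), (28, 4), (42, 8), (42, 7), (29, 6), (29, 5), (43, 9), (43, 8), (6, 6), (43, 7), (43, 6), (42, 8), (42, 7), (29, 6), (43, 9), (43, 8), (43, 10), (43, 9), (6, 7), (8, 7), (44, 7), (8, 8), (32, 7), (21, 6), (21, 5), (17, 4), (14, 3), (14, 2), (33, 5), (27, 4), (44, 6), (43, 7), (36, 6), (44, 8), (41, 9), (34, 8), (34, 7), (28, 6), (28, 5), (42, 10), (35, 9), (35, 8), (29, 7), (29, 6), (44, 11), (7, 9), (44, 9), (42, 10), (35, 9), (29, 8), (29, 7), (44, 11), (44, 12), (7, 10), (44, 10), (39, 11), (32, 10), (26, 9), (26, 8), (21, 7),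 (21, 6), (17, 5), (14, 4), (14, 3), (2, 1), (40, 1), (43, 2), (44, 3), (40, 4), (33, 3), (27, 2), (44, 4), (43, 6), (43, 5), (36, 4), (44, 7), (44, 6), (41, 8), (41, 7), (34, 6), (34, 5), (28, 4), (28, 3), (42, 9), (42, 8), (35, 7), (35, 6), (29, 5), (29, 4), (44, 10), (44, 9), (7, 7), (44, 8), (44, 7), (42, 9), (42, 8), (35, 7), (29, 6), (29, 5), (44, 10), (44, 9), (44, 11), (44, 10), (7, 8), (43, 9), (43, 8), (6, 6), (8, 6), (43, 6), (8, 7), (40, 8), (33, 7), (27, 6), (22, 5), (22, 4), (18, 3), (3, 1), (41, 1), (42, 2), (44, 3), (44, 4), (8, 5), (35, 4), (35, 3), (7, 4), (43, 6), (43, 5), (36, 4), (8, 6), (41, 7), (34, 6), (34, 5), (28, 4), (23, 3), (23, 2), (42, 4), (43, 6), (43, 5), (44, 7), (44, 6), (44, 8), (44, 7), (8, 8), (34, 7), (34, 6), (28, 5), (23, 4), (23, 3), (4, 1), (42, 2), (43, 4), (43, 3), (44, 5), (44, 4), (44, 6),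 (44, 5), (42, 7), (42, 6), (35, 5), (35, 4), (29, 3), (5, 1), (43, 5), (43, 4), (36, 3), (36, 2), (43, 6), (43, 5), (36, 4), (36, 3), (6, 1), (8, 3)]),
    ([1, 0, 0, 0], [(0, 1)], [(9, 0), (37, 11), (37, 10), (24, 9), (24, 8), (19, 7), (15, 6), (15, 5), (12, 4), (10, 3), (10, 2), (9, 1), (39, 12), (39, 11), (26, 10), (26, 9), (21, 8), (17, 7), (17, 6), (14, 5), (2, 3), (40, 3), (43, 4), (44, 5), (41, 6), (34, 5), (28, 4), (41, 7), (34, 6), (28, 5), (42, 8), (35, 7), (29, 6), (44, 9), (44, 10), (7, 8), (43, 8), (8, 9), (6, 7), (8, 7), (41, 7), (23, 6), (4, 4), (41, 6), (41, 5), (23, 4), (8, 6), (26, 8), (26, 7), (21, 6), (21, 5), (17, 4), (14, 3), (34, 6), (28, 5), (35, 7), (29, 6), (7, 8), (29, 7), (36, 10), (36, 9), (43, 13), (43, 12), (36, 11), (36, 10), (6, 8), (8, 10), (41, 10), (34, 9), (34, 8), (23, 7), (23, 6), (42, 8), (44, 10),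 (44, 9), (44, 11), (44, 10), (8, 11), (34, 10), (34, 9), (23, 8), (23, 7), (4, 5), (42, 6), (44, 8), (44, 7), (44, 9), (44, 8), (42, 10), (42, 9), (35, 8), (35, 7), (5, 5), (43, 8), (43, 7), (36, 6), (36, 5), (43, 9), (43, 8), (36, 7), (36, 6), (40, 10), (40, 9), (33, 8), (33, 7), (27, 6), (27, 5), (43, 7), (44, 9), (44, 8), (44, 10), (44, 9), (8, 10), (42, 10), (35, 9), (35, 8), (29, 7), (29, 6), (42, 11), (35, 10), (35, 9), (29, 8), (29, 7), (43, 12), (36, 11), (36, 10), (6, 8), (43, 10), (36, 9), (36, 8), (44, 11), (7, 9), (44, 9), (8, 10), (34, 9), (28, 8), (23, 7), (23, 6), (42, 8), (43, 10), (43, 9), (44, 11), (44, 10), (43, 12), (43, 11), (36, 10), (43, 13), (43, 12), (36, 11), (6, 9), (44, 11), (44, 10), (8, 11), (41, 11), (34, 10), (34, 9), (23, 8), (23, 7), (42, 9), (44, 11), (44, 10), (44, 12), (44, 11), (8, 12), (36, 11), (36,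 10), (36, 12), (36, 11), (7, 12), (42, 13), (42, 12), (29, 11), (29, 10), (5, 8), (43, 11), (43, 10), (6, 8), (8, 8), (43, 8), (44, 9), (44, 10), (8, 11), (36, 10), (36, 9), (7, 10), (8, 11), (37, 11), (30, 10), (24, 9), (24, 8), (15, 7), (15, 6), (12, 5), (12, 4), (10, 3), (9, 2), (0, 0), (38, 4), (38, 3), (25, 2), (20, 1), (16, 0), (29, 2), (6, 3), (43, 4), (43, 3), (44, 5), (44, 4), (8, 5), (39, 5), (32, 4), (26, 3), (21, 2), (17, 1), (36, 5), (36, 4), (44, 8), (44, 7), (7, 5), (8, 5), (26, 4), (21, 3), (17, 2), (36, 6), (36, 5), (40, 9), (40, 8), (33, 7), (33, 6), (27, 5), (22, 4), (18, 3), (43, 9), (43, 8), (36, 7), (36, 6), (8, 9), (7, 7), (41, 9), (41, 8), (34, 7), (28, 6), (23, 5), (43, 7), (44, 8), (8, 9), (34, 8), (28, 7), (23, 6), (4, 4), (43, 5), (44, 6), (42, 7), (35, 6), (29, 5), (43, 8), (36, 7), (43, 9), (36, 8), (6, 6),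 (8, 7), (32, 6), (21, 5), (21, 4), (14, 3), (2, 1), (40, 1), (43, 2), (44, 3), (42, 4), (35, 3), (29, 2), (44, 5), (44, 6), (7, 4), (42, 4), (29, 3), (44, 5), (44, 6), (44, 7), (7, 5), (41, 5), (28, 4), (23, 3), (23, 2), (42, 4), (43, 6), (43, 5), (8, 6), (28, 5), (23, 4), (23, 3), (42, 5), (43, 7), (43, 6), (42, 8), (42, 7), (29, 6), (5, 4), (43, 6), (43, 5), (43, 7), (43, 6), (6, 4), (40, 5), (40, 4), (18, 3), (18, 2), (42, 6), (42, 5), (42, 7), (42, 6), (43, 8), (43, 7), (43, 9), (43, 8), (44, 10), (44, 9), (44, 11), (44, 10), (8, 11), (40, 11), (33, 10), (33, 9), (27, 8), (27, 7), (22, 6), (22, 5), (18, 4), (18, 3), (3, 1), (41, 1), (41, 2), (42, 3), (44, 4), (44, 5), (8, 6), (35, 5), (35, 4), (7, 5), (43, 7), (43, 6), (36, 5), (8, 7), (36, 6), (44, 8), (44, 9), (7, 7), (42, 8), (42, 7), (29, 6), (29, 5), (5, 3), (42, 6), (42, 5),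 (29, 4), (29, 3), (43, 7), (43, 6), (6, 4), (43, 5), (43, 4), (44, 6), (44, 5), (44, 7), (44, 6), (8, 7), (41, 7), (34, 6), (34, 5), (28, 4), (23, 3), (4, 1), (43, 2), (44, 3), (44, 4), (43, 6), (43, 5), (36, 4), (36, 3), (43, 7), (43, 6), (36, 5), (36, 4), (6, 2), (44, 5), (44, 4), (7, 2), (8, 2), (41, 2), (23, 1), (43, 4), (43, 3), (43, 5), (43, 4), (44, 6), (44, 5), (8, 6), (43, 6), (36, 5), (6, 3), (44, 4), (44, 5), (7, 3), (8, 3), (44, 7), (44, 6), (7, 4), (8, 4)]),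
    ([2, 2, 2, 2], [(2, 0), (39, 0)], [(2, 1)]),
    ([2, 2, 2, 0], [(2, 0), (37, 0)], [(10, 2), (10, 1), (10, 0), (26, 6), (26, 5), (21, 4), (17, 3), (17, 2), (36, 7), (36, 6), (43, 10), (43, 9), (36, 8), (36, 7), (8, 10), (41, 10), (34, 9), (34, 8), (28, 7), (28, 6), (23, 5), (4, 3), (43, 4), (43, 5), (44, 6), (44, 7), (41, 9), (41, 8), (34, 7), (34, 6), (28, 5), (28, 4), (23, 3), (43, 5), (43, 6), (44, 7), (44, 8), (8, 9), (35, 8), (35, 7), (29, 6), (29, 5), (36, 9), (36, 8), (6, 6), (36, 7), (36, 6), (32, 8), (32, 7), (26, 6), (21, 5), (21, 4), (17, 3), (2, 1), (41, 1), (42, 2), (44, 3), (44, 4), (42, 5), (35, 4), (35, 3), (44, 6), (7, 4), (44, 4), (43, 5), (36, 4), (8, 6), (7, 5), (28, 4), (23, 3), (23, 2), (42, 4), (43, 6), (43, 5), (41, 7), (41, 6), (28, 5), (23, 4), (23, 3), (4, 1), (42, 2), (43, 4), (43, 3), (8, 4), (42, 4), (29,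 3), (5, 1), (43, 2), (43, 3), (6, 1)]),
    ([2, 0, 0, 0], [(0, 1)], [(10, 0), (24, 6), (24, 5), (19, 4), (15, 3), (15, 2), (10, 1), (28, 7), (28, 6), (23, 5), (4, 3), (43, 4), (43, 5), (43, 6), (6, 4), (43, 4), (44, 5), (8, 6), (34, 5), (28, 4), (23, 3), (43, 5), (44, 6), (43, 7), (36, 6), (43, 8), (36, 7), (6, 5), (44, 6), (8, 7), (35, 6), (35, 5), (36, 7), (36, 6), (43, 10), (43, 9), (36, 8), (36, 7), (44, 11), (44, 10), (7, 8), (44, 9), (44, 8), (8, 9), (43, 9), (36, 8), (6, 6), (44, 7), (44, 8), (7, 6), (8, 6), (19, 5), (19, 4), (15, 3), (10, 2), (0, 0), (39, 4), (39, 3), (26, 2), (21, 1), (17, 0), (36, 4), (36, 3), (8, 6), (41, 6), (34, 5), (34, 4), (28, 3), (23, 2), (43, 4), (44, 5), (44, 6), (41, 8), (41, 7), (34, 6), (34, 5), (28, 4), (23, 3), (4, 1), (43, 2), (44, 3), (44, 4), (8, 5), (35, 4), (35, 3), (29, 2), (36, 5), (36,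 4), (36, 6), (36, 5), (6, 3), (34, 4), (34, 3), (23, 2), (23, 1), (42, 3), (44, 5), (44, 4), (44, 6), (44, 5), (43, 7), (43, 6), (36, 5), (36, 4), (43, 8), (43, 7), (36, 6), (36, 5), (44, 9), (44, 8), (7, 6), (8, 6), (42, 6), (29, 5), (29, 4), (5, 2), (43, 4), (6, 2), (8, 2)]),
    ([2, 2, 2, 1], [(2, 0), (38, 0)], [(11, 2), (11, 1), (11, 0), (21, 5), (21, 4), (17, 3), (17, 2), (35, 7), (35, 6), (7, 7), (34, 7), (23, 6), (23, 5), (4, 3), (42, 4), (44, 6), (44, 5), (41, 7), (41, 6), (34, 5), (23, 4), (23, 3), (42, 5), (44, 7), (44, 6), (8, 7), (42, 7), (35, 6), (5, 4), (42, 5), (35, 4), (39, 6), (32, 5), (21, 4), (17, 3), (2, 1), (41, 1), (42, 2), (44, 3), (44, 4), (44, 5), (7, 3), (41, 4), (41, 3), (23, 2), (8, 4), (23, 3), (4, 1), (42, 2), (42, 3), (5, 1)]),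
    ([2, 1, 1, 1], [(1, 1)], [(11, 0), (20, 5), (20, 4), (16, 3), (16, 2), (11, 1), (23, 6), (23, 5), (4, 3), (42, 4), (43, 6), (43, 5), (41, 7), (41, 6), (28, 5), (23, 4), (23, 3), (42, 5), (43, 7), (43, 6), (8, 7), (43, 7), (42, 8), (29, 7), (29, 6), (5, 4), (43, 6), (6, 4), (43, 4), (8, 5), (29, 4), (6, 5), (38, 6), (38, 5), (20, 4), (16, 3), (11, 2), (1, 0), (32, 1), (32, 0), (34, 2), (34, 1), (34, 3), (34, 2), (35, 4), (35, 3), (35, 5), (35, 4), (34, 6), (34, 5), (23, 4), (23, 3), (4, 1), (42, 2), (44, 4), (44, 3), (44, 5), (44, 4), (43, 6), (43, 5), (36, 4), (36, 3), (42, 7), (42, 6), (35, 5), (35, 4), (29, 3), (5, 1), (43, 5), (43, 4), (36, 3), (36, 2), (43, 6), (43, 5), (36, 4), (36, 3), (6, 1), (8, 3), (8, 3)]),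
    ([2, 1, 0], [(11, 0), (19, 5), (19, 4), (15, 3), (15, 2), (10, 1), (9, 0), (39, 11), (39, 10), (26, 9), (26, 8), (21, 7), (17, 6), (17, 5), (14, 4), (2, 2), (40, 2), (43, 3), (44, 4), (41, 5), (34, 4), (28, 3), (41, 6), (34, 5), (28, 4), (42, 7), (35, 6), (29, 5), (44, 8), (44, 9), (7, 7), (43, 7), (8, 8), (6, 6), (8, 6), (41, 6), (23, 5), (4, 3), (41, 5), (41, 4), (23, 3), (8, 5), (28, 7), (28, 6), (23, 5), (23, 4), (42, 6), (43, 8), (43, 7), (43, 9), (43, 8), (43, 10), (43, 9), (6, 7), (43, 8), (43, 7), (44, 9), (44, 8), (8, 9), (41, 9), (34, 8), (28, 7), (23, 6), (23, 5), (4, 3), (42, 4), (43, 6), (43, 5), (44, 7), (44, 6), (8, 7), (36, 6), (36, 7), (6, 5), (42, 8), (42, 7), (35, 6), (35, 5), (5, 3), (43, 6), (43, 5), (36, 4), (36, 3), (8, 6), (42, 6), (35, 5), (35, 4), (29, 3), (43, 7), (36, 6), (36, 5), (8, 8)], [(9, 1), (10,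 0), (25, 6), (25, 5), (20, 4), (16, 3), (16, 2), (11, 1), (23, 6), (23, 5), (4, 3), (42, 4), (43, 6), (43, 5), (41, 7), (41, 6), (28, 5), (23, 4), (23, 3), (42, 5), (43, 7), (43, 6), (8, 7), (43, 7), (42, 8), (29, 7), (29, 6), (5, 4), (43, 6), (6, 4), (43, 4), (8, 5), (36, 6), (6, 4), (32, 5), (32, 4), (17, 3), (32, 6), (32, 5), (17, 4), (2, 2), (41, 2), (44, 3), (44, 4), (40, 5), (33, 4), (33, 3), (18, 2), (41, 6), (34, 5), (34, 4), (41, 7), (34, 6), (34, 5), (4, 3), (42, 5), (35, 4), (35, 3), (43, 6), (36, 5), (36, 4), (43, 7), (36, 6), (36, 5), (8, 8)]),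
    ([3, 3, 3, 3], [(3, 0), (40, 0)], [(3, 1)]),
    ([3, 3, 3, 0], [(3, 0), (37, 0)], [(12, 2), (12, 1), (12, 0), (40, 9), (40, 8), (33, 7), (33, 6), (27, 5), (27, 4), (22, 3), (22, 2), (42, 7), (42, 6), (35, 5), (35, 4), (44, 8), (44, 7), (7, 5), (44, 6), (44, 5), (8, 6), (43, 6), (36, 5), (43, 8), (43, 7), (36, 6), (8, 8), (7, 7), (42, 8), (42, 7), (29, 6), (29, 5), (5, 3), (42, 6), (42, 5), (29, 4), (29, 3), (43, 7), (43, 6), (6, 4), (43, 5), (43, 4), (44, 6), (44, 5), (44, 7), (44, 6), (8, 7), (40, 7), (33, 6), (33, 5), (27, 4), (22, 3), (3, 1), (42, 1), (44, 2), (44, 3), (8, 4), (36, 3), (36, 2), (44, 5), (7, 3), (44, 3), (42, 5), (42, 4), (35, 3), (29, 2), (42, 6), (42, 5), (35, 4), (29, 3), (5, 1), (43, 4), (43, 3), (36, 2), (43, 5), (43, 4), (36, 3), (6, 1), (44, 3), (44, 2), (44, 4), (44, 3), (7, 1), (8, 1)]),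
    ([3, 0, 0, 0], [(0, 1)], [(12, 0), (37, 9), (37, 8), (30, 7), (30, 6), (24, 5), (24, 4), (19, 3), (19, 2), (12, 1), (42, 10), (42, 9), (35, 8), (35, 7), (29, 6), (29, 5), (5, 3), (43, 8), (43, 7), (36, 6), (36, 5), (6, 3), (8, 5), (42, 5), (35, 4), (35, 3), (43, 6), (36, 5), (36, 4), (8, 7), (36, 6), (36, 5), (7, 6), (43, 8), (43, 7), (36, 6), (6, 4), (44, 6), (44, 5), (44, 7), (44, 6), (7, 4), (8, 4), (44, 4), (8, 5), (8, 6), (37, 6), (30, 5), (30, 4), (19, 3), (12, 2), (0, 0), (40, 4), (40, 3), (27, 2), (22, 1), (18, 0), (43, 6), (43, 5), (36, 4), (36, 3), (8, 6), (42, 7), (42, 6), (35, 5), (35, 4), (29, 3), (42, 8), (42, 7), (35, 6), (35, 5), (29, 4), (5, 2), (43, 6), (43, 5), (36, 4), (36, 3), (43, 7), (43, 6), (36, 5), (36, 4), (6, 2), (44, 5), (44, 4), (7, 2), (44, 3), (44, 2), (8, 3), (42, 3), (35, 2), (43, 4), (36, 3), (8,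 5), (44, 7), (44, 6), (7, 4), (8, 4)]),
    ([3, 3, 3, 1], [(3, 0), (38, 0)], [(13, 2), (13, 1), (13, 0), (27, 5), (27, 4), (22, 3), (18, 2), (43, 8), (43, 7), (36, 6), (36, 5), (8, 8), (36, 7), (36, 6), (41, 9), (34, 8), (34, 7), (28, 6), (28, 5), (23, 4), (43, 6), (43, 7), (44, 8), (44, 9), (42, 11), (42, 10), (35, 9), (35, 8), (29, 7), (29, 6), (43, 12), (43, 11), (36, 10), (36, 9), (6, 7), (43, 10), (43, 9), (36, 8), (36, 7), (40, 11), (40, 10), (33, 9), (33, 8), (27, 7), (22, 6), (22, 5), (18, 4), (18, 3), (3, 1), (41, 1), (41, 2), (42, 3), (44, 4), (44, 5), (8, 6), (35, 5), (35, 4), (7, 5), (43, 7), (43, 6), (36, 5), (8, 7), (7, 6), (41, 7), (41, 6), (28, 5), (23, 4), (23, 3), (4, 1), (42, 2), (43, 4), (43, 3), (8, 4), (42, 4), (29, 3), (5, 1), (43, 2), (43, 3), (6, 1)]),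
    ([3, 1, 1, 1], [(1, 1)], [(13, 0), (25, 5), (25, 4), (20, 3), (16, 2), (13, 1), (28, 6), (28, 5), (23, 4), (43, 6), (43, 7), (43, 8), (6, 6), (42, 6), (43, 7), (43, 8), (8, 9), (6, 7), (36, 7), (31, 9), (31, 8), (25, 7), (20, 6), (20, 5), (16, 4), (16, 3), (13, 2), (1, 0), (33, 1), (33, 0), (34, 2), (34, 1), (35, 3), (35, 2), (36, 4), (36, 3), (36, 5), (36, 4), (34, 6), (34, 5), (28, 4), (28, 3), (23, 2), (43, 4), (43, 5), (44, 6), (44, 7), (43, 8), (36, 7), (36, 6), (6, 4), (41, 6), (34, 5), (34, 4), (23, 3), (4, 1), (44, 2), (44, 3), (43, 5), (43, 4), (36, 3), (36, 2), (42, 6), (42, 5), (35, 4), (35, 3), (29, 2), (43, 7), (43, 6), (36, 5), (36, 4), (43, 8), (43, 7), (36, 6), (36, 5), (6, 3), (8, 5), (42, 5), (35, 4), (35, 3), (5, 1), (43, 3), (36, 2), (36, 1), (43, 4), (36, 3), (36, 2), (8, 5), (36, 4), (36, 3), (6, 1), (7, 1)]),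
    ([3, 1, 0], [(13, 0), (24, 5), (24, 4), (19, 3), (15, 2), (12, 1), (9, 0), (40, 11), (40, 10), (27, 9), (27, 8), (22, 7), (18, 6), (18, 5), (43, 12), (43, 11), (36, 10), (36, 9), (8, 12), (36, 11), (36, 10), (8, 13), (35, 12), (35, 11), (29, 10), (29, 9), (35, 13), (35, 12), (29, 11), (29, 10), (5, 8), (36, 11), (36, 10), (6, 8), (36, 9), (36, 8), (7, 9), (41, 11), (41, 10), (34, 9), (28, 8), (4, 6), (43, 9), (43, 8), (36, 7), (43, 10), (43, 9), (36, 8), (6, 6), (44, 8), (44, 7), (8, 8), (42, 8), (35, 7), (35, 6), (43, 9), (36, 8), (36, 7), (8, 10), (36, 9), (36, 8), (7, 9), (43, 11), (43, 10), (36, 9), (6, 7), (44, 9), (44, 8), (44, 10), (44, 9), (7, 7), (8, 7)], [(9, 1), (12, 0), (38, 9), (38, 8), (31, 7), (31, 6), (25, 5), (25, 4), (20, 3), (20, 2), (13, 1), (29, 6), (29, 5), (6, 6), (42, 8), (42, 7), (29, 6), (5, 4), (43, 6), (43,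 5), (43, 7), (43, 6), (6, 4), (8, 4), (43, 4), (44, 5), (43, 6), (36, 5), (44, 7), (44, 8), (7, 6), (44, 6), (8, 7), (32, 6), (26, 5), (26, 4), (17, 3), (14, 2), (34, 5), (28, 4), (36, 6), (43, 9), (43, 8), (36, 7), (6, 5), (8, 6), (44, 6), (39, 7), (32, 6), (32, 5), (17, 4), (14, 3), (34, 6), (28, 5), (7, 7), (40, 7), (27, 6), (18, 5), (41, 9), (41, 8), (28, 7), (41, 10), (41, 9), (28, 8), (4, 6), (42, 8), (42, 7), (29, 6), (43, 9), (43, 8), (43, 10), (43, 9), (6, 7), (8, 7)]),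
    ([3, 3, 3, 2], [(3, 0), (39, 0)], [(14, 2), (14, 1), (14, 0), (33, 3), (27, 2), (44, 4), (43, 5), (36, 4), (44, 6), (40, 7), (33, 6), (33, 5), (27, 4), (27, 3), (3, 1), (43, 1), (43, 3), (43, 2), (8, 3), (43, 5), (36, 4), (36, 3), (6, 1), (44, 3), (7, 1)]),
    ([3, 2, 2, 2], [(2, 1)], [(14, 0), (32, 3), (26, 2), (14, 1), (36, 4), (44, 7), (44, 6), (39, 8), (39, 7), (32, 6), (32, 5), (26, 4), (26, 3), (14, 2), (2, 0), (40, 0), (43, 1), (44, 2), (43, 3), (36, 2), (8, 4), (36, 3), (6, 1), (44, 3), (44, 2), (44, 4), (44, 3), (7, 1), (8, 1)]),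
    ([3, 2, 0], [(14, 0), (30, 3), (24, 2), (12, 1), (10, 0), (27, 6), (27, 5), (22, 4), (18, 3), (18, 2), (43, 9), (43, 8), (36, 7), (36, 6), (8, 9), (36, 8), (36, 7), (42, 10), (35, 9), (35, 8), (29, 7), (29, 6), (42, 11), (35, 10), (35, 9), (29, 8), (29, 7), (5, 5), (43, 9), (36, 8), (36, 7), (6, 5), (43, 7), (36, 6), (36, 5), (44, 8), (7, 6), (44, 6), (8, 7), (36, 6), (7, 7), (44, 8), (44, 7), (8, 8)], [(10, 1), (12, 0), (39, 9), (39, 8), (32, 7), (32, 6), (26, 5), (26, 4), (21, 3), (21, 2), (14, 1), (35, 4), (29, 3), (7, 5), (29, 4), (36, 7), (36, 6), (43, 10), (43, 9), (36, 8), (36, 7), (6, 5), (8, 7), (44, 7), (7, 5), (44, 5), (8, 6), (34, 5), (23, 4), (23, 3), (42, 5), (44, 7), (44, 6), (41, 8), (41, 7), (34, 6), (23, 5), (23, 4), (42, 6), (44, 8), (44, 7), (8, 8), (42, 8), (35, 7), (5, 5), (43, 6), (36, 5), (43, 7), (36, 6)]),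
    ([3, 2, 1], [(14, 0), (31, 3), (25, 2), (13, 1), (11, 0), (22, 5), (22, 4), (18, 3), (18, 2), (42, 9), (42, 8), (35, 7), (35, 6), (44, 10), (44, 9), (7, 7), (44, 8), (44, 7), (8, 8), (41, 8), (34, 7), (23, 6), (23, 5), (4, 3), (42, 4), (44, 6), (44, 5), (8, 6), (35, 5), (5, 3), (36, 3), (36, 4), (36, 5), (6, 3), (7, 3)], [(11, 1), (13, 0), (26, 5), (26, 4), (21, 3), (17, 2), (14, 1), (34, 4), (28, 3), (35, 5), (29, 4), (7, 6), (43, 8), (43, 7), (6, 5), (8, 5), (41, 5), (23, 4), (41, 7), (41, 6), (23, 5), (4, 3), (8, 4), (5, 3)]),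
    ([4, 4, 4, 0], [(4, 0)], [(15, 2), (15, 1), (15, 0), (41, 6), (41, 5), (34, 4), (28, 3), (28, 2), (43, 7), (43, 6), (36, 5), (6, 3), (43, 5), (43, 4), (36, 3), (44, 6), (44, 5), (8, 6), (41, 6), (34, 5), (34, 4), (28, 3), (4, 1), (43, 4), (36, 3), (36, 2), (43, 5), (36, 4), (36, 3), (6, 1), (44, 3), (7, 1), (8, 1)]),
    ([4, 0, 0, 0], [(0, 1)], [(15, 0), (37, 6), (37, 5), (30, 4), (24, 3), (24, 2), (15, 1), (43, 7), (43, 6), (36, 5), (6, 3), (44, 5), (44, 4), (44, 6), (44, 5), (7, 3), (8, 3), (43, 3), (44, 4), (44, 5), (8, 6), (7, 4), (8, 4), (37, 4), (24, 3), (15, 2), (0, 0), (41, 4), (41, 3), (28, 2), (23, 1), (43, 3), (8, 4), (6, 3), (43, 5), (43, 4), (36, 3), (44, 6), (44, 5), (44, 7), (44, 6), (7, 4), (8, 4)]),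
    ([4, 4, 4, 1], [(4, 0)], [(16, 2), (16, 1), (16, 0), (28, 2), (28, 4), (28, 3), (4, 1), (6, 1)]),
    ([4, 1, 1, 1], [(1, 1)], [(16, 0), (25, 2), (16, 1), (31, 5), (25, 4), (25, 3), (16, 2), (1, 0), (34, 1), (34, 0), (36, 2), (36, 1), (36, 3), (36, 2), (7, 3), (6, 1)]),
    ([4, 1, 0], [(16, 0), (24, 2), (15, 1), (9, 0), (41, 11), (41, 10), (28, 9), (28, 8), (23, 7), (4, 5), (43, 6), (43, 7), (8, 8), (6, 6), (43, 9), (43, 8), (36, 7), (44, 10), (44, 9), (44, 11), (44, 10), (7, 8), (8, 8)], [(9, 1), (15, 0), (38, 6), (38, 5), (31, 4), (25, 3), (25, 2), (16, 1), (36, 5), (6, 3), (7, 3), (39, 4), (39, 3), (17, 2), (39, 5), (39, 4), (17, 3), (40, 6), (40, 5), (18, 4), (41, 7), (41, 6), (41, 8), (41, 7), (4, 5), (42, 6), (42, 5), (43, 7), (43, 6), (43, 8), (43, 7), (8, 8)]),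
    ([4, 4, 4, 2], [(4, 0)], [(17, 2), (17, 1), (17, 0), (4, 1)]),
    ([4, 2, 2, 2], [(2, 1)], [(17, 0), (17, 1), (17, 2), (2, 0), (41, 0)]),
    ([4, 2, 0], [(17, 0), (15, 1), (10, 0), (28, 6), (28, 5), (23, 4), (4, 2), (43, 3), (43, 4), (43, 5), (6, 3), (43, 3), (44, 4), (8, 5)], [(10, 1), (15, 0), (39, 6), (39, 5), (32, 4), (26, 3), (26, 2), (17, 1), (43, 5), (43, 4), (8, 5), (44, 5), (8, 6), (34, 5), (28, 4), (28, 3), (34, 6), (28, 5), (28, 4), (4, 2), (35, 4), (29, 3), (29, 2), (36, 5), (6, 3), (36, 3)]),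
    ([4, 2, 1], [(17, 0), (16, 1), (11, 0), (23, 5), (23, 4), (4, 2), (42, 3), (43, 5), (43, 4)], [(11, 1), (16, 0), (26, 2), (17, 1), (41, 5), (41, 4), (28, 3), (41, 6), (41, 5), (28, 4), (4, 2), (42, 4), (42, 3), (29, 2), (42, 5), (42, 4), (29, 3)]),
    ([4, 3, 0], [(18, 0), (15, 1), (12, 0), (41, 9), (41, 8), (34, 7), (34, 6), (28, 5), (28, 4), (23, 3), (23, 2), (42, 4), (43, 6), (43, 5), (43, 7), (43, 6), (44, 8), (44, 7), (44, 9), (44, 8), (8, 9), (43, 9), (36, 8), (36, 7), (6, 5), (43, 7), (36, 6), (36, 5), (44, 8), (7, 6), (8, 6)], [(12, 1), (15, 0), (40, 6), (40, 5), (33, 4), (27, 3), (27, 2), (18, 1), (43, 4), (44, 6), (44, 5), (8, 6), (42, 6), (35, 5), (29, 4), (29, 3), (42, 7), (35, 6), (29, 5), (29, 4), (43, 8), (36, 7), (6, 5), (43, 6), (36, 5), (44, 7), (44, 8), (7, 6), (8, 6)]),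
    ([4, 3, 1], [(18, 0), (16, 1), (13, 0), (28, 5), (28, 4), (23, 3), (43, 5), (43, 6), (43, 7), (6, 5)], [(13, 1), (16, 0), (27, 2), (18, 1), (41, 4), (28, 3), (42, 5), (29, 4), (43, 6), (43, 7), (6, 5)]),
    ([4, 3, 2], [(18, 0), (17, 1), (14, 0), (34, 3), (28, 2)], [(14, 1), (17, 0), (18, 1)])]
  fuses := [
    ⟨0, [0, 0, 0], [4, 5, 6, 8, 8], [(0, 0)], [], [(37, 7), (24, 6), (24, 5), (19, 4), (10, 3), (9, 2), (0, 0), (38, 4), (38, 3), (25, 2), (20, 1), (16, 0), (29, 2), (6, 3), (43, 4), (43, 3), (44, 5), (44, 4), (8, 5), (39, 5), (32, 4), (26, 3), (21, 2), (17, 1), (36, 5), (36, 4), (44, 8), (44, 7), (7, 5), (8, 5), (26, 4), (21, 3), (17, 2), (36, 6), (36, 5), (40, 9), (40, 8), (33, 7), (33, 6), (27, 5), (22, 4), (18, 3), (43, 9), (43, 8), (36, 7), (36, 6), (8, 9), (7, 7), (41, 9), (41, 8), (34, 7), (28, 6), (23, 5), (43, 7), (44,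 8), (8, 9), (34, 8), (28, 7), (23, 6), (4, 4), (43, 5), (44, 6), (42, 7), (35, 6), (29, 5), (43, 8), (36, 7), (43, 9), (36, 8), (6, 6), (8, 7), (32, 6), (21, 5), (21, 4), (14, 3), (2, 1), (40, 1), (43, 2), (44, 3), (42, 4), (35, 3), (29, 2), (44, 5), (44, 6), (7, 4), (42, 4), (29, 3), (44, 5), (44, 6), (44, 7), (7, 5), (41, 5), (28, 4), (23, 3), (23, 2), (42, 4), (43, 6), (43, 5), (8, 6), (28, 5), (23, 4), (23, 3), (42, 5), (43, 7), (43, 6), (42, 8), (42, 7), (29, 6), (5, 4), (43, 6), (43, 5), (43, 7), (43, 6), (6, 4), (42, 5), (42, 4), (43, 6), (43, 5), (8, 6), (43, 6), (44, 7), (44, 8), (8, 9), (36, 8), (36, 7), (6, 5), (7, 5), (8, 6), (30, 5), (19, 4), (15, 3), (15, 2), (12, 1), (9, 0), (40, 11), (40, 10), (27, 9), (27, 8), (22, 7), (18, 6), (18, 5), (43, 12), (43, 11), (36, 10), (36, 9), (8, 12), (36, 11), (36, 10), (8, 13), (35, 12),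 (35, 11), (29, 10), (29, 9), (35, 13), (35, 12), (29, 11), (29, 10), (5, 8), (36, 11), (36, 10), (6, 8), (36, 9), (36, 8), (7, 9), (41, 11), (41, 10), (34, 9), (28, 8), (4, 6), (43, 9), (43, 8), (36, 7), (43, 10), (43, 9), (36, 8), (6, 6), (44, 8), (44, 7), (8, 8), (41, 8), (34, 7), (34, 6), (43, 9), (36, 8), (36, 7), (43, 10), (36, 9), (36, 8), (44, 11), (7, 9), (8, 9), (29, 8), (29, 7), (6, 8), (44, 9), (44, 8), (8, 9), (38, 9), (31, 8), (20, 7), (16, 6), (13, 5), (13, 4), (11, 3), (11, 2), (21, 7), (21, 6), (17, 5), (17, 4), (35, 9), (35, 8), (7, 9), (34, 9), (23, 8), (23, 7), (4, 5), (42, 6), (44, 8), (44, 7), (41, 9), (41, 8), (34, 7), (23, 6), (23, 5), (42, 7), (44, 9), (44, 8), (8, 9), (42, 9), (35, 8), (5, 6), (42, 7), (35, 6), (40, 8), (33, 7), (22, 6), (18, 5), (44, 11), (44, 10), (7, 8), (8, 8), (23, 7), (42, 9), (43, 10), (43,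 11), (40, 12), (27, 11), (27, 10), (22, 9), (22, 8), (18, 7), (18, 6), (42, 13), (42, 12), (35, 11), (35, 10), (44, 14), (44, 13), (7, 11), (44, 12), (44, 11), (8, 12), (43, 12), (36, 11), (43, 14), (43, 13), (36, 12), (8, 14), (41, 14), (34, 13), (28, 12), (28, 11), (23, 10), (23, 9), (4, 7), (42, 8), (43, 10), (43, 9), (43, 11), (43, 10), (44, 12), (44, 11), (8, 12), (35, 11), (29, 10), (29, 9), (5, 7), (36, 9), (6, 7), (36, 7), (34, 8), (28, 7), (36, 9), (35, 10), (29, 9), (29, 8), (36, 11), (6, 9), (36, 9), (44, 12), (44, 11), (8, 12), (32, 11), (32, 10), (26, 9), (21, 8), (17, 7), (14, 6), (14, 5), (2, 3), (40, 3), (43, 4), (44, 5), (40, 6), (33, 5), (27, 4), (44, 6), (43, 8), (43, 7), (36, 6), (44, 9), (44, 8), (41, 10), (41, 9), (34, 8), (34, 7), (28, 6), (28, 5), (42, 11), (42, 10), (35, 9), (35, 8), (29, 7), (29, 6), (44, 12),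 (44, 11), (7, 9), (44, 10), (44, 9), (43, 11), (43, 10), (36, 9), (6, 7), (8, 8), (44, 8), (44, 9), (7, 7), (42, 7), (43, 8), (43, 9), (37, 11), (37, 10), (24, 9), (24, 8), (19, 7), (19, 6), (15, 5), (12, 4), (12, 3), (9, 2), (9, 1), (38, 12), (38, 11), (25, 10), (25, 9), (20, 8), (16, 7), (16, 6), (13, 5), (11, 4), (11, 3), (21, 8), (21, 7), (17, 6), (17, 5), (35, 10), (35, 9), (7, 10), (34, 10), (23, 9), (23, 8), (4, 6), (42, 7), (44, 9), (44, 8), (41, 10), (41, 9), (34, 8), (23, 7), (23, 6), (42, 8), (44, 10), (44, 9), (8, 10), (42, 10), (35, 9), (5, 7), (42, 8), (35, 7), (40, 9), (33, 8), (22, 7), (18, 6), (44, 12), (44, 11), (7, 9), (8, 9), (23, 8), (42, 10), (43, 11), (43, 12), (41, 13), (28, 12), (28, 11), (23, 10), (23, 9), (4, 7), (42, 8), (43, 10), (43, 9), (43, 11), (43, 10), (8, 11), (6, 9), (23, 8), (23, 7), (42, 9), (43,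 11), (43, 10), (42, 12), (42, 11), (29, 10), (5, 8), (43, 10), (43, 9), (43, 11), (43, 10), (6, 8), (8, 8), (43, 8), (44, 9), (43, 10), (36, 9), (44, 11), (8, 12), (32, 11), (32, 10), (26, 9), (26, 8), (17, 7), (14, 6), (2, 4), (40, 4), (43, 5), (44, 6), (41, 7), (34, 6), (28, 5), (43, 8), (36, 7), (8, 9), (36, 8), (6, 6), (44, 8), (44, 7), (44, 9), (44, 8), (7, 6), (39, 7), (39, 6), (17, 5), (14, 4), (34, 7), (28, 6), (40, 10), (40, 9), (33, 8), (27, 7), (18, 6), (44, 9), (8, 10), (34, 9), (28, 8), (34, 10), (28, 9), (4, 7), (35, 8), (29, 7), (36, 9), (36, 10), (6, 8), (40, 10), (40, 9), (33, 8), (22, 7), (3, 5), (42, 5), (44, 6), (44, 7), (8, 8), (7, 6), (42, 7), (42, 6), (42, 8), (42, 7), (5, 5), (43, 6), (43, 5), (43, 7), (43, 6), (44, 8), (44, 7), (44, 9), (44, 8), (8, 9), (40, 9), (33, 8), (33, 7), (27, 6), (27, 5), (43, 7), (44,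 9), (44, 8), (44, 10), (44, 9), (8, 10), (35, 9), (35, 8), (29, 7), (29, 6), (35, 10), (35, 9), (29, 8), (29, 7), (36, 11), (36, 10), (6, 8), (36, 9), (36, 8), (7, 9), (41, 11), (41, 10), (34, 9), (28, 8), (23, 7), (23, 6), (42, 8), (43, 10), (43, 9), (44, 11), (44, 10), (8, 11), (43, 11), (36, 10), (43, 12), (36, 11), (6, 9), (44, 10), (8, 11), (35, 10), (35, 9), (5, 7), (36, 8), (36, 7), (42, 11), (42, 10), (35, 9), (35, 8), (29, 7), (43, 12), (43, 11), (36, 10), (36, 9), (8, 12), (43, 12), (36, 11), (36, 10), (6, 8), (44, 10), (7, 8), (44, 8), (8, 9), (36, 8), (7, 9), (8, 9), (37, 9), (24, 8), (19, 7), (15, 6), (12, 5), (10, 4), (9, 3), (9, 2), (0, 0), (38, 4), (38, 3), (25, 2), (20, 1), (16, 0), (29, 2), (6, 3), (43, 4), (43, 3), (44, 5), (44, 4), (8, 5), (39, 5), (32, 4), (26, 3), (21, 2), (17, 1), (36, 5), (36, 4), (44, 8), (44,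 7), (7, 5), (8, 5), (26, 4), (21, 3), (17, 2), (36, 6), (36, 5), (40, 9), (40, 8), (33, 7), (33, 6), (27, 5), (22, 4), (18, 3), (43, 9), (43, 8), (36, 7), (36, 6), (8, 9), (7, 7), (41, 9), (41, 8), (34, 7), (28, 6), (23, 5), (43, 7), (44, 8), (8, 9), (34, 8), (28, 7), (23, 6), (4, 4), (43, 5), (44, 6), (42, 7), (35, 6), (29, 5), (43, 8), (36, 7), (43, 9), (36, 8), (6, 6), (8, 7), (31, 6), (20, 5), (20, 4), (13, 3), (11, 2), (11, 1), (21, 6), (21, 5), (17, 4), (17, 3), (35, 8), (35, 7), (7, 8), (34, 8), (23, 7), (23, 6), (4, 4), (42, 5), (44, 7), (44, 6), (41, 8), (41, 7), (34, 6), (23, 5), (23, 4), (42, 6), (44, 8), (44, 7), (8, 8), (42, 8), (35, 7), (5, 5), (42, 6), (35, 5), (40, 7), (33, 6), (22, 5), (18, 4), (44, 10), (44, 9), (7, 7), (8, 7), (23, 6), (42, 8), (43, 9), (43, 10), (42, 11), (29, 10), (29, 9), (5, 7), (43, 9), (6, 7),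 (43, 7), (8, 8), (29, 7), (6, 8), (44, 9), (44, 8), (39, 10), (39, 9), (32, 8), (21, 7), (17, 6), (17, 5), (14, 4), (2, 2), (40, 2), (43, 3), (44, 4), (41, 5), (34, 4), (28, 3), (41, 6), (34, 5), (28, 4), (42, 7), (35, 6), (29, 5), (44, 8), (44, 9), (7, 7), (44, 7), (8, 8), (32, 7), (26, 6), (21, 5), (17, 4), (17, 3), (14, 2), (34, 5), (28, 4), (34, 6), (28, 5), (35, 7), (29, 6), (7, 8), (44, 10), (44, 9), (40, 11), (40, 10), (33, 9), (27, 8), (27, 7), (22, 6), (18, 5), (18, 4), (43, 11), (43, 10), (36, 9), (36, 8), (8, 11), (36, 10), (36, 9), (44, 12), (7, 10), (8, 10), (28, 9), (28, 8), (23, 7), (4, 5), (43, 6), (43, 7), (41, 8), (28, 7), (28, 6), (23, 5), (43, 7), (43, 8), (42, 10), (42, 9), (29, 8), (29, 7), (43, 11), (43, 10), (6, 8), (43, 9), (43, 8), (8, 9), (39, 9), (26, 8), (21, 7), (21, 6), (17, 5), (14, 4), (14, 3), (33, 6),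 (27, 5), (44, 7), (43, 8), (36, 7), (44, 9), (41, 10), (34, 9), (34, 8), (28, 7), (28, 6), (42, 11), (35, 10), (35, 9), (29, 8), (29, 7), (44, 12), (7, 10), (44, 10), (42, 11), (35, 10), (29, 9), (29, 8), (44, 12), (44, 13), (7, 11), (43, 11), (6, 9), (8, 9), (41, 9), (23, 8), (23, 7), (42, 9), (8, 10), (23, 9), (23, 8), (4, 6), (42, 7), (42, 9), (42, 8), (5, 6), (43, 7), (43, 6), (43, 8), (43, 7), (40, 9), (40, 8), (27, 7), (27, 6), (3, 4), (43, 4), (43, 6), (43, 5), (8, 6), (42, 7), (42, 6), (29, 5), (29, 4), (42, 8), (42, 7), (29, 6), (29, 5), (43, 9), (43, 8), (6, 6), (43, 7), (43, 6), (44, 8), (44, 7), (44, 9), (44, 8), (8, 9), (41, 9), (34, 8), (34, 7), (28, 6), (23, 5), (23, 4), (42, 6), (43, 8), (43, 7), (44, 9), (44, 8), (44, 10), (44, 9), (8, 10), (36, 9), (36, 8), (36, 10), (36, 9), (6, 7), (7, 7), (42, 8), (42, 7), (5, 5),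 (43, 6), (43, 5), (8, 6), (43, 6), (44, 7), (44, 8), (8, 9), (38, 9), (31, 8), (31, 7), (25, 6), (25, 5), (16, 4), (11, 3), (11, 2), (1, 0), (32, 1), (32, 0), (34, 2), (34, 1), (34, 3), (34, 2), (35, 4), (35, 3), (35, 5), (35, 4), (32, 6), (32, 5), (21, 4), (21, 3), (17, 2), (17, 1), (35, 6), (35, 5), (7, 6), (7, 6), (23, 5), (23, 4), (4, 2), (42, 3), (41, 5), (41, 4), (23, 3), (23, 2), (42, 4), (8, 5), (42, 5), (5, 3), (42, 3), (41, 4), (23, 3), (43, 6), (43, 5), (43, 7), (43, 6), (44, 8), (44, 7), (43, 9), (43, 8), (36, 7), (6, 5), (44, 7), (44, 6), (44, 8), (44, 7), (7, 5), (44, 6), (44, 5), (8, 6), (32, 5), (21, 4), (17, 3), (17, 2), (2, 0), (41, 0), (41, 1), (42, 2), (44, 3), (44, 4), (44, 5), (7, 3), (42, 3), (43, 4), (43, 5)], [(42, 2), (42, 3), (8, 4)]⟩,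
    ⟨0, [2, 0], [0, 2, 4, 4, 5, 6, 6], [(10, 0)], [], [(37, 3), (30, 2), (15, 1), (12, 0), (41, 9), (41, 8), (34, 7), (34, 6), (28, 5), (28, 4), (23, 3), (23, 2), (42, 4), (43, 6), (43, 5), (43, 7), (43, 6), (44, 8), (44, 7), (44, 9), (44, 8), (8, 9), (43, 9), (36, 8), (36, 7), (6, 5), (43, 7), (36, 6), (36, 5), (44, 8), (7, 6), (8, 6), (8, 7), (30, 6), (24, 5), (19, 4), (19, 3), (15, 2), (12, 1), (41, 10), (41, 9), (34, 8), (34, 7), (28, 6), (28, 5), (23, 4), (23, 3), (42, 5), (43, 7), (43, 6), (43, 8), (43, 7), (44, 9), (44, 8), (44, 10), (44, 9), (8, 10), (43, 10), (36, 9), (36, 8), (6, 6), (43, 8), (36, 7), (36, 6), (44, 9), (7, 7), (8, 7), (29, 6), (5, 4), (42, 7), (42, 6), (29, 5), (29, 4), (43, 8), (43, 7), (6, 5), (8, 5), (43, 5), (44, 6), (44, 7), (8, 8), (7, 6), (38, 7), (38, 6), (25, 5), (20, 4), (16, 3), (13, 2), (28, 7), (28,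 6), (23, 5), (43, 7), (43, 8), (43, 9), (6, 7), (42, 7), (43, 8), (43, 9), (8, 10), (6, 8), (39, 10), (39, 9), (32, 8), (21, 7), (21, 6), (17, 5), (17, 4), (14, 3), (34, 6), (28, 5), (34, 7), (28, 6), (35, 8), (29, 7), (7, 9), (29, 8), (7, 10), (42, 11), (42, 10), (29, 9), (5, 7), (43, 9), (43, 8), (43, 10), (43, 9), (6, 7), (8, 7)], [(40, 7), (27, 6), (27, 5), (22, 4), (43, 9), (43, 8), (36, 7), (36, 6), (8, 9), (36, 8), (36, 7), (41, 11), (41, 10), (34, 9), (34, 8), (28, 7), (28, 6), (23, 5), (43, 7), (43, 8), (44, 9), (44, 10), (8, 11), (7, 9), (41, 9), (28, 8), (28, 7), (23, 6), (43, 8), (43, 9), (41, 11), (41, 10), (28, 9), (28, 8), (23, 7), (4, 5), (43, 6), (43, 7), (8, 8), (41, 8), (28, 7), (28, 6), (23, 5), (43, 7), (43, 8), (41, 10), (41, 9), (28, 8), (28, 7), (23, 6), (43, 8), (43, 9), (8, 10), (42, 10), (29, 9), (29, 8), (42,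 11), (29, 10), (29, 9), (5, 7), (8, 9), (6, 7), (6, 7)]⟩,
    ⟨0, [3, 0], [0, 3, 5, 5, 6, 6, 7, 7, 8, 8], [(12, 0)], [], [(37, 3), (30, 2), (15, 1), (10, 0), (28, 6), (28, 5), (23, 4), (4, 2), (43, 3), (43, 4), (43, 5), (6, 3), (43, 3), (44, 4), (8, 5), (8, 6), (30, 5), (30, 4), (24, 3), (19, 2), (10, 1), (29, 7), (29, 6), (6, 7), (43, 8), (43, 7), (44, 9), (44, 8), (44, 10), (44, 9), (8, 10), (44, 10), (7, 8), (8, 8), (38, 10), (38, 9), (31, 8), (25, 7), (20, 6), (20, 5), (16, 4), (16, 3), (11, 2), (23, 7), (23, 6), (4, 4), (42, 5), (43, 7), (43, 6), (41, 8), (41, 7), (28, 6), (23, 5), (23, 4), (42, 6), (43, 8), (43, 7), (8, 8), (43, 8), (42, 9), (29, 8), (29, 7), (5, 5), (43, 7), (6, 5), (43, 5), (8, 6), (29, 5), (6, 6), (43, 7), (43, 6), (44, 8), (44, 7), (44, 9), (44, 8), (8, 9), (39, 9), (32, 8), (32, 7), (26, 6), (21, 5), (17, 4),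 (36, 8), (36, 7), (44, 11), (44, 10), (7, 8), (44, 9), (44, 8), (8, 9), (35, 8), (29, 7), (36, 9), (36, 10), (6, 8)], [(39, 7), (26, 6), (26, 5), (21, 4), (36, 7), (36, 6), (43, 10), (43, 9), (36, 8), (36, 7), (8, 10), (41, 11), (41, 10), (34, 9), (34, 8), (28, 7), (28, 6), (23, 5), (43, 7), (43, 8), (44, 9), (44, 10), (8, 11), (7, 9), (42, 9), (29, 8), (29, 7), (42, 10), (29, 9), (29, 8), (5, 6), (8, 8), (29, 7), (29, 6), (29, 8), (29, 7), (43, 11), (43, 10), (6, 8), (43, 9), (43, 8), (43, 10), (43, 9), (43, 11), (43, 10), (6, 8), (44, 9), (44, 8), (44, 10), (44, 9), (44, 11), (44, 10), (7, 8), (44, 9), (44, 8), (8, 9)]⟩,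
    ⟨0, [4, 0], [0, 4, 6, 6, 7, 8, 8], [(15, 0)], [], [(37, 2), (15, 1), (15, 0), (41, 6), (41, 5), (34, 4), (28, 3), (28, 2), (43, 7), (43, 6), (36, 5), (6, 3), (43, 5), (43, 4), (36, 3), (44, 6), (44, 5), (8, 6), (37, 7), (37, 6), (30, 5), (30, 4), (24, 3), (15, 2), (15, 1), (41, 7), (41, 6), (34, 5), (28, 4), (28, 3), (43, 8), (43, 7), (36, 6), (6, 4), (43, 6), (43, 5), (36, 4), (44, 7), (44, 6), (8, 7), (43, 7), (36, 6), (36, 5), (44, 8), (7, 6), (44, 6), (8, 7), (44, 9), (44, 8), (7, 6), (8, 6), (8, 6), (25, 5), (25, 4), (16, 3), (16, 2), (28, 4), (6, 5), (36, 5), (32, 7), (32, 6), (26, 5), (17, 4), (17, 3), (44, 8), (44, 7), (44, 9), (44, 8), (42, 10), (42, 9), (35, 8), (35, 7), (29, 6), (43, 11), (43, 10), (36, 9), (36, 8), (43, 12), (43, 11), (36, 10), (36, 9), (6, 7), (8, 9)], [(41, 7), (28, 6), (28, 5), (23, 4), (43, 6), (43,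 7), (41, 9), (41, 8), (28, 7), (28, 6), (23, 5), (43, 7), (43, 8), (8, 9), (43, 9), (6, 7), (43, 7), (43, 8), (43, 9), (6, 7), (44, 7), (44, 8), (8, 9)]⟩,
    ⟨0, [5, 0], [0, 5, 6, 8, 8], [(19, 0)], [], [(37, 3), (37, 2), (19, 1), (19, 0), (42, 4), (42, 3), (29, 2), (43, 5), (43, 4), (8, 5), (8, 5), (24, 4), (24, 3), (19, 2), (19, 1), (42, 5), (42, 4), (29, 3), (43, 6), (43, 5), (8, 6), (43, 6), (6, 4), (44, 4), (44, 5), (8, 6), (36, 5), (36, 4), (7, 5), (38, 7), (38, 6), (31, 5), (25, 4), (20, 3), (20, 2), (42, 7), (42, 6), (29, 5), (29, 4), (43, 8), (43, 7), (6, 5), (43, 6), (43, 5), (8, 6), (43, 6), (44, 7), (44, 8), (8, 9), (32, 8), (32, 7), (26, 6), (26, 5), (21, 4), (21, 3), (35, 6), (35, 5), (7, 6), (36, 6), (43, 9), (43, 8), (36, 7), (8, 9), (44, 9), (44, 10), (7, 8), (42, 8), (29, 7), (29, 6), (5, 4), (43, 6), (6, 4), (43, 4)],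 [(42, 7), (29, 6), (29, 5), (42, 8), (29, 7), (29, 6), (5, 4), (8, 6), (6, 4)]⟩,
    ⟨0, [7, 0], [0, 7, 8, 8], [(30, 0)], [], [(30, 1), (30, 0), (44, 3), (44, 2), (8, 3), (37, 3), (30, 2), (30, 1), (44, 4), (44, 3), (8, 4), (38, 5), (38, 4), (31, 3), (31, 2), (39, 6), (39, 5), (32, 4), (32, 3), (42, 7), (42, 6), (35, 5), (35, 4), (43, 8), (43, 7), (36, 6), (36, 5), (43, 9), (43, 8), (36, 7), (36, 6), (8, 9)], [(44, 7), (44, 8), (8, 9)]⟩,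
    ⟨0, [2, 1], [1, 2, 4, 4, 5, 5], [(11, 0)], [], [(38, 3), (31, 2), (16, 1), (13, 0), (28, 5), (28, 4), (23, 3), (43, 5), (43, 6), (43, 7), (6, 5), (44, 5), (41, 7), (41, 6), (34, 5), (23, 4), (4, 2), (44, 3), (8, 4), (34, 3), (23, 2), (44, 4), (8, 5)], [(40, 4), (40, 3), (18, 2), (18, 1), (41, 5), (41, 4), (4, 2), (44, 3), (44, 2), (8, 3), (34, 2), (34, 3), (41, 5), (34, 4), (4, 2), (41, 3), (34, 2), (42, 5), (42, 4), (35, 3), (42, 6), (42, 5), (35, 4), (8, 6), (42, 6), (35, 5), (5, 3), (42, 4), (35, 3), (8, 5)]⟩,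
    ⟨1, [0, 0, 0], [4, 5, 6, 8, 8], [(0, 0)], [], [(37, 9), (30, 8), (24, 7), (15, 6), (15, 5), (12, 4), (10, 3), (10, 2), (0, 0), (39, 4), (39, 3), (26, 2), (21, 1), (17, 0), (36, 4), (36, 3), (8, 6), (41, 6), (34, 5), (34, 4), (28, 3), (23, 2), (43, 4), (44, 5), (44, 6), (41, 8), (41, 7), (34, 6), (34, 5), (28, 4), (23, 3), (4, 1), (43, 2), (44, 3), (44, 4), (8, 5), (35, 4), (35, 3), (29, 2), (36, 5), (36, 4), (36, 6), (36, 5), (6, 3), (32, 4), (32, 3), (21, 2), (21, 1), (35, 4), (35, 3), (7, 4), (7, 4), (23, 3), (23, 2), (42, 4), (41, 6), (41, 5), (23, 4), (23, 3), (42, 5), (8, 6), (42, 6), (5, 4), (43, 4), (43, 5), (40, 6), (27, 5), (27, 4), (18, 3), (18, 2), (43, 6), (8, 7), (29, 6), (29, 5), (29, 7), (29, 6), (6, 7), (41, 11), (41, 10), (34, 9), (34, 8), (28, 7), (23, 6), (23, 5), (4, 3), (42, 4), (43, 6), (43, 5), (44, 7), (44,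 6), (44, 8), (44, 7), (8, 8), (43, 8), (36, 7), (36, 6), (43, 9), (36, 8), (36, 7), (6, 5), (44, 7), (7, 5), (8, 5), (23, 4), (23, 3), (42, 5), (43, 7), (43, 6), (43, 8), (43, 7), (44, 9), (44, 8), (8, 9), (43, 9), (36, 8), (6, 6), (44, 7), (44, 8), (7, 6), (8, 6), (8, 7), (30, 6), (19, 5), (19, 4), (15, 3), (12, 2), (10, 1), (10, 0), (26, 6), (26, 5), (21, 4), (17, 3), (17, 2), (36, 7), (36, 6), (43, 10), (43, 9), (36, 8), (36, 7), (8, 10), (41, 10), (34, 9), (34, 8), (28, 7), (28, 6), (23, 5), (4, 3), (43, 4), (43, 5), (44, 6), (44, 7), (41, 9), (41, 8), (34, 7), (34, 6), (28, 5), (28, 4), (23, 3), (43, 5), (43, 6), (44, 7), (44, 8), (8, 9), (35, 8), (35, 7), (29, 6), (29, 5), (36, 9), (36, 8), (6, 6), (36, 7), (36, 6), (33, 8), (33, 7), (27, 6), (22, 5), (22, 4), (18, 3), (42, 9), (42, 8), (35, 7), (35, 6), (44, 10), (44, 9), (7, 7),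 (44, 8), (44, 7), (8, 8), (43, 8), (36, 7), (44, 10), (44, 9), (44, 11), (44, 10), (7, 8), (42, 9), (42, 8), (29, 7), (5, 5), (42, 7), (42, 6), (29, 5), (43, 8), (43, 7), (43, 9), (43, 8), (6, 6), (44, 7), (44, 6), (44, 8), (44, 7), (8, 8), (41, 8), (34, 7), (34, 6), (23, 5), (44, 7), (44, 8), (43, 10), (43, 9), (36, 8), (36, 7), (43, 11), (43, 10), (36, 9), (36, 8), (44, 12), (44, 11), (7, 9), (8, 9), (42, 9), (29, 8), (29, 7), (43, 10), (6, 8), (8, 8), (5, 6), (44, 8), (44, 7), (8, 8), (39, 8), (32, 7), (26, 6), (17, 5), (17, 4), (14, 3), (2, 1), (40, 1), (43, 2), (44, 3), (41, 4), (34, 3), (28, 2), (41, 5), (34, 4), (28, 3), (43, 6), (36, 5), (8, 7), (39, 8), (32, 7), (32, 6), (26, 5), (26, 4), (17, 3), (17, 2), (14, 1), (34, 4), (28, 3), (34, 5), (28, 4), (36, 6), (43, 9), (43, 8), (36, 7), (6, 5), (8, 6), (44, 6), (44, 7), (7, 5),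 (40, 6), (40, 5), (18, 4), (18, 3), (41, 7), (41, 6), (4, 4), (41, 5), (41, 4), (43, 6), (43, 5), (44, 7), (44, 6), (8, 7), (30, 6), (24, 5), (15, 4), (12, 3), (12, 2), (10, 1), (27, 7), (27, 6), (22, 5), (18, 4), (18, 3), (43, 10), (43, 9), (36, 8), (36, 7), (8, 10), (36, 9), (36, 8), (42, 11), (35, 10), (35, 9), (29, 8), (29, 7), (42, 12), (35, 11), (35, 10), (29, 9), (29, 8), (5, 6), (43, 10), (36, 9), (36, 8), (6, 6), (43, 8), (36, 7), (36, 6), (44, 9), (7, 7), (44, 7), (8, 8), (33, 7), (27, 6), (18, 5), (18, 4), (44, 8), (42, 9), (35, 8), (29, 7), (42, 10), (35, 9), (29, 8), (43, 11), (36, 10), (43, 12), (36, 11), (6, 9), (44, 10), (44, 11), (7, 9), (8, 9), (23, 8), (23, 7), (4, 5), (42, 6), (43, 8), (43, 7), (43, 9), (43, 8), (44, 10), (44, 9), (8, 10), (43, 10), (36, 9), (6, 7), (44, 8), (44, 9), (7, 7), (8, 7), (37, 9), (37, 8),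 (30, 7), (19, 6), (19, 5), (12, 4), (12, 3), (10, 2), (0, 0), (39, 4), (39, 3), (26, 2), (21, 1), (17, 0), (36, 4), (36, 3), (8, 6), (41, 6), (34, 5), (34, 4), (28, 3), (23, 2), (43, 4), (44, 5), (44, 6), (41, 8), (41, 7), (34, 6), (34, 5), (28, 4), (23, 3), (4, 1), (43, 2), (44, 3), (44, 4), (8, 5), (35, 4), (35, 3), (29, 2), (36, 5), (36, 4), (36, 6), (36, 5), (6, 3), (33, 4), (33, 3), (22, 2), (22, 1), (42, 6), (42, 5), (35, 4), (35, 3), (44, 7), (44, 6), (7, 4), (44, 5), (44, 4), (8, 5), (44, 5), (44, 6), (7, 4), (42, 4), (5, 2), (42, 2), (43, 3), (43, 4), (44, 5), (44, 6), (8, 7), (33, 6), (33, 5), (27, 4), (27, 3), (22, 2), (43, 7), (43, 6), (36, 5), (36, 4), (8, 7), (36, 6), (36, 5), (44, 8), (7, 6), (44, 6), (42, 7), (35, 6), (29, 5), (29, 4), (42, 8), (35, 7), (29, 6), (29, 5), (5, 3), (43, 6), (36, 5), (6, 3), (43, 4), (36, 3),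 (44, 5), (44, 6), (7, 4), (8, 4), (29, 3), (42, 7), (42, 6), (29, 5), (29, 4), (43, 8), (43, 7), (6, 5), (8, 5), (44, 5), (8, 6), (39, 7), (39, 6), (32, 5), (21, 4), (21, 3), (14, 2), (14, 1), (33, 4), (27, 3), (44, 5), (43, 6), (36, 5), (44, 7), (42, 8), (35, 7), (35, 6), (29, 5), (29, 4), (44, 9), (7, 7), (44, 7), (42, 8), (35, 7), (29, 6), (29, 5), (44, 9), (44, 10), (7, 8), (44, 8), (8, 9), (32, 8), (26, 7), (26, 6), (21, 5), (21, 4), (14, 3), (14, 2), (2, 0), (40, 0), (43, 1), (44, 2), (40, 3), (33, 2), (27, 1), (44, 3), (43, 5), (43, 4), (36, 3), (44, 6), (44, 5), (42, 7), (42, 6), (35, 5), (35, 4), (29, 3), (29, 2), (44, 8), (44, 7), (7, 5), (44, 6), (44, 5), (42, 7), (42, 6), (35, 5), (29, 4), (29, 3), (44, 8), (44, 7), (44, 9), (44, 8), (7, 6), (43, 7), (43, 6), (6, 4), (8, 4), (43, 4), (8, 5), (33, 5), (27, 4), (22, 3), (22,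 2), (3, 0), (42, 0), (44, 1), (44, 2), (8, 3), (35, 2), (35, 1), (7, 2), (43, 4), (43, 3), (36, 2), (8, 4), (34, 4), (34, 3), (28, 2), (23, 1), (23, 0), (42, 2), (43, 4), (43, 3), (44, 5), (44, 4), (44, 6), (44, 5), (41, 7), (41, 6), (34, 5), (34, 4), (28, 3), (23, 2), (23, 1), (42, 3), (43, 5), (43, 4), (44, 6), (44, 5), (44, 7), (44, 6), (8, 7), (43, 7), (36, 6), (36, 5), (44, 8), (7, 6)], [(41, 2), (41, 1), (42, 3), (42, 2), (42, 4), (42, 3), (44, 5), (44, 4), (44, 6), (44, 5), (43, 7), (43, 6), (36, 5), (36, 4), (43, 8), (43, 7), (36, 6), (36, 5), (44, 9), (44, 8), (7, 6), (8, 6), (8, 6)]⟩,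
    ⟨1, [2, 0], [0, 2, 4, 4, 5, 6, 6], [(10, 0)], [], [(12, 1), (12, 0), (40, 9), (40, 8), (33, 7), (33, 6), (27, 5), (27, 4), (22, 3), (22, 2), (42, 7), (42, 6), (35, 5), (35, 4), (44, 8), (44, 7), (7, 5), (44, 6), (44, 5), (8, 6), (43, 6), (36, 5), (43, 8), (43, 7), (36, 6), (8, 8), (7, 7), (42, 8), (42, 7), (29, 6), (29, 5), (5, 3), (42, 6), (42, 5), (29, 4), (29, 3), (43, 7), (43, 6), (6, 4), (43, 5), (43, 4), (44, 6), (44, 5), (44, 7), (44, 6), (8, 7), (37, 7), (30, 6), (30, 5), (24, 4), (19, 3), (12, 2), (12, 1), (40, 10), (40, 9), (33, 8), (33, 7), (27, 6), (27, 5), (22, 4), (22, 3), (42, 8), (42, 7), (35, 6), (35, 5), (44, 9), (44, 8), (7, 6), (44, 7), (44, 6), (8, 7), (43, 7), (36, 6), (43, 9), (43, 8), (36, 7), (8, 9), (7, 8), (42, 9), (42, 8), (29, 7), (29, 6), (5, 4), (42, 7), (42, 6), (29, 5), (29, 4), (43, 8), (43, 7), (6,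 5), (43, 6), (43, 5), (44, 7), (44, 6), (44, 8), (44, 7), (8, 8), (42, 8), (35, 7), (35, 6), (29, 5), (43, 9), (36, 8), (36, 7), (8, 10), (36, 9), (36, 8), (6, 6), (7, 6), (44, 8), (44, 7), (8, 8), (44, 8), (7, 6), (8, 6), (39, 6), (21, 5), (21, 4), (14, 3), (14, 2), (33, 5), (27, 4), (44, 6), (43, 7), (36, 6), (44, 8), (42, 9), (35, 8), (35, 7), (29, 6), (29, 5), (44, 10), (7, 8), (44, 8), (42, 9), (35, 8), (29, 7), (29, 6), (44, 10), (44, 11), (7, 9), (39, 10), (39, 9), (26, 8), (26, 7), (21, 6), (21, 5), (14, 4), (14, 3), (33, 6), (27, 5), (44, 7), (43, 8), (36, 7), (44, 9), (42, 10), (35, 9), (35, 8), (29, 7), (29, 6), (44, 11), (7, 9), (44, 9), (42, 10), (35, 9), (29, 8), (29, 7), (44, 11), (44, 12), (7, 10), (43, 10), (6, 8), (8, 8), (8, 9), (40, 9), (27, 8), (22, 7), (22, 6), (3, 4), (42, 4), (44, 5), (44, 6), (8, 7), (35, 6), (35,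 5), (7, 6), (43, 8), (43, 7), (36, 6), (8, 8), (41, 8), (34, 7), (28, 6), (23, 5), (23, 4), (42, 6), (43, 8), (43, 7), (44, 9), (44, 8), (8, 9), (34, 8), (28, 7), (23, 6), (23, 5), (42, 7), (43, 9), (43, 8), (44, 10), (44, 9), (43, 11), (43, 10), (36, 9), (44, 12), (44, 11), (8, 12)], [(40, 9), (33, 8), (27, 7), (18, 6), (18, 5), (44, 9), (40, 11), (40, 10), (33, 9), (27, 8), (18, 7), (18, 6), (3, 4), (41, 4), (41, 5), (43, 6), (44, 8), (44, 7), (8, 8), (41, 8), (34, 7), (28, 6), (4, 4), (8, 6), (34, 5), (28, 4), (41, 8), (41, 7), (34, 6), (28, 5), (42, 9), (42, 8), (35, 7), (29, 6), (42, 10), (42, 9), (35, 8), (29, 7), (44, 11), (44, 10), (44, 12), (44, 11), (7, 9), (43, 10), (43, 9), (43, 11), (43, 10), (6, 8), (44, 9), (44, 8), (8, 9), (43, 9), (36, 8), (43, 10), (36, 9), (44, 11), (8, 12)]⟩,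
    ⟨1, [3, 0], [0, 3, 5, 5, 6, 6, 7, 7, 8, 8], [(12, 0)], [], [(37, 2), (10, 1), (10, 0), (26, 6), (26, 5), (21, 4), (17, 3), (17, 2), (36, 7), (36, 6), (43, 10), (43, 9), (36, 8), (36, 7), (8, 10), (41, 10), (34, 9), (34, 8), (28, 7), (28, 6), (23, 5), (4, 3), (43, 4), (43, 5), (44, 6), (44, 7), (41, 9), (41, 8), (34, 7), (34, 6), (28, 5), (28, 4), (23, 3), (43, 5), (43, 6), (44, 7), (44, 8), (8, 9), (35, 8), (35, 7), (29, 6), (29, 5), (36, 9), (36, 8), (6, 6), (36, 7), (36, 6), (37, 9), (30, 8), (30, 7), (24, 6), (19, 5), (19, 4), (15, 3), (10, 2), (10, 1), (26, 7), (26, 6), (21, 5), (17, 4), (17, 3), (36, 8), (36, 7), (43, 11), (43, 10), (36, 9), (36, 8), (8, 11), (41, 11), (34, 10), (34, 9), (28, 8), (28, 7), (23, 6), (4, 4), (43, 5), (43, 6), (44, 7), (44, 8), (41, 10), (41, 9), (34, 8), (34, 7), (28, 6), (28, 5), (23, 4), (43, 6),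 (43, 7), (44, 8), (44, 9), (8, 10), (35, 9), (35, 8), (29, 7), (29, 6), (36, 10), (36, 9), (6, 7), (36, 8), (36, 7), (34, 9), (34, 8), (28, 7), (23, 6), (23, 5), (42, 7), (43, 9), (43, 8), (44, 10), (44, 9), (44, 11), (44, 10), (43, 12), (43, 11), (36, 10), (36, 9), (43, 13), (43, 12), (36, 11), (36, 10), (6, 8), (44, 11), (44, 10), (7, 8), (8, 8), (42, 8), (5, 6), (43, 6), (8, 7), (29, 6), (43, 10), (43, 9), (6, 7), (44, 8), (44, 7), (44, 9), (44, 8), (8, 9), (44, 9), (7, 7), (8, 7), (8, 8), (32, 7), (21, 6), (17, 5), (17, 4), (2, 2), (41, 2), (41, 3), (42, 4), (44, 5), (44, 6), (44, 7), (7, 5), (39, 5), (21, 4), (17, 3), (17, 2), (40, 8), (33, 7), (33, 6), (22, 5), (18, 4), (18, 3), (44, 10), (44, 9), (7, 7), (44, 8), (44, 7), (8, 8), (34, 7), (23, 6), (4, 4), (44, 5), (41, 6), (34, 5), (23, 4), (44, 6), (43, 8), (43, 7), (36, 6), (44,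 9), (44, 8), (8, 9)], [(39, 9), (32, 8), (26, 7), (17, 6), (17, 5), (14, 4), (2, 2), (40, 2), (43, 3), (44, 4), (41, 5), (34, 4), (28, 3), (41, 6), (34, 5), (28, 4), (43, 7), (36, 6), (8, 8), (39, 9), (32, 8), (32, 7), (26, 6), (26, 5), (17, 4), (17, 3), (14, 2), (34, 5), (28, 4), (34, 6), (28, 5), (36, 7), (43, 10), (43, 9), (36, 8), (6, 6), (8, 7), (44, 7), (44, 8), (7, 6), (8, 6), (4, 4), (34, 7), (34, 6), (23, 5), (23, 4), (42, 6), (44, 8), (44, 7), (44, 9), (44, 8), (42, 10), (42, 9), (35, 8), (35, 7), (5, 5), (42, 8), (42, 7), (35, 6), (35, 5), (44, 9), (44, 8), (7, 6), (44, 7), (44, 6), (43, 8), (43, 7), (36, 6), (43, 9), (43, 8), (36, 7), (44, 10), (44, 9), (8, 10), (43, 10), (36, 9), (36, 8), (6, 6), (43, 8), (36, 7), (36, 6), (44, 9), (7, 7), (8, 7), (44, 8), (8, 9), (8, 9)]⟩,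
    ⟨1, [4, 0], [0, 4, 6, 6, 7, 8, 8], [(15, 0)], [], [(37, 2), (37, 1), (15, 0), (8, 5), (37, 5), (30, 4), (24, 3), (24, 2), (15, 1), (43, 7), (43, 6), (36, 5), (6, 3), (44, 5), (44, 4), (44, 6), (44, 5), (7, 3), (8, 3), (43, 3), (44, 4), (44, 5), (8, 6), (7, 4), (8, 4), (26, 3), (17, 2), (39, 6), (39, 5), (26, 4), (17, 3), (8, 6), (40, 6), (27, 5), (18, 4), (41, 8), (41, 7), (28, 6), (41, 9), (41, 8), (28, 7), (4, 5), (43, 7), (43, 6), (44, 8), (44, 7), (8, 8)], [(41, 9), (34, 8), (28, 7), (4, 5), (8, 7), (36, 6), (36, 7), (6, 5), (43, 8), (43, 7), (36, 6), (36, 5), (43, 9), (43, 8), (36, 7), (36, 6), (44, 10), (44, 9), (7, 7), (8, 7), (44, 7), (8, 8), (8, 8)]⟩,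
    ⟨1, [5, 0], [0, 5, 6, 8, 8], [(19, 0)], [], [(30, 4), (30, 3), (19, 2), (19, 1), (15, 0), (42, 6), (42, 5), (35, 4), (29, 3), (29, 2), (43, 7), (43, 6), (36, 5), (6, 3), (8, 4), (42, 4), (35, 3), (43, 5), (36, 4), (8, 6), (44, 8), (44, 7), (7, 5), (8, 5), (37, 5), (24, 4), (19, 3), (19, 2), (15, 1), (42, 7), (42, 6), (35, 5), (29, 4), (29, 3), (43, 8), (43, 7), (36, 6), (6, 4), (8, 5), (42, 5), (35, 4), (43, 6), (36, 5), (8, 7), (36, 6), (7, 7), (8, 7), (26, 6), (26, 5), (21, 4), (21, 3), (17, 2), (35, 6), (35, 5), (7, 6), (36, 6), (43, 9), (43, 8), (36, 7), (8, 9), (39, 9), (32, 8), (26, 7), (26, 6), (21, 5), (21, 4), (17, 3), (35, 7), (35, 6), (7, 7), (36, 7), (43, 10), (43, 9), (36, 8), (8, 10), (44, 10), (40, 12), (40, 11), (33, 10), (33, 9), (27, 8), (27, 7), (22, 6), (22, 5), (18, 4), (42, 10), (42, 9), (35, 8), (35, 7), (44,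 11), (44, 10), (7, 8), (44, 9), (44, 8), (8, 9), (43, 9), (36, 8), (43, 11), (43, 10), (36, 9), (8, 11), (7, 10), (41, 11), (41, 10), (28, 9), (28, 8), (23, 7), (23, 6), (42, 8), (43, 10), (43, 9), (43, 11), (43, 10), (8, 11), (41, 11), (28, 10), (28, 9), (23, 8), (23, 7), (4, 5), (42, 6), (43, 8), (43, 7), (43, 9), (43, 8), (8, 9), (6, 7)], [(41, 9), (34, 8), (28, 7), (4, 5), (42, 7), (35, 6), (29, 5), (42, 8), (35, 7), (29, 6), (44, 9), (44, 10), (7, 8), (43, 8), (43, 9), (6, 7), (44, 7), (8, 8), (8, 8)]⟩,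
    ⟨1, [7, 0], [0, 7, 8, 8], [(30, 0)], [], [(37, 1), (30, 0), (8, 2), (30, 1), (39, 4), (39, 3), (32, 2), (39, 5), (39, 4), (32, 3), (40, 6), (40, 5), (33, 4), (41, 7), (41, 6), (34, 5), (41, 8), (41, 7), (34, 6), (43, 9), (43, 8), (36, 7), (44, 10), (44, 9), (8, 10)], [(44, 9), (8, 10), (8, 10)]⟩,
    ⟨1, [1, 1, 1], [7, 7], [(1, 0)], [], [(38, 11), (38, 10), (25, 9), (25, 8), (20, 7), (20, 6), (16, 5), (13, 4), (11, 3), (11, 2), (1, 0), (32, 1), (32, 0), (34, 2), (34, 1), (34, 3), (34, 2), (35, 4), (35, 3), (35, 5), (35, 4), (32, 6), (32, 5), (21, 4), (21, 3), (17, 2), (17, 1), (35, 6), (35, 5), (7, 6), (7, 6), (23, 5), (23, 4), (4, 2), (42, 3), (41, 5), (41, 4), (23, 3), (23, 2), (42, 4), (8, 5), (42, 5), (5, 3), (42, 3), (40, 4), (22, 3), (18, 2), (8, 7), (34, 6), (34, 5), (23, 4), (44, 6), (44, 7), (42, 8), (35, 7), (35, 6), (43,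 9), (36, 8), (36, 7), (43, 10), (36, 9), (36, 8), (41, 11), (34, 10), (34, 9), (28, 8), (28, 7), (23, 6), (23, 5), (4, 3), (42, 4), (43, 6), (43, 5), (43, 7), (43, 6), (44, 8), (44, 7), (44, 9), (44, 8), (8, 9), (36, 8), (36, 7), (6, 5), (35, 6), (35, 5), (5, 3), (36, 4), (36, 3), (36, 5), (36, 4), (42, 8), (42, 7), (35, 6), (35, 5), (29, 4), (29, 3), (43, 9), (43, 8), (36, 7), (36, 6), (6, 4), (43, 7), (43, 6), (36, 5), (36, 4), (8, 7), (43, 7), (36, 6), (36, 5), (44, 8), (7, 6), (43, 6), (6, 4), (44, 4), (8, 5), (31, 4), (20, 3), (13, 2), (11, 1), (11, 0), (21, 5), (21, 4), (17, 3), (17, 2), (35, 7), (35, 6), (7, 7), (34, 7), (23, 6), (23, 5), (4, 3), (42, 4), (44, 6), (44, 5), (41, 7), (41, 6), (34, 5), (23, 4), (23, 3), (42, 5), (44, 7), (44, 6), (8, 7), (42, 7), (35, 6), (5, 4), (42, 5), (35, 4), (40, 6), (33, 5), (22, 4), (18, 3),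 (44, 9), (44, 8), (7, 6), (8, 6), (23, 5), (42, 7), (43, 8), (43, 9), (42, 10), (29, 9), (29, 8), (5, 6), (43, 8), (6, 6), (43, 6), (8, 7), (32, 7), (26, 6), (17, 5), (17, 4), (14, 3), (2, 1), (40, 1), (43, 2), (44, 3), (41, 4), (34, 3), (28, 2), (41, 5), (34, 4), (28, 3), (43, 6), (36, 5), (8, 7), (32, 7), (32, 6), (26, 5), (26, 4), (17, 3), (17, 2), (14, 1), (34, 4), (28, 3), (34, 5), (28, 4), (36, 6), (43, 9), (43, 8), (36, 7), (6, 5), (8, 6), (44, 6), (44, 7), (7, 5), (40, 5), (18, 4), (18, 3), (41, 6), (4, 4), (42, 4), (42, 5), (43, 6), (43, 7), (8, 8), (25, 7), (25, 6), (20, 5), (20, 4), (13, 3), (13, 2), (11, 1), (22, 6), (22, 5), (18, 4), (18, 3), (42, 10), (42, 9), (35, 8), (35, 7), (44, 11), (44, 10), (7, 8), (44, 9), (44, 8), (8, 9), (41, 9), (34, 8), (23, 7), (23, 6), (4, 4), (42, 5), (44, 7), (44, 6), (8, 7), (35, 6), (5,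 4), (36, 4), (36, 5), (33, 6), (27, 5), (27, 4), (43, 6), (44, 8), (44, 7), (41, 9), (41, 8), (34, 7), (28, 6), (28, 5), (42, 10), (42, 9), (35, 8), (29, 7), (29, 6), (43, 11), (43, 10), (36, 9), (6, 7), (43, 9), (43, 8), (36, 7), (42, 10), (42, 9), (35, 8), (29, 7), (43, 11), (43, 10), (36, 9), (43, 12), (43, 11), (36, 10), (6, 8), (8, 9), (42, 9), (35, 8), (5, 6), (43, 7), (36, 6), (43, 8), (36, 7), (8, 9), (36, 8), (6, 6), (36, 7), (36, 6), (7, 7), (25, 6), (16, 5), (13, 4), (13, 3), (11, 2), (1, 0), (32, 1), (32, 0), (34, 2), (34, 1), (34, 3), (34, 2), (35, 4), (35, 3), (35, 5), (35, 4), (33, 6), (33, 5), (22, 4), (22, 3), (18, 2), (18, 1), (42, 8), (42, 7), (35, 6), (35, 5), (44, 9), (44, 8), (7, 6), (44, 7), (44, 6), (8, 7), (44, 7), (44, 8), (7, 6), (41, 6), (23, 5), (23, 4), (4, 2), (42, 3), (8, 4), (5, 2), (27, 3), (27, 2), (43,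 4), (41, 6), (41, 5), (28, 4), (28, 3), (42, 7), (42, 6), (29, 5), (29, 4), (43, 8), (43, 7), (6, 5), (43, 6), (43, 5), (41, 7), (41, 6), (28, 5), (23, 4), (43, 6), (8, 7), (6, 6), (32, 6), (21, 5), (17, 4), (17, 3), (14, 2), (14, 1), (33, 4), (27, 3), (44, 5), (43, 6), (36, 5), (44, 7), (41, 8), (34, 7), (34, 6), (28, 5), (28, 4), (41, 9), (34, 8), (34, 7), (28, 6), (28, 5), (42, 10), (35, 9), (35, 8), (29, 7), (29, 6), (44, 11), (7, 9), (44, 9), (44, 10), (39, 11), (32, 10), (32, 9), (26, 8), (26, 7), (21, 6), (17, 5), (17, 4), (14, 3), (14, 2), (2, 0), (40, 0), (43, 1), (44, 2), (40, 3), (33, 2), (27, 1), (44, 3), (43, 5), (43, 4), (36, 3), (44, 6), (44, 5), (41, 7), (41, 6), (34, 5), (34, 4), (28, 3), (28, 2), (41, 8), (41, 7), (34, 6), (34, 5), (28, 4), (28, 3), (42, 9), (42, 8), (35, 7), (35, 6), (29, 5), (29, 4), (44, 10), (44,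 9), (7, 7), (44, 8), (44, 7), (43, 9), (43, 8), (36, 7), (6, 5), (8, 6), (43, 6), (36, 5), (8, 7), (7, 6), (40, 6), (27, 5), (22, 4), (18, 3), (18, 2), (3, 0), (41, 0), (41, 1), (42, 2), (44, 3), (44, 4), (8, 5), (36, 4), (36, 3), (41, 7), (41, 6), (34, 5), (34, 4), (28, 3), (23, 2), (4, 0), (43, 1), (44, 2), (44, 3), (8, 4), (35, 3), (35, 2), (29, 1), (35, 4), (35, 3), (29, 2), (5, 0), (36, 2), (36, 1), (36, 3), (36, 2), (6, 0)], [(44, 1)]⟩,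
    ⟨1, [2, 1], [1, 2, 4, 4, 5, 5], [(11, 0)], [], [(13, 1), (13, 0), (27, 5), (27, 4), (22, 3), (18, 2), (43, 8), (43, 7), (36, 6), (36, 5), (8, 8), (36, 7), (36, 6), (41, 9), (34, 8), (34, 7), (28, 6), (28, 5), (23, 4), (43, 6), (43, 7), (44, 8), (44, 9), (42, 11), (42, 10), (35, 9), (35, 8), (29, 7), (29, 6), (43, 12), (43, 11), (36, 10), (36, 9), (6, 7), (43, 10), (43, 9), (36, 8), (36, 7), (38, 11), (38, 10), (31, 9), (31, 8), (25, 7), (20, 6), (20, 5), (16, 4), (16, 3), (13, 2), (13, 1), (27, 6), (27, 5), (22, 4), (18, 3), (43, 9), (43, 8), (36, 7), (36, 6), (8, 9), (36, 8), (36, 7), (41, 10), (34, 9), (34, 8), (28, 7), (28, 6), (23, 5), (43, 7), (43, 8), (44, 9), (44, 10), (42, 12), (42, 11), (35, 10), (35, 9), (29, 8), (29, 7), (43, 13), (43, 12), (36, 11), (36, 10), (6, 8), (43, 11), (43, 10), (36, 9), (36, 8), (41, 12), (41,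 11), (34, 10), (34, 9), (28, 8), (23, 7), (23, 6), (4, 4), (42, 5), (43, 7), (43, 6), (44, 8), (44, 7), (44, 9), (44, 8), (8, 9), (43, 9), (36, 8), (36, 7), (41, 10), (34, 9), (34, 8), (28, 7), (28, 6), (23, 5), (23, 4), (42, 6), (43, 8), (43, 7), (43, 9), (43, 8), (44, 10), (44, 9), (44, 11), (44, 10), (8, 11), (36, 10), (36, 9), (6, 7), (35, 8), (35, 7), (5, 5), (36, 6), (36, 5), (36, 7), (36, 6), (42, 10), (42, 9), (35, 8), (35, 7), (29, 6), (29, 5), (43, 11), (43, 10), (36, 9), (36, 8), (6, 6), (43, 9), (43, 8), (36, 7), (36, 6), (8, 9), (43, 9), (36, 8), (36, 7), (44, 10), (7, 8), (44, 8), (44, 9), (8, 10), (32, 9), (32, 8), (26, 7), (26, 6), (21, 5), (17, 4), (14, 3), (14, 2), (33, 5), (27, 4), (44, 6), (43, 7), (36, 6), (44, 8), (41, 9), (34, 8), (34, 7), (28, 6), (28, 5), (42, 10), (35, 9), (35, 8), (29, 7), (29, 6), (44, 11),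 (7, 9), (44, 9), (43, 10), (36, 9), (6, 7), (8, 8), (36, 7), (44, 10), (44, 9), (44, 11), (44, 10), (7, 8), (39, 9), (39, 8), (26, 7), (21, 6), (17, 5), (14, 4), (14, 3), (33, 6), (27, 5), (44, 7), (43, 8), (36, 7), (44, 9), (41, 10), (34, 9), (34, 8), (28, 7), (28, 6), (42, 11), (35, 10), (35, 9), (29, 8), (29, 7), (44, 12), (7, 10), (44, 10), (43, 11), (36, 10), (6, 8), (8, 9), (40, 10), (40, 9), (33, 8), (22, 7), (18, 6), (3, 4), (41, 4), (42, 5), (44, 6), (44, 7), (8, 8), (7, 6), (41, 7), (41, 6), (23, 5), (8, 7), (5, 6)], [(40, 11), (40, 10), (27, 9), (27, 8), (22, 7), (22, 6), (18, 5), (42, 11), (42, 10), (35, 9), (35, 8), (44, 12), (44, 11), (7, 9), (44, 10), (44, 9), (8, 10), (43, 10), (36, 9), (43, 12), (43, 11), (36, 10), (8, 12), (40, 13), (40, 12), (33, 11), (27, 10), (27, 9), (22, 8), (22, 7), (18, 6), (3, 4), (41, 4), (42,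 5), (44, 6), (44, 7), (8, 8), (35, 7), (35, 6), (7, 7), (43, 9), (43, 8), (36, 7), (8, 9), (36, 8), (44, 10), (8, 11), (34, 10), (34, 9), (28, 8), (28, 7), (23, 6), (23, 5), (42, 7), (43, 9), (43, 8), (43, 10), (43, 9), (44, 11), (44, 10), (44, 12), (44, 11), (8, 12), (41, 12), (34, 11), (34, 10), (28, 9), (28, 8), (23, 7), (23, 6), (4, 4), (42, 5), (43, 7), (43, 6), (43, 8), (43, 7), (44, 9), (44, 8), (44, 10), (44, 9), (8, 10), (41, 11), (41, 10), (34, 9), (34, 8), (28, 7), (28, 6), (23, 5), (23, 4), (42, 6), (43, 8), (43, 7), (43, 9), (43, 8), (44, 10), (44, 9), (44, 11), (44, 10), (8, 11), (42, 11), (35, 10), (35, 9), (29, 8), (29, 7), (5, 5), (42, 9), (35, 8), (35, 7), (29, 6), (29, 5), (44, 10), (7, 8), (44, 8), (41, 9), (34, 8), (28, 7), (28, 6), (23, 5), (43, 7), (43, 8), (44, 9), (42, 11), (42, 10), (35, 9), (29, 8), (29, 7),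 (42, 12), (42, 11), (35, 10), (29, 9), (29, 8), (5, 6), (44, 10), (44, 9), (44, 11), (44, 10), (7, 8)]⟩,
    ⟨1, [3, 1], [1, 3, 4, 5, 6, 6], [(13, 0)], [], [(38, 2), (11, 1), (11, 0), (21, 5), (21, 4), (17, 3), (17, 2), (35, 7), (35, 6), (7, 7), (34, 7), (23, 6), (23, 5), (4, 3), (42, 4), (44, 6), (44, 5), (41, 7), (41, 6), (34, 5), (23, 4), (23, 3), (42, 5), (44, 7), (44, 6), (8, 7), (42, 7), (35, 6), (5, 4), (42, 5), (35, 4), (38, 7), (38, 6), (31, 5), (20, 4), (16, 3), (11, 2), (11, 1), (21, 6), (21, 5), (17, 4), (17, 3), (35, 8), (35, 7), (7, 8), (34, 8), (23, 7), (23, 6), (4, 4), (42, 5), (44, 7), (44, 6), (41, 8), (41, 7), (34, 6), (23, 5), (23, 4), (42, 6), (44, 8), (44, 7), (8, 8), (42, 8), (35, 7), (5, 5), (42, 6), (35, 5), (41, 7), (34, 6), (23, 5), (44, 7), (43, 9), (43, 8), (36, 7), (42, 10), (42, 9), (35, 8), (29, 7), (43,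 11), (43, 10), (36, 9), (43, 12), (43, 11), (36, 10), (6, 8), (8, 9), (44, 9), (8, 10), (32, 9), (32, 8), (21, 7), (21, 6), (17, 5), (17, 4), (2, 2), (41, 2), (41, 3), (42, 4), (44, 5), (44, 6), (42, 7), (35, 6), (35, 5), (44, 8), (7, 6), (44, 6), (44, 7), (44, 8), (7, 6), (39, 6), (21, 5), (21, 4), (17, 3), (17, 2), (35, 7), (35, 6), (7, 7), (40, 8), (33, 7), (22, 6), (22, 5), (18, 4), (18, 3), (42, 10), (42, 9), (35, 8), (35, 7), (44, 11), (44, 10), (7, 8), (44, 9), (44, 8), (8, 9), (44, 9), (41, 11), (41, 10), (34, 9), (34, 8), (23, 7), (23, 6), (4, 4), (42, 5), (44, 7), (44, 6), (44, 8), (44, 7), (8, 8), (42, 8), (35, 7), (35, 6), (5, 4), (42, 6), (35, 5), (35, 4), (43, 7), (36, 6), (36, 5), (43, 8), (36, 7), (36, 6), (8, 9)], [(39, 11), (39, 10), (26, 9), (26, 8), (21, 7), (21, 6), (17, 5), (14, 4), (2, 2), (40, 2), (43, 3), (44,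 4), (41, 5), (34, 4), (28, 3), (42, 6), (35, 5), (29, 4), (44, 7), (44, 8), (7, 6), (42, 6), (29, 5), (44, 7), (44, 8), (43, 9), (36, 8), (36, 7), (8, 10), (36, 9), (36, 8), (6, 6), (8, 8), (39, 8), (32, 7), (32, 6), (21, 5), (21, 4), (17, 3), (14, 2), (34, 5), (28, 4), (35, 6), (29, 5), (7, 7), (29, 6), (7, 8), (41, 10), (41, 9), (34, 8), (28, 7), (23, 6), (23, 5), (42, 7), (43, 9), (43, 8), (44, 10), (44, 9), (8, 10), (8, 10), (34, 9), (28, 8), (23, 7), (23, 6), (4, 4), (42, 5), (43, 7), (43, 6), (44, 8), (44, 7), (42, 9), (42, 8), (35, 7), (29, 6), (5, 4), (42, 7), (42, 6), (35, 5), (29, 4), (44, 8), (44, 7), (44, 9), (44, 8), (7, 6), (43, 7), (43, 6), (43, 8), (43, 7), (6, 5), (44, 6), (44, 5), (8, 6), (43, 6), (36, 5), (43, 7), (36, 6), (44, 8), (8, 9)]⟩,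
    ⟨2, [3, 1], [1, 3], [(39, 1), (32, 0), (40, 2), (33, 1), (40, 3), (33, 2), (42, 4), (35, 3), (42, 5), (35, 4), (8, 6)], [(44, 6), (44, 5), (8, 6)], [(38, 8), (38, 7), (31, 6), (16, 5), (16, 4), (13, 3), (13, 2), (11, 1), (11, 0), (21, 5), (21, 4), (17, 3), (17, 2), (35, 7), (35, 6), (7, 7), (34, 7), (23, 6), (23, 5), (4, 3), (42, 4), (44, 6), (44, 5), (41, 7), (41, 6), (34, 5), (23, 4), (23, 3), (42, 5), (44, 7), (44, 6), (8, 7), (42, 7), (35, 6), (5, 4), (42, 5), (35, 4), (40, 6), (33, 5), (22, 4), (18, 3), (44, 9), (44, 8), (7, 6), (8, 6), (23, 5), (42, 7), (43, 8), (43, 9), (40, 10), (27, 9), (27, 8), (22, 7), (22, 6), (18, 5), (18, 4), (42, 11), (42, 10), (35, 9), (35, 8), (44, 12), (44, 11), (7, 9), (44, 10), (44, 9), (8, 10), (43, 10), (36, 9), (43, 12), (43, 11), (36, 10), (8, 12), (41, 12), (34, 11), (28, 10), (28, 9), (23,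 8), (23, 7), (4, 5), (42, 6), (43, 8), (43, 7), (43, 9), (43, 8), (44, 10), (44, 9), (8, 10), (35, 9), (29, 8), (29, 7), (5, 5), (36, 7), (6, 5), (36, 5), (34, 6), (28, 5), (36, 7), (34, 8), (28, 7), (28, 6), (36, 9), (6, 7), (38, 10), (38, 9), (31, 8), (31, 7), (16, 6), (16, 5), (13, 4), (13, 3), (11, 2), (11, 1), (21, 6), (21, 5), (17, 4), (17, 3), (35, 8), (35, 7), (7, 8), (34, 8), (23, 7), (23, 6), (4, 4), (42, 5), (44, 7), (44, 6), (41, 8), (41, 7), (34, 6), (23, 5), (23, 4), (42, 6), (44, 8), (44, 7), (8, 8), (42, 8), (35, 7), (5, 5), (42, 6), (35, 5), (40, 7), (33, 6), (22, 5), (18, 4), (44, 10), (44, 9), (7, 7), (8, 7), (23, 6), (42, 8), (43, 9), (43, 10), (40, 11), (27, 10), (27, 9), (22, 8), (22, 7), (18, 6), (18, 5), (42, 12), (42, 11), (35, 10), (35, 9), (44, 13), (44, 12), (7, 10), (44, 11), (44, 10), (8, 11), (43, 11), (36,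 10), (43, 13), (43, 12), (36, 11), (8, 13), (41, 13), (34, 12), (28, 11), (28, 10), (23, 9), (23, 8), (4, 6), (42, 7), (43, 9), (43, 8), (43, 10), (43, 9), (44, 11), (44, 10), (8, 11), (35, 10), (29, 9), (29, 8), (5, 6), (36, 8), (6, 6), (36, 6), (34, 7), (28, 6), (36, 8), (34, 9), (28, 8), (28, 7), (36, 10), (6, 8), (7, 8), (39, 9), (39, 8), (17, 7), (17, 6), (14, 5), (14, 4), (2, 2), (40, 2), (43, 3), (44, 4), (40, 5), (33, 4), (27, 3), (44, 5), (43, 7), (43, 6), (36, 5), (44, 8), (44, 7), (41, 9), (41, 8), (34, 7), (34, 6), (28, 5), (28, 4), (41, 10), (41, 9), (34, 8), (34, 7), (28, 6), (28, 5), (8, 10), (39, 10), (32, 9), (32, 8), (26, 7), (26, 6), (17, 5), (17, 4), (14, 3), (14, 2), (33, 5), (27, 4), (44, 6), (43, 7), (36, 6), (44, 8), (41, 9), (34, 8), (34, 7), (28, 6), (28, 5), (41, 10), (34, 9), (34, 8), (28, 7), (28, 6), (43,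 11), (36, 10), (36, 9), (6, 7), (8, 9), (36, 8), (36, 7), (44, 11), (44, 10), (7, 8), (44, 9), (44, 8), (8, 9), (33, 8), (27, 7), (18, 6), (18, 5), (3, 3), (41, 3), (41, 4), (43, 5), (44, 7), (44, 6), (40, 8), (40, 7), (33, 6), (27, 5), (18, 4), (18, 3), (44, 7), (8, 8), (34, 7), (28, 6), (4, 4), (34, 5), (28, 4), (35, 6), (29, 5)], [(39, 10), (39, 9), (21, 8), (17, 7), (17, 6), (14, 5), (14, 4), (2, 2), (40, 2), (43, 3), (44, 4), (40, 5), (33, 4), (27, 3), (44, 5), (43, 7), (43, 6), (36, 5), (44, 8), (44, 7), (41, 9), (41, 8), (34, 7), (34, 6), (28, 5), (28, 4), (41, 10), (41, 9), (34, 8), (34, 7), (28, 6), (28, 5), (42, 11), (42, 10), (35, 9), (35, 8), (29, 7), (29, 6), (44, 12), (44, 11), (7, 9), (44, 10), (44, 9), (8, 10), (39, 10), (32, 9), (26, 8), (26, 7), (21, 6), (17, 5), (17, 4), (14, 3), (14, 2), (33, 5), (27, 4), (44, 6), (43,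 7), (36, 6), (44, 8), (41, 9), (34, 8), (34, 7), (28, 6), (28, 5), (41, 10), (34, 9), (34, 8), (28, 7), (28, 6), (42, 11), (35, 10), (35, 9), (29, 8), (29, 7), (44, 12), (7, 10), (44, 10), (43, 11), (36, 10), (6, 8), (8, 9), (36, 8), (44, 11), (44, 10), (8, 11), (33, 10), (33, 9), (27, 8), (22, 7), (18, 6), (18, 5), (3, 3), (41, 3), (41, 4), (42, 5), (44, 6), (44, 7), (8, 8), (36, 7), (36, 6), (44, 9), (7, 7), (44, 7), (40, 8), (33, 7), (27, 6), (22, 5), (18, 4), (18, 3), (43, 10), (43, 9), (36, 8), (36, 7), (8, 10), (7, 8), (41, 8), (28, 7), (23, 6), (4, 4), (43, 5), (41, 7), (41, 6), (28, 5), (23, 4), (43, 6), (8, 7)]⟩]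
  adj := [
    [(0, 1), (1, 1), (2, 2), (9, 2), (10, 2), (13, 1), (54, 1)],
    [(0, 1), (2, 1), (9, 2), (10, 2), (13, 2), (55, 1)],
    [(0, 6), (1, 2), (2, 1), (9, 8), (10, 3), (11, 4), (13, 6), (45, 1), (54, 2), (55, 2)],
    [(1, 2), (2, 2), (10, 2), (11, 1), (45, 1), (54, 2), (55, 2)],
    [(0, 7), (2, 1), (9, 3), (10, 7), (11, 2), (45, 3), (55, 6)],
    [(0, 2), (2, 8), (9, 6), (10, 2), (11, 3), (45, 6), (55, 3)],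
    [(0, 1), (2, 4), (9, 3), (10, 6), (11, 1), (45, 3), (55, 6)],
    [(0, 3), (1, 5), (2, 3), (9, 3), (10, 3), (11, 3), (55, 6)],
    [(0, 3), (1, 6), (2, 7), (9, 6), (13, 3), (45, 3), (54, 6), (55, 6)]]
  base := [
    ([(17, 1)], 3, [(25, 2)])]
  dense := [
    [0, 0, 0, 0, 0, 0, 1, 1, 2, 0, 0, 0, 0, 0, 0, 1, 0, 0, 0, 1, 0, 0, 0, 0, 1, 0, 0, 0, 0, 2, 0, 0, 0, 0, 0, 1, 2, 2, 0, 0, 0, 0, 2, 3, 2],
    [0, 0, 0, 0, 0, 0, 0, 0, 0, 0, 0, 0, 0, 0, 0, 0, 0, 0, 0, 0, 0, 0, 0, 0, 0, 0, 0, 0, 0, 0, 0, 2],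
    [0, 0, 7, 8, 4, 5, 1, 8, 2, 6, 0, 6, 0, 6, 3, 0, 7, 3, 4, 0, 7, 3, 4, 3, 0, 7, 5, 3, 4, 4, 2, 8, 3, 2, 0, 6, 6, 0, 5, 6, 2, 6, 0, 3, 6],
    [0, 0, 7, 8, 5, 5, 7, 4, 1, 6, 6, 0, 6, 0, 6, 5, 8, 4, 4, 8, 8, 2, 6, 0, 5, 8, 3, 4, 0, 0, 8, 0, 7, 3, 4, 6, 1, 6, 7, 6, 0, 4, 0, 6, 2],
    [0, 0, 0, 0, 0, 0, 0, 0, 0, 0, 0, 0, 0, 0, 0, 0, 0, 0, 0, 0, 0, 0, 0, 0, 0, 0, 0, 0, 0, 0, 0, 0, 0, 0, 0, 0, 0, 0, 0, 1],
    [0, 0, 0, 0, 7, 8, 7, 7, 5, 0, 6, 0, 0, 0, 0, 0, 0, 6, 0, 0, 0, 6, 0, 3, 0, 0, 6, 0, 3, 6, 0, 0, 7, 0, 5, 5, 0, 1, 0, 0, 0, 3, 4, 5, 1],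
    [0, 0, 0, 0, 7, 8, 4, 6, 1, 0, 6, 0, 0, 0, 0, 6, 0, 8, 0, 6, 0, 8, 0, 3, 7, 0, 8, 0, 4, 6, 0, 0, 0, 0, 2, 5, 1, 0, 0, 7, 0, 6, 7, 1, 8],
    [0, 0, 0, 0, 7, 7, 0, 7, 7, 0, 0, 6, 0, 0, 0, 0, 0, 6, 0, 0, 0, 6, 0, 3, 0, 0, 0, 0, 0, 0, 0, 0, 8, 0, 7, 5, 0, 0, 1, 8, 0, 4, 2, 0, 2],
    [0, 0, 0, 0, 7, 7, 6, 0, 5, 0, 0, 6, 0, 0, 0, 0, 6, 0, 0, 0, 6, 0, 0, 3, 0, 0, 0, 0, 8, 5, 0, 0, 7, 0, 3, 3, 3, 0, 7, 0, 0, 7, 3, 5, 5],
    [0, 0, 0, 0, 0, 0, 1, 1, 4, 0, 0, 0, 0, 0, 1, 2, 7, 0, 8, 2, 8, 1, 0, 2, 0, 7, 2, 0, 4, 0, 0, 0, 5, 7, 8, 3, 1, 0, 0, 2, 0, 1, 2, 6, 5],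
    [0, 0, 0, 0, 0, 0, 0, 0, 0, 0, 0, 0, 0, 0, 0, 0, 0, 0, 0, 0, 0, 0, 0, 0, 0, 0, 0, 0, 0, 0, 0, 0, 0, 0, 0, 0, 0, 0, 0, 0, 1],
    [0, 0, 0, 0, 0, 7, 7, 5, 4, 0, 0, 0, 6, 0, 0, 0, 0, 0, 0, 0, 0, 0, 6, 0, 0, 0, 0, 6, 0, 3, 0, 0, 0, 5, 0, 5, 3, 1, 0, 0, 6, 0, 7, 7, 2],
    [0, 0, 0, 0, 0, 7, 6, 5, 0, 0, 0, 0, 6, 0, 0, 0, 0, 0, 8, 6, 0, 0, 8, 0, 7, 0, 0, 8, 0, 5, 5, 0, 0, 0, 0, 0, 4, 6, 0, 0, 7, 0, 1, 6, 7],
    [0, 0, 0, 0, 8, 8, 7, 7, 5, 0, 0, 0, 0, 6, 0, 0, 0, 0, 6, 0, 0, 0, 6, 6, 0, 0, 0, 6, 6, 6, 0, 0, 0, 7, 7, 5, 0, 0, 1, 0, 7, 4, 4, 4, 5],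
    [0, 0, 0, 0, 8, 8, 4, 8, 6, 0, 0, 0, 0, 6, 0, 0, 6, 0, 0, 0, 6, 0, 0, 6, 0, 6, 0, 0, 5, 8, 0, 7, 0, 7, 3, 3, 8, 0, 0, 0, 0, 8, 5, 2, 5],
    [0, 0, 0, 0, 0, 0, 8, 1, 1, 0, 0, 0, 0, 0, 7, 1, 0, 7, 1, 1, 7, 0, 1, 0, 2, 7, 7, 1, 6, 0, 0, 7, 6, 0, 8, 6, 3, 0, 7, 8, 1, 7, 6, 6, 1],
    [0, 0, 0, 0, 0, 0, 8, 8, 8, 0, 0, 0, 0, 0, 6, 0, 0, 0, 0, 0, 0, 0, 0, 0, 0, 0, 0, 6, 0, 0, 0, 0, 0, 6, 0, 0, 6, 0, 0, 1, 8, 0, 0, 4, 6],
    [0, 0, 0, 0, 0, 0, 8, 8, 7, 0, 0, 0, 0, 0, 6, 0, 0, 0, 0, 0, 0, 0, 0, 0, 0, 0, 6, 0, 0, 0, 0, 0, 6, 0, 0, 0, 6, 0, 0, 7, 8, 0, 0, 7, 2],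
    [0, 0, 0, 0, 0, 0, 0, 0, 0, 0, 0, 0, 0, 0, 0, 0, 0, 0, 2, 0, 0, 7, 1, 5, 1, 0, 7, 2, 0, 2, 1, 0, 7, 0, 7, 2, 3, 0, 0, 7, 0, 7, 8, 0, 7],
    [0, 0, 0, 0, 0, 0, 0, 1, 0, 0, 0, 0, 0, 0, 0, 0, 0, 8, 2, 0, 0, 8, 2, 0, 0, 1, 7, 0, 8, 8, 0, 1, 0, 0, 0, 2, 3, 0, 0, 0, 0, 7, 3, 7, 6],
    [0, 0, 0, 0, 0, 0, 7, 8, 7, 0, 0, 0, 0, 0, 0, 6, 0, 0, 0, 0, 0, 0, 0, 0, 0, 0, 0, 0, 6, 0, 0, 0, 0, 0, 6, 0, 3, 0, 0, 0, 0, 6, 0, 3, 6],
    [0, 0, 0, 0, 0, 0, 7, 6, 4, 0, 0, 0, 0, 0, 0, 6, 0, 0, 0, 0, 0, 0, 0, 8, 6, 0, 0, 0, 8, 0, 8, 0, 0, 0, 0, 0, 7, 6, 0, 0, 0, 7, 0, 3, 8],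
    [0, 0, 0, 0, 0, 0, 8, 0, 0, 0, 0, 0, 0, 0, 0, 0, 6, 0, 0, 0, 0, 0, 0, 0, 0, 0, 0, 0, 6],
    [0, 0, 0, 0, 0, 0, 8, 8, 0, 0, 0, 0, 0, 0, 0, 0, 6, 0, 0, 0, 0, 0, 0, 0, 0, 6, 0, 0, 0, 0, 0, 8, 0, 0, 7, 0, 5],
    [0, 0, 0, 0, 0, 0, 0, 0, 1, 0, 0, 0, 0, 0, 0, 0, 0, 7, 8, 0, 0, 0, 0, 1, 1, 7, 0, 0, 2, 0, 0, 8, 0, 0, 0, 0, 0, 0, 7, 5, 7, 7, 7, 0, 4],
    [0, 0, 0, 0, 0, 0, 0, 0, 0, 0, 0, 0, 0, 0, 0, 0, 0, 6],
    [0, 0, 0, 0, 0, 0, 0, 0, 0, 0, 0, 0, 0, 0, 0, 0, 0, 6, 0, 0, 0, 0, 0, 0, 0, 0, 0, 0, 0, 0, 0, 0, 0, 0, 0, 0, 0, 0, 0, 0, 0, 8],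
    [0, 0, 0, 0, 0, 0, 0, 0, 8, 0, 0, 0, 0, 0, 0, 0, 0, 0, 0, 0, 0, 0, 0, 1, 0, 0, 7, 0, 7, 7, 0, 0, 8, 0, 7, 8, 7, 0, 0, 7, 0, 0, 0, 2],
    [0, 0, 0, 0, 0, 0, 0, 0, 0, 0, 0, 0, 0, 0, 0, 0, 0, 0, 0, 0, 0, 0, 0, 2, 0, 0, 8, 0, 7, 7, 0, 0, 0, 0, 0, 0, 0, 0, 0, 0, 0, 5, 6, 2],
    [0, 0, 0, 0, 0, 0, 0, 0, 0, 0, 0, 0, 0, 0, 0, 0, 0, 0, 0, 0, 0, 0, 0, 2, 0, 0, 0, 7, 2, 5, 0, 0, 0, 8, 2, 7, 2, 0, 0, 0, 7, 2, 8, 3, 1],
    [0, 0, 0, 0, 0, 0, 0, 0, 0, 0, 0, 0, 0, 0, 0, 0, 0, 0, 0, 0, 0, 0, 0, 1, 0, 0, 0, 8, 1, 8, 0, 0, 0, 0, 0, 0, 0, 0, 0, 0, 0, 8, 8, 1],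
    [0, 0, 0, 0, 0, 0, 0, 0, 0, 0, 0, 0, 0, 0, 0, 0, 0, 0, 0, 0, 0, 0, 0, 0, 0, 0, 0, 0, 1, 0, 0, 0, 0, 0, 1],
    [8, 8, 4, 7, 6, 5, 1, 3, 7, 3, 7, 1, 5, 5, 0, 5, 3, 5, 6, 4, 3, 7, 8, 1, 4, 3, 0, 3, 6, 4, 8, 5, 4, 4, 2, 0, 3, 5, 1, 2, 3, 4, 8, 5, 6, 6, 0, 0, 0, 1, 1, 1, 0, 2],
    [0, 0, 0, 0, 1, 8, 5, 5, 5, 0, 1, 0, 7, 8, 8, 7, 8, 7, 0, 7, 8, 7, 1, 0, 8, 8, 0, 2, 2, 7, 7, 0, 8, 0, 5, 8, 5, 8, 7, 7, 1, 4, 4, 6, 8, 0, 0, 0, 0, 2, 1, 2],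
    [0, 0, 0, 0, 7, 0, 6, 0, 5, 0, 7, 8, 1, 0, 0, 8, 7, 8, 0, 8, 7, 0, 0, 5, 8, 8, 1, 0, 8, 2, 6, 8, 7, 0, 2, 8, 0, 8, 7, 0, 0, 0, 8, 6, 5, 0, 0, 0, 0, 0, 2, 2, 2, 2],
    [0, 0, 0, 0, 0, 0, 7, 7, 5, 0, 0, 0, 0, 0, 0, 6, 7, 7, 0, 0, 0, 0, 0, 2, 8, 7, 8, 0, 8, 8, 7, 0, 7, 0, 7, 7, 7, 6, 0, 0, 0, 8, 7, 4, 8, 0, 0, 0, 0, 0, 0, 2, 1, 2],
    [0, 0, 0, 0, 0, 0, 7, 6, 3, 0, 0, 0, 0, 0, 0, 0, 0, 0, 0, 6, 7, 7, 0, 0, 7, 8, 7, 0, 0, 7, 0, 8, 7, 0, 0, 7, 5, 7, 7, 0, 0, 0, 4, 4, 3, 0, 0, 0, 0, 0, 0, 1, 0, 2],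
    [0, 0, 0, 0, 0, 0, 0, 0, 7, 0, 0, 0, 0, 0, 0, 0, 0, 0, 0, 0, 0, 0, 0, 0, 0, 0, 0, 0, 0, 0, 6, 7, 7, 0, 0, 7, 5, 8, 7, 7, 0, 0, 7, 5, 7, 0, 0, 0, 0, 0, 0, 0, 0, 2],
    [0, 0, 0, 0, 1, 1, 8, 0, 1, 0, 0, 1, 0, 8, 0, 0, 8, 0, 2, 0, 0, 0, 0, 6, 0, 0, 0, 0, 7, 0, 0, 8, 0, 0, 2, 4, 0, 0, 8, 0, 2, 2, 6, 6, 8, 0, 0, 0, 0, 2, 2],
    [8, 0, 7, 8, 3, 3, 3, 7, 0, 0, 3, 0, 3, 0, 3, 5, 0, 1, 0, 5, 0, 0, 1, 6, 7, 0, 0, 7, 3, 3, 5, 0, 2, 8, 3, 8, 3, 6, 0, 1, 3, 7, 6, 5, 0, 0, 0, 0, 0, 0, 0, 0, 0, 0, 6, 0, 0, 0, 1, 1, 1, 0, 2],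
    [0, 0, 0, 0, 1, 7, 6, 8, 7, 0, 1, 0, 5, 0, 5, 0, 0, 0, 4, 8, 0, 5, 3, 5, 8, 0, 7, 4, 1, 3, 7, 0, 0, 5, 1, 6, 8, 8, 0, 6, 7, 4, 2, 8, 7, 0, 0, 0, 0, 0, 0, 0, 0, 0, 0, 0, 0, 0, 2, 1, 2],
    [0, 0, 0, 0, 7, 0, 7, 8, 5, 0, 5, 0, 1, 0, 2, 8, 0, 5, 7, 7, 0, 5, 8, 3, 8, 0, 8, 0, 4, 4, 7, 0, 2, 7, 3, 0, 6, 7, 0, 1, 0, 2, 2, 5, 3, 0, 0, 0, 0, 0, 0, 0, 0, 0, 0, 0, 0, 0, 0, 2, 2, 2, 2],
    [0, 0, 0, 0, 0, 0, 0, 8, 7, 0, 0, 0, 0, 0, 0, 8, 0, 7, 8, 0, 0, 0, 0, 0, 7, 0, 7, 8, 8, 0, 8, 0, 0, 0, 1, 0, 5, 6, 0, 7, 8, 6, 0, 8, 4, 0, 0, 0, 0, 0, 0, 0, 0, 0, 0, 0, 0, 0, 0, 0, 2, 1, 2],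
    [0, 0, 0, 0, 0, 0, 7, 4, 8, 0, 0, 0, 0, 0, 0, 7, 0, 7, 8, 6, 0, 5, 7, 5, 8, 0, 5, 7, 6, 7, 7, 0, 8, 7, 1, 1, 7, 8, 0, 8, 7, 7, 1, 8, 5, 0, 0, 0, 0, 0, 0, 0, 0, 0, 0, 0, 0, 0, 0, 0, 1, 0, 2],
    [0, 0, 0, 0, 0, 0, 0, 0, 0, 0, 0, 0, 0, 0, 0, 0, 0, 0, 0, 0, 0, 0, 0, 0, 0, 0, 0, 0, 0, 0, 8, 0, 7, 8, 7, 0, 8, 8, 0, 5, 7, 5, 0, 7, 8, 0, 0, 0, 0, 0, 0, 0, 0, 0, 0, 0, 0, 0, 0, 0, 0, 0, 2],
    [0, 8, 7, 8, 2, 1, 6, 5, 5, 0, 0, 3, 0, 3, 3, 0, 7, 6, 8, 0, 4, 3, 2, 0, 0, 4, 4, 2, 7, 3, 0, 8, 6, 3, 6, 0, 5, 0, 7, 8, 2, 1, 3, 7, 7, 0, 0, 0, 0, 0, 0, 0, 0, 0, 0, 6, 0, 0, 0, 0, 0, 2],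
    [0, 0, 0, 0, 0, 0, 3, 8, 7, 0, 0, 1, 0, 5, 5, 0, 7, 7, 8, 0, 7, 7, 1, 0, 0, 8, 6, 7, 6, 7, 0, 7, 7, 7, 4, 7, 5, 0, 7, 7, 2, 4, 1, 5, 6, 0, 0, 0, 0, 0, 0, 0, 0, 0, 0, 0, 0, 0, 2, 2],
    [0, 0, 0, 0, 7, 7, 1, 7, 8, 0, 0, 5, 0, 1, 2, 0, 8, 3, 7, 0, 8, 5, 7, 2, 0, 0, 2, 0, 4, 5, 0, 8, 0, 8, 6, 3, 8, 0, 6, 2, 0, 3, 0, 4, 0, 0, 0, 0, 0, 0, 0, 0, 0, 0, 0, 0, 0, 0, 1, 1, 2],
    [0, 0, 0, 0, 5, 5, 5, 5, 1, 0, 0, 5, 0, 5, 0, 0, 5, 5, 3, 0, 0, 7, 5, 6, 0, 0, 0, 5, 8, 8, 0, 6, 0, 1, 6, 0, 8, 0, 5, 1, 6, 6, 8, 3, 6]]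
  tgt := [
    ([(0, 6)], [(0, 6), (1, 3), (3, 6), (4, 6), (5, 6), (6, 6), (9, 3), (11, 6), (13, 6), (17, 6), (19, 6), (21, 6), (22, 6), (27, 3), (28, 3), (29, 6), (30, 6), (31, 3), (32, 3), (33, 3), (34, 6), (35, 6), (36, 3), (40, 3), (41, 6), (42, 3), (45, 6), (46, 3), (47, 6)]),
    ([(0, 6)], [(0, 6), (1, 3), (3, 6), (4, 6), (5, 6), (6, 6), (9, 3), (11, 6), (13, 6), (17, 6), (19, 6), (21, 6), (22, 6), (27, 3), (28, 3), (29, 6), (30, 6), (31, 3), (32, 3), (33, 3), (34, 6), (35, 6), (36, 3), (40, 3), (41, 6), (42, 3), (45, 6), (46, 3), (47, 6)]),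
    ([(0, 6)], [(0, 6), (1, 3), (3, 6), (4, 6), (5, 6), (6, 6), (9, 3), (11, 6), (13, 6), (17, 6), (19, 6), (21, 6), (22, 6), (27, 3), (28, 3), (29, 6), (30, 6), (31, 3), (32, 3), (33, 3), (34, 6), (35, 6), (36, 3), (40, 3), (41, 6), (42, 3), (45, 6), (46, 3), (47, 6)]),
    ([(0, 3)], [(0, 8), (1, 7), (2, 5), (4, 7), (5, 4), (6, 4), (8, 5), (9, 1), (10, 6), (11, 1), (12, 7), (13, 4), (14, 5), (15, 8), (16, 2), (17, 7), (18, 1), (19, 4), (21, 4), (22, 2), (23, 8), (24, 6), (26, 2), (27, 6), (29, 4), (30, 7), (31, 8), (32, 3), (33, 6), (34, 3), (35, 3), (38, 6), (42, 6), (43, 3), (45, 6), (46, 6), (47, 6)]),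
    ([(0, 3)], [(0, 6), (1, 8), (2, 6), (3, 6), (4, 5), (5, 4), (6, 7), (7, 1), (8, 4), (9, 6), (10, 1), (11, 8), (12, 7), (13, 2), (14, 7), (15, 3), (16, 3), (17, 1), (18, 5), (19, 4), (20, 8), (21, 1), (22, 2), (23, 4), (24, 2), (26, 5), (28, 2), (29, 7), (30, 4), (31, 3), (32, 6), (33, 3), (34, 6), (35, 6), (38, 3), (40, 6), (41, 3), (42, 6), (43, 6), (44, 3), (45, 3), (46, 3), (48, 3)]),
    ([(0, 3)], [(0, 4), (1, 5), (2, 7), (3, 8), (4, 3), (5, 2), (6, 5), (7, 3), (8, 6), (9, 1), (10, 3), (11, 2), (12, 3), (13, 8), (14, 1), (15, 8), (16, 1), (17, 1), (20, 8), (21, 3), (22, 7), (23, 5), (24, 1), (27, 6), (28, 7), (29, 1), (30, 2), (31, 2), (32, 3), (36, 6), (38, 3), (40, 6), (41, 3), (44, 6), (45, 6), (46, 3), (48, 6)]),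
    ([], [(2, 3), (4, 3), (5, 3), (6, 3), (7, 3), (8, 6), (9, 6), (10, 3), (11, 3), (13, 3), (15, 3), (16, 3), (17, 6), (18, 6), (19, 6), (22, 2), (23, 3), (24, 6), (26, 6), (28, 6), (29, 3), (31, 6), (32, 6), (36, 3), (38, 6), (40, 6), (41, 3), (42, 6), (45, 3), (46, 6), (47, 3), (48, 3)]),
    ([], [(0, 6), (1, 1), (2, 3), (3, 3), (4, 4), (5, 5), (8, 7), (9, 6), (10, 4), (11, 4), (12, 3), (13, 2), (14, 7), (15, 3), (16, 6), (17, 8), (18, 6), (19, 6), (20, 8), (21, 6), (22, 3), (24, 6), (26, 4), (27, 3), (29, 8), (30, 2), (31, 5), (33, 3), (34, 6), (35, 6), (36, 6), (38, 6), (40, 3), (41, 6), (43, 6), (44, 6), (45, 3), (46, 3), (47, 6), (48, 3)]),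
    ([(0, 3)], [(1, 1), (2, 6), (3, 3), (4, 7), (5, 5), (6, 6), (7, 3), (8, 1), (9, 6), (10, 4), (11, 4), (12, 3), (13, 5), (14, 7), (17, 5), (21, 3), (22, 4), (24, 3), (26, 4), (27, 6), (28, 6), (29, 5), (30, 5), (31, 2), (32, 6), (33, 3), (34, 6), (35, 6), (38, 3), (39, 3), (42, 3), (43, 6), (44, 6), (45, 3), (47, 6), (48, 3)]),
    ([], []),
    ([], []),
    ([], []),
    ([(0, 3)], [(0, 8), (1, 6), (2, 7), (3, 7), (5, 4), (6, 4), (7, 7), (8, 5), (9, 5), (10, 1), (11, 6), (12, 2), (13, 6), (14, 2), (15, 7), (16, 5), (19, 2), (20, 1), (21, 3), (22, 1), (23, 4), (24, 6), (27, 8), (28, 3), (30, 7), (31, 2), (32, 8), (33, 4), (34, 2), (35, 5), (36, 6), (37, 6), (38, 1), (39, 1), (42, 8), (43, 6), (44, 3), (45, 5), (46, 3), (47, 2), (48, 7)]),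
    ([(0, 4)], [(0, 7), (1, 2), (3, 7), (4, 1), (5, 1), (6, 1), (7, 6), (8, 6), (9, 5), (11, 4), (12, 6), (13, 7), (17, 4), (18, 3), (19, 7), (21, 4), (22, 4), (26, 6), (27, 8), (28, 8), (29, 1), (30, 1), (31, 5), (32, 8), (33, 8), (34, 4), (35, 1), (36, 2), (37, 3), (38, 6), (39, 3), (40, 5), (41, 7), (42, 2), (43, 3), (44, 3), (45, 1), (46, 2), (47, 1)]),
    ([(0, 5)], [(0, 6), (1, 6), (2, 3), (3, 6), (4, 6), (5, 8), (6, 5), (7, 3), (8, 6), (10, 4), (11, 3), (12, 3), (13, 8), (14, 5), (15, 4), (16, 2), (17, 6), (18, 6), (19, 3), (20, 2), (21, 2), (22, 7), (23, 8), (24, 4), (27, 1), (28, 1), (29, 4), (30, 3), (31, 6), (32, 7), (33, 6), (34, 3), (35, 3), (36, 5), (38, 4), (39, 6), (40, 1), (41, 5), (42, 3), (43, 5), (44, 8), (45, 7), (46, 1), (47, 8), (48, 5)]),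
    ([(0, 7)], [(0, 3), (1, 2), (2, 7), (3, 1), (4, 8), (5, 8), (6, 3), (8, 1), (9, 7), (10, 1), (11, 8), (12, 5), (13, 3), (14, 6), (15, 4), (16, 3), (17, 2), (18, 7), (19, 2), (20, 8), (21, 7), (22, 5), (24, 1), (27, 8), (28, 5), (31, 6), (32, 7), (33, 3), (34, 6), (35, 6), (36, 8), (38, 7), (39, 4), (40, 4), (41, 2), (42, 3), (45, 1), (46, 4), (47, 7), (48, 1)]),
    ([], [(0, 8), (1, 3), (2, 7), (3, 1), (4, 2), (5, 7), (6, 2), (7, 3), (8, 1), (9, 6), (10, 6), (11, 5), (12, 5), (13, 4), (14, 2), (15, 3), (17, 2), (18, 2), (19, 6), (20, 2), (21, 2), (22, 4), (23, 8), (24, 7), (27, 4), (28, 8), (29, 6), (30, 3), (31, 1), (32, 4), (33, 6), (34, 3), (35, 3), (36, 8), (38, 1), (39, 6), (40, 4), (41, 2), (42, 4), (43, 6), (45, 5), (46, 1), (47, 2), (48, 8)]),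
    ([(0, 1)], []),
    ([(0, 2)], [(0, 2), (1, 3), (2, 7), (3, 2), (4, 2), (5, 1), (6, 8), (7, 8), (8, 5), (9, 3), (10, 4), (11, 2), (12, 7), (13, 2), (14, 3), (15, 4), (16, 2), (17, 7), (18, 6), (19, 5), (20, 5), (21, 5), (23, 7), (24, 1), (26, 8), (27, 8), (28, 7), (29, 2), (31, 3), (33, 1), (34, 5), (35, 8), (36, 8), (37, 6), (38, 8), (40, 3), (41, 6), (42, 6), (43, 3), (44, 3), (46, 3), (47, 6), (48, 3)]),
    ([(0, 2)], [(0, 6), (1, 7), (2, 7), (3, 1), (4, 2), (5, 6), (6, 4), (7, 4), (8, 5), (9, 2), (10, 8), (11, 7), (12, 2), (13, 3), (15, 1), (16, 6), (17, 7), (18, 3), (19, 7), (20, 2), (21, 6), (22, 7), (23, 4), (26, 2), (27, 5), (28, 2), (29, 4), (30, 1), (33, 8), (34, 4), (35, 1), (36, 1), (37, 3), (38, 1), (39, 7), (40, 3), (41, 6), (43, 2), (44, 3), (45, 3), (46, 7), (48, 5)]),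
    ([(0, 1)], [(0, 6), (1, 4), (2, 2), (3, 5), (4, 8), (6, 3), (7, 5), (8, 3), (9, 4), (10, 2), (11, 8), (13, 3), (14, 1), (15, 7), (17, 8), (18, 1), (19, 1), (20, 8), (21, 1), (22, 1), (23, 3), (24, 6), (26, 3), (28, 8), (29, 7), (30, 2), (31, 8), (32, 4), (33, 2), (34, 1), (35, 7), (36, 3), (37, 3), (38, 5), (39, 4), (40, 1), (41, 5), (42, 1), (44, 8), (45, 8), (46, 6), (48, 7)]),
    ([], [(0, 4), (1, 8), (2, 5), (3, 6), (4, 5), (5, 7), (7, 1), (8, 8), (9, 8), (11, 6), (12, 2), (13, 8), (14, 2), (15, 5), (16, 1), (17, 6), (18, 5), (19, 2), (22, 5), (23, 7), (24, 3), (26, 8), (27, 7), (28, 3), (29, 4), (31, 2), (32, 6), (33, 4), (34, 2), (35, 5), (36, 8), (37, 6), (38, 2), (42, 1), (43, 7), (44, 1), (45, 4)]),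
    ([], [(1, 3), (2, 5), (3, 6), (4, 3), (5, 2), (6, 7), (7, 5), (8, 6), (10, 5), (11, 3), (12, 5), (13, 8), (14, 2), (15, 8), (16, 7), (17, 7), (18, 4), (19, 1), (20, 7), (21, 7), (22, 5), (23, 6), (24, 4), (26, 4), (28, 6), (29, 5), (30, 8), (31, 2), (32, 2), (33, 2), (34, 1), (35, 7), (36, 5), (37, 3), (38, 6), (39, 1), (40, 5), (41, 7), (43, 1), (45, 2), (46, 1), (47, 5), (48, 6)]),
    ([], [(0, 7), (1, 4), (2, 6), (3, 3), (4, 2), (7, 7), (8, 1), (9, 8), (10, 8), (11, 8), (12, 2), (15, 6), (16, 2), (17, 6), (18, 2), (19, 5), (20, 5), (21, 4), (23, 4), (24, 1), (26, 3), (27, 3), (28, 6), (29, 3), (30, 8), (31, 4), (32, 7), (33, 5), (34, 7), (35, 4), (36, 6), (37, 3), (38, 5), (39, 5), (40, 1), (41, 5), (42, 1), (43, 3), (44, 4), (45, 8), (46, 2), (47, 7), (48, 6)]),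
    ([(0, 8)], [(0, 6), (1, 4), (2, 1), (3, 1), (4, 2), (5, 1), (6, 7), (7, 3), (8, 2), (9, 1), (10, 8), (11, 8), (14, 6), (15, 5), (16, 3), (18, 2), (19, 2), (20, 3), (21, 1), (23, 5), (24, 4), (26, 2), (27, 3), (28, 1), (29, 7), (30, 5), (31, 4), (32, 2), (33, 6), (34, 3), (35, 3), (36, 1), (38, 2), (39, 1), (40, 5), (41, 7), (43, 7), (44, 3), (45, 2), (46, 7), (47, 2), (48, 3)]),
    ([(0, 6)], [(0, 6), (2, 1), (4, 6), (5, 4), (6, 3), (7, 3), (8, 1), (9, 3), (10, 8), (11, 3), (13, 1), (14, 3), (15, 6), (16, 6), (17, 8), (19, 4), (20, 6), (21, 6), (22, 8), (23, 4), (26, 3), (27, 2), (28, 1), (30, 7), (31, 3), (32, 3), (36, 6), (38, 3), (40, 3), (41, 6), (42, 2), (43, 8), (44, 2), (45, 2), (47, 3), (48, 6)]),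
    ([(0, 7)], [(0, 5), (2, 5), (3, 4), (4, 8), (5, 7), (6, 8), (7, 4), (8, 4), (9, 2), (10, 4), (11, 1), (12, 6), (13, 3), (14, 1), (15, 6), (16, 5), (17, 7), (18, 4), (19, 2), (20, 5), (21, 6), (22, 7), (23, 1), (24, 8), (26, 3), (27, 6), (28, 3), (29, 6), (30, 2), (31, 4), (32, 5), (33, 5), (34, 7), (35, 4), (36, 8), (37, 3), (38, 6), (39, 1), (40, 8), (41, 4), (42, 5), (43, 3), (44, 5), (45, 7), (46, 1), (47, 8)]),
    ([(0, 8)], [(0, 1), (1, 6), (2, 4), (3, 5), (4, 6), (5, 4), (6, 7), (7, 1), (8, 8), (9, 4), (10, 4), (12, 6), (13, 4), (14, 2), (15, 6), (17, 3), (18, 5), (19, 4), (20, 8), (22, 7), (23, 5), (24, 1), (26, 5), (27, 6), (28, 8), (30, 6), (31, 1), (32, 7), (33, 1), (34, 5), (35, 8), (36, 1), (37, 6), (39, 5), (40, 7), (41, 8), (42, 4), (43, 6), (44, 4), (45, 8), (46, 5), (47, 7)]),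
    ([(0, 3)], [(0, 7), (2, 1), (3, 8), (4, 3), (5, 1), (7, 2), (8, 3), (9, 1), (10, 8), (11, 6), (12, 4), (13, 7), (14, 7), (15, 2), (16, 8), (17, 8), (18, 2), (19, 7), (20, 4), (21, 7), (22, 1), (23, 3), (24, 3), (26, 7), (27, 2), (28, 5), (29, 2), (30, 6), (31, 3)]),
    ([(0, 4)], [(0, 2), (2, 1), (3, 8), (4, 8), (5, 4), (6, 2), (7, 3), (8, 4), (9, 3), (10, 1), (11, 2), (12, 7), (13, 3), (14, 2), (15, 1), (17, 3), (18, 7), (19, 6), (20, 2), (21, 3), (22, 6), (23, 2), (24, 6), (26, 6), (27, 4), (28, 8), (29, 2), (30, 5), (31, 6), (33, 1), (34, 5), (35, 8), (36, 8), (37, 6), (38, 8), (40, 3), (41, 6), (42, 6), (43, 6), (46, 6), (48, 3)]),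
    ([(0, 3)], [(0, 3), (1, 1), (2, 7), (3, 2), (4, 8), (5, 3), (6, 3), (7, 1), (8, 6), (9, 8), (10, 7), (11, 2), (12, 2), (13, 3), (14, 5), (15, 8), (16, 2), (17, 8), (18, 3), (19, 2), (20, 3), (21, 8), (22, 6), (23, 7), (24, 8), (26, 7), (27, 5), (28, 2), (29, 1), (31, 5), (32, 5), (33, 1), (34, 5), (35, 8), (36, 3), (37, 6), (38, 1), (39, 1), (40, 5), (41, 7), (42, 8), (43, 3), (44, 8), (45, 7), (46, 1), (47, 5), (48, 6)]),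
    ([], [(1, 5)]),
    ([(0, 5)], [(0, 2), (1, 4), (2, 6), (3, 3), (4, 6), (5, 3), (6, 1), (8, 2), (9, 7), (10, 5), (11, 1), (13, 3), (14, 4), (15, 4), (16, 4), (17, 4), (18, 7), (19, 4), (20, 7), (21, 7), (22, 8), (23, 5), (24, 3), (26, 5), (27, 2), (28, 1), (29, 4), (30, 8), (31, 5), (33, 5), (34, 7), (35, 4), (36, 4), (37, 3), (38, 4), (40, 6), (41, 3), (42, 3), (44, 3), (47, 6), (48, 3)]),
    ([(0, 7)], [(0, 5), (1, 7), (2, 1), (3, 8), (4, 2), (5, 3), (6, 5), (7, 3), (8, 6), (9, 6), (10, 3), (11, 6), (12, 7), (13, 4), (14, 8), (15, 4), (16, 8), (18, 7), (19, 6), (20, 3), (22, 7), (23, 4), (24, 6), (26, 7), (27, 2), (28, 6), (29, 7), (30, 4), (31, 3), (33, 7), (34, 8), (35, 2), (36, 2), (37, 6), (38, 2), (40, 6), (41, 3), (42, 3), (43, 6), (44, 6), (46, 6), (47, 3), (48, 3)]),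
    ([(0, 6)], [(0, 2), (2, 8), (3, 1), (4, 6), (5, 8), (7, 7), (8, 6), (9, 8), (10, 1), (11, 3), (12, 5), (13, 2), (14, 2), (15, 7), (16, 1), (17, 1), (18, 7), (19, 2), (20, 5), (21, 2), (22, 8), (23, 6), (24, 6), (26, 2), (27, 7), (28, 4), (29, 7), (30, 3), (31, 7)]),
    ([(0, 3)], [(0, 5), (1, 3), (2, 8), (3, 1), (4, 1), (5, 2), (6, 3), (9, 8), (10, 4), (12, 8), (14, 3), (15, 1), (16, 3), (17, 8), (18, 1), (19, 5), (20, 6), (21, 8), (22, 7), (23, 4), (26, 8), (27, 2), (28, 5), (29, 6), (30, 8), (31, 6), (33, 6), (34, 3), (35, 3), (36, 3), (38, 3), (43, 3), (44, 6), (46, 3), (47, 3), (48, 3)]),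
    ([(0, 6)], [(0, 5), (1, 3), (2, 2), (3, 7), (4, 5), (5, 6), (7, 7), (8, 8), (9, 2), (10, 3), (11, 2), (12, 2), (13, 3), (14, 7), (15, 4), (16, 4), (17, 2), (18, 1), (19, 2), (20, 3), (21, 5), (22, 6), (23, 5), (26, 1), (27, 7), (28, 1), (29, 5), (30, 4), (31, 2), (33, 6), (34, 3), (35, 3), (36, 3), (38, 3), (40, 6), (41, 3), (42, 3), (43, 6), (44, 6), (46, 6), (47, 3), (48, 6)]),
    ([(0, 4)], [(0, 1), (1, 5), (2, 6), (3, 3), (4, 3), (5, 6), (7, 4), (9, 2), (10, 4), (12, 7), (13, 4), (14, 5), (15, 2), (16, 8), (17, 6), (18, 1), (19, 6), (20, 3), (21, 6), (23, 6), (24, 2), (26, 4), (27, 3), (29, 5), (30, 7), (31, 6), (33, 7), (34, 8), (35, 2), (36, 2), (37, 6), (38, 2), (43, 6), (44, 3), (46, 6), (47, 6)]),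
    ([(0, 8)], [(2, 1), (3, 8), (4, 4), (5, 6), (6, 4), (7, 1), (8, 7), (9, 5), (10, 3), (11, 8), (12, 4), (13, 1), (14, 5), (15, 6), (16, 5), (17, 8), (19, 5), (20, 6), (21, 2), (22, 2), (23, 3), (24, 3), (27, 1), (29, 8), (30, 1), (31, 6), (33, 5), (34, 7), (35, 4), (36, 4), (37, 3), (38, 4), (48, 6)]),
    ([], [(4, 1)]),
    ([], [(10, 1)]),
    ([(0, 6)], [(26, 8)]),
    ([(0, 3)], [(0, 5), (1, 3), (2, 8), (3, 1), (4, 1), (5, 6), (6, 6), (7, 8), (9, 2), (10, 8), (11, 2), (12, 8), (13, 4), (14, 2), (15, 7), (16, 8), (17, 3), (18, 7), (19, 5), (20, 4), (21, 2), (22, 3), (23, 6), (26, 8), (27, 7), (28, 1), (29, 4), (30, 6), (31, 4), (33, 6), (34, 3), (35, 3), (36, 3), (38, 3), (40, 6), (41, 3), (42, 3), (44, 3), (47, 6)]),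
    ([], [(0, 3), (1, 5), (2, 6), (3, 3), (4, 1), (5, 4), (6, 6), (7, 3), (8, 8), (10, 6), (11, 8), (12, 6), (13, 4), (14, 8), (15, 6), (16, 7), (17, 4), (18, 6), (19, 3), (20, 5), (21, 3), (22, 6), (23, 6), (24, 3), (26, 8), (27, 3), (28, 6), (29, 1), (30, 4), (31, 4), (33, 3), (34, 6), (35, 6), (36, 6), (38, 6), (40, 6), (41, 3), (42, 3), (44, 3), (47, 6), (48, 6)]),
    ([(0, 6)], [(0, 6), (1, 8), (2, 3), (3, 6), (4, 5), (5, 4), (6, 3), (7, 6), (8, 5), (9, 6), (10, 2), (11, 8), (13, 1), (14, 8), (16, 7), (18, 3), (19, 3), (20, 3), (21, 3), (22, 5), (24, 3), (26, 8), (27, 3), (28, 6), (29, 4), (30, 4), (31, 1), (40, 6), (41, 3), (42, 3), (43, 3), (46, 3), (48, 6)])]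

/-- Orbits inside the subgroup. -/
def orbits : List (ℕ × List (ℕ × List ℕ)) := [
    (0, [(0, []), (49, [0, 4]), (50, [0, 0, 5]), (143, [0, 0]), (147, [0]), (208, [0, 0, 4]), (210, [0, 5]), (296, [5]), (298, [4])]),
    (1, [(1, []), (2, [7, 7, 8, 8]), (3, [7, 8]), (4, [2, 6]), (5, [2, 6, 7, 8]), (6, [3, 5, 8, 8]), (10, [3, 3, 5, 5, 6]), (11, [2, 2, 6, 7, 8]), (12, [2, 2, 6]), (40, [3, 5, 8]), (41, [2, 6, 7]), (42, [2, 6, 8, 8]), (43, [4, 5, 8]), (44, [2, 2, 8, 8]), (45, [6, 6, 7]), (46, [1, 4, 4]), (47, [4, 5, 7, 7]), (48, [2, 2, 7]), (52, [1, 1, 3]), (54, [3, 3, 4, 7, 7]), (56, [1, 5, 8]), (58, [2, 6, 7, 8, 8]), (59, [3, 5]), (60, [2, 6, 8]), (62, [1, 2, 5, 7]), (64, [6]), (66, [6, 7, 8]), (121, [2, 2, 8]), (122, [2, 2, 7, 8, 8]), (123, [3, 3, 5, 5]), (127, [3, 5, 6, 8]), (128, [2, 4, 5, 7]), (129, [2, 6, 6]), (130, [3, 3, 4]), (131,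 [7]), (132, [1, 5]), (133, [8, 8]), (134, [1, 5, 7, 8]), (135, [7, 7, 8]), (137, [7, 7]), (139, [8]), (141, [7, 8, 8]), (142, [2, 8]), (144, [2, 7, 7]), (146, [2, 7, 8, 8]), (205, [3, 5, 6, 6]), (207, [2, 7, 8]), (209, [2]), (211, [1, 2, 5]), (212, [2, 3, 5]), (213, [6, 7, 7]), (214, [1, 4, 4, 6]), (215, [6, 8]), (216, [2, 2, 6, 8]), (217, [2, 6, 6, 7]), (218, [1, 1, 4]), (219, [3, 5, 6]), (221, [2, 3, 5, 8]), (223, [2, 2, 6, 8, 8]), (225, [2, 2, 6, 7]), (226, [4, 5, 7, 7, 8]), (227, [6, 6]), (228, [4, 5, 7]), (283, [6, 8, 8]), (284, [6, 7, 7, 8]), (285, [6, 7]), (286, [2, 2]), (288, [1, 5, 6]), (290, [2, 2, 7, 8]), (292, [1, 1, 3, 8]), (293, [1, 5, 7]), (294, [3, 3, 4, 7]), (295, [2, 7]), (297, [2, 8, 8]), (299, [3, 4, 4, 6]), (301, [4, 5, 7, 8]), (303, [4, 5]), (305, [6, 6, 7, 7]), (307, [2, 4, 5]), (308, [3, 4, 4]), (309, [1, 1, 4,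 7])]),
    (4, [(4, []), (5, [1, 3, 4, 4, 5, 7, 7]), (6, [4, 5, 6, 8, 8]), (127, [2, 2, 3, 4, 5, 5, 7]), (128, [2, 2, 3, 4, 4, 6, 7, 8]), (129, [2, 2, 3, 5, 6, 6, 7]), (142, [1, 1, 2, 3, 7, 7]), (144, [2, 3, 3, 4, 6, 7]), (146, [1, 2, 5, 6, 6, 7, 8, 8])]),
    (13, [(13, []), (24, [1, 1, 3, 3, 4, 5, 5, 6, 6, 7, 7, 8, 8]), (32, [1, 3, 5, 5, 6, 7, 7])])]

theorem checks : certChecks 364 tab cert sw gw orbits = true := by decide +kernel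

theorem lin_ok : cert.linOK = true :=
  CfsgLib.Spor.SchurCert.Packed.linOK_of_linP cert (by decide +kernel)

end CfsgLib.Lie.MultExc.OSevenThree.P3
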