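import Cfsg.Agent.Lib.Lie.MultExc.OSevenThree.Spin
import Cfsg.Agent.Lib.Lie.MultExc.OSevenThree.CoverData
import Cfsg.Agent.Lib.Lie.MultExc.OSevenThree.P2
import Cfsg.Agent.Lib.Lie.MultExc.OSevenThree.P3

/-!
The Schur multiplier of the simple orthogonal group in dimension seven over three elements is cyclic of order six.
-/

set_option autoImplicit false
set_option maxRecDepth 100000

namespace CfsgLib.Lie.MultExc.OSevenThree

open CfsgLib.Spor.SchurCert

theorem cert_facts : (P2.cert.p = 2 ∧ P2.cert.N = 2 ^ 2 ∧ P2.cert.bound = 2 ∧ P2.cert.m = 9) ∧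
    (P3.cert.p = 3 ∧ P3.cert.N = 3 ^ 2 ∧ P3.cert.bound = 3 ∧ P3.cert.m = 9) ∧
    (tab.trans.map List.length).prod = 4585351680 := by
  decide +kernel

theorem ker_dvd {H : Subgroup (Equiv.Perm (Fin 364))} (M : Model 364 tab H) {Γ : Type*} [Group Γ] [Finite Γ]
    (τ : Γ →* ↥H) (hτ : Cfsg.IsStemExtension τ) : Nat.card τ.ker ∣ 6 := by
  obtain ⟨⟨hp, hN, hbd, hm⟩, ⟨hp', hN', hbd', hm'⟩, hord⟩ := cert_facts
  refine card_dvd_of_parts τ.ker (by norm_num) fun ℓ hℓ P hP hPp => ?_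
  have hf : (6 : ℕ).factorization 2 = 1 ∧ (6 : ℕ).factorization 3 = 1 := by
    rw [show (6 : ℕ) = 2 * 3 from rfl, Nat.factorization_mul (by norm_num) (by norm_num), Finsupp.add_apply,
      Finsupp.add_apply, Nat.prime_two.factorization_self, Nat.prime_three.factorization_self,
      Nat.factorization_eq_zero_of_not_dvd (by norm_num : ¬ (2 : ℕ) ∣ 3),
      Nat.factorization_eq_zero_of_not_dvd (by norm_num : ¬ (3 : ℕ) ∣ 2)]
    norm_num
  by_cases h3 : ℓ = 3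
  · subst h3
    have h := part_le M hτ P3.cert (by rw [hp']; norm_num) (e := 2) (by rw [hp', hN']) (by rw [hbd', hN']; norm_num)
      (r := 232960) (by rw [hp']; norm_num) (by rw [hp', hm', hord]; norm_num) P3.checks P3.lin_ok P hP (by rw [hp']; exact hPp)
    rw [hbd'] at h
    refine h.trans (le_of_eq ?_)
    rw [hf.2, pow_one]
  by_cases h2 : ℓ = 2
  · subst h2
    have h := part_le M hτ P2.cert (by rw [hp]; norm_num) (e := 2) (by rw [hp, hN]) (by rw [hbd, hN]; norm_num)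
      (r := 8955765) (by rw [hp]; norm_num) (by rw [hp, hm, hord]; norm_num) P2.checks P2.lin_ok P hP (by rw [hp]; exact hPp)
    rw [hbd] at h
    refine h.trans (le_of_eq ?_)
    rw [hf.1, pow_one]
  refine le_trans ?_ (Nat.one_le_pow _ _ hℓ.pos)
  by_cases h5 : ℓ = 5
  · subst h5
    exact part_once M hτ hℓ (r := 917070336) (by rw [hord]) (by norm_num) P hP hPp
  by_cases h7 : ℓ = 7
  · subst h7
    exact part_once M hτ hℓ (r := 655050240) (by rw [hord]) (by norm_num) P hP hPp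
  by_cases h13 : ℓ = 13
  · subst h13
    exact part_once M hτ hℓ (r := 352719360) (by rw [hord]) (by norm_num) P hP hPp
  refine part_other M hτ hℓ ?_ P hP hPp
  rw [hord, show (4585351680 : ℕ) = 2 ^ 9 * (3 ^ 9 * (5 * (7 * 13))) by norm_num]
  intro hd
  rcases hℓ.dvd_mul.1 hd with h | h
  · exact h2 ((Nat.prime_dvd_prime_iff_eq hℓ Nat.prime_two).1 (hℓ.dvd_of_dvd_pow h))
  rcases hℓ.dvd_mul.1 h with h | h
  · exact h3 ((Nat.prime_dvd_prime_iff_eq hℓ Nat.prime_three).1 (hℓ.dvd_of_dvd_pow h))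
  rcases hℓ.dvd_mul.1 h with h | h
  · exact h5 ((Nat.prime_dvd_prime_iff_eq hℓ (by norm_num)).1 h)
  rcases hℓ.dvd_mul.1 h with h | h
  · exact h7 ((Nat.prime_dvd_prime_iff_eq hℓ (by norm_num)).1 h)
  · exact h13 ((Nat.prime_dvd_prime_iff_eq hℓ (by norm_num)).1 h)

universe u

theorem multiplier_O73 {F : Type u} [Field F] [Fintype F] (hF : Fintype.card F = 3) :
    Cfsg.HasCyclicSchurMultiplier (Cfsg.POmega F (Cfsg.quadFormOdd 3 F)) 6 := by
  obtain ⟨gs, hgs, htop, H, M, ⟨e⟩, ⟨e'⟩⟩ := exists_orthModel hF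
  have : Finite (Cfsg.POmega F (Cfsg.quadFormOdd 3 F)) := Finite.of_equiv _ (e.trans e').toEquiv
  obtain ⟨Γ₂, _, _, τ₂, hτ₂, h2⟩ := exists_spinCover hF gs hgs htop
  obtain ⟨σ, hσ, hH⟩ := M.gens
  obtain ⟨Γ₃, _, _, τ₃, hτ₃, ⟨k₃⟩⟩ := exists_cover gens_ok comms_ok σ hσ H hH
  have hτ₂' := stem_trans hτ₂ e.symm
  have h2' : Nat.card (e.symm.toMonoidHom.comp τ₂).ker = 2 := by
    rw [← h2]
    refine Nat.card_congr (MulEquiv.subgroupCongr ?_).toEquiv
    ext x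
    simp [MonoidHom.mem_ker]
  have h3 : Nat.card τ₃.ker = 3 := by
    rw [Nat.card_congr k₃.toEquiv, Nat.card_congr Multiplicative.toAdd, Nat.card_pi, Fin.prod_univ_one, Nat.card_zmod]
    rfl
  obtain ⟨π₂, hπ₂⟩ := CfsgLib.Schur.exists_surjection ↥H hτ₂'
  obtain ⟨π₃, hπ₃⟩ := CfsgLib.Schur.exists_surjection ↥H hτ₃
  obtain ⟨Δ, _, _, δ, hδ, ⟨m⟩, -⟩ := CfsgLib.Schur.exists_cover_over ↥H (MonoidHom.id ↥H)
    CfsgLib.Schur.isStem_id
  have h6 : Nat.card (CfsgLib.Schur.mult ↥H) = 6 := by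
    refine Nat.dvd_antisymm (Nat.card_congr m.toEquiv ▸ ker_dvd M δ hδ) ?_
    have a := Subgroup.card_dvd_of_surjective π₂ hπ₂
    have b := Subgroup.card_dvd_of_surjective π₃ hπ₃
    rw [h2'] at a
    rw [h3] at b
    exact Nat.Coprime.mul_dvd_of_dvd_of_dvd (by norm_num) a b
  haveI : Finite (CfsgLib.Schur.mult ↥H) := Nat.finite_of_card_ne_zero (by rw [h6]; norm_num)
  haveI : IsCyclic (CfsgLib.Schur.mult ↥H) := by
    haveI : Fact (Nat.Prime 2) := ⟨Nat.prime_two⟩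
    haveI : Fact (Nat.Prime 3) := ⟨Nat.prime_three⟩
    obtain ⟨x, hx⟩ := exists_prime_orderOf_dvd_card' (G := CfsgLib.Schur.mult ↥H) 2 (by rw [h6]; norm_num)
    obtain ⟨y, hy⟩ := exists_prime_orderOf_dvd_card' (G := CfsgLib.Schur.mult ↥H) 3 (by rw [h6]; norm_num)
    refine isCyclic_of_orderOf_eq_card (x * y) ?_
    rw [(Commute.all x y).orderOf_mul_eq_mul_orderOf_of_coprime (by rw [hx, hy]; norm_num), hx, hy, h6]
  have k6 : Multiplicative (ZMod 6) ≃* CfsgLib.Schur.mult ↥H :=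
    mulEquivOfCyclicCardEq (by rw [Nat.card_congr Multiplicative.toAdd, Nat.card_zmod, h6])
  refine hasSchurMultiplier_of_cover_bound (e.trans e') hδ ⟨m.trans k6.symm⟩ fun Δ' _ _ π hπ => ?_
  rw [Nat.card_congr Multiplicative.toAdd, Nat.card_zmod]
  exact ker_dvd M π hπ

end CfsgLib.Lie.MultExc.OSevenThree
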