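import Cfsg.Agent.Lib.Lie.MultExc.OSevenThree.Table
import Cfsg.Agent.Lib.Lie.MultExc.OSevenThree.Labels
import Cfsg.Agent.Lib.Orth.Centre
import Cfsg.Agent.Lib.Classical.QuadOrder
import Cfsg.Agent.Lib.Perm.Trans.QuadStd
import Cfsg.Agent.Lib.Perm.Trans.QuadSimple

/-!
The derived orthogonal group in dimension seven over three elements: it is generated by two listed elements and
is the tabulated group of the singular points.
-/

set_option autoImplicit false
set_option maxRecDepth 100000

namespace CfsgLib.Lie.MultExc.OSevenThree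

open CfsgLib.Spor.PermCert Matrix CfsgLib.Perm.Trans CfsgLib.Perm.Trans.Quad
open scoped commutatorElement

universe u

/-- The coordinates. -/
abbrev W : Type := Unit ⊕ (Fin 3 ⊕ Fin 3)

local notation "V3" => (W → ZMod 3)

/-- The vector with given digits. -/
def vec (k : ℕ) : V3 := fun i => match i with
  | .inl _ => (k : ZMod 3)
  | .inr (.inl j) => (k / 3 ^ (j.1 + 1) : ℕ)
  | .inr (.inr j) => (k / 3 ^ (j.1 + 4) : ℕ)

/-- The digits of a vector. -/
def code (x : V3) : ℕ :=
  (x (.inl ())).val + 3 * (x (.inr (.inl 0))).val + 9 * (x (.inr (.inl 1))).val + 27 * (x (.inr (.inl 2))).val +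
    81 * (x (.inr (.inr 0))).val + 243 * (x (.inr (.inr 1))).val + 729 * (x (.inr (.inr 2))).val

/-- The form on vectors. -/
def qv (x : V3) : ZMod 3 := x (.inl ()) ^ 2 + ∑ i : Fin 3, x (.inr (.inl i)) * x (.inr (.inr i))

/-- A reflection on vectors; a nonzero scalar is its own inverse. -/
def rstep (a x : V3) : V3 := fun i => x i - qv a * (qv (x + a) - qv x - qv a) * a i

/-- A reflection on codes. -/
def nstep (a x : ℕ) : ℕ := code (rstep (vec a) (vec x))

/-- A commutator of two reflections on codes. -/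
def cstep (p : ℕ × ℕ) (x : ℕ) : ℕ := nstep p.1 (nstep p.2 (nstep p.1 (nstep p.2 x)))

/-- A word on codes. -/
def cword (w : List (ℕ × ℕ)) (x : ℕ) : ℕ := w.foldr cstep x

/-- A set of codes as a number. -/
def mask : List ℕ → ℕ
  | [] => 0
  | k :: l => 2 ^ k ||| mask l

/-- The codes of a point. -/
def lab (i : ℕ) : List ℕ := labs.getD i []

theorem testBit_mask : ∀ (l : List ℕ) (k : ℕ), Nat.testBit (mask l) k = true ↔ k ∈ l
  | [], k => by simp [mask]
  | a :: l, k => by
    simp only [mask, Nat.testBit_or, Nat.testBit_two_pow, Bool.or_eq_true, decide_eq_true_eq,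
      testBit_mask l k, List.mem_cons]
    exact or_congr_left eq_comm

theorem code_spec : ∀ x : V3, code x < 2187 ∧ ∀ i, vec (code x) i = x i := by decide +kernel

theorem code_vec : ∀ k : Fin 2187, code (vec k.1) = k.1 := by decide +kernel

theorem vec_nstep (a x : ℕ) : vec (nstep a x) = rstep (vec a) (vec x) := funext (code_spec _).2

theorem nstep_lt (a x : ℕ) : nstep a x < 2187 := (code_spec _).1

theorem axes_ok : ∀ a ∈ axesList, a < 2187 ∧ qv (vec a) ≠ 0 := by decide +kernel

theorem words_axes : ∀ w ∈ genWords, ∀ p ∈ w, p.1 ∈ axesList ∧ p.2 ∈ axesList := by decide +kernel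

theorem labs_ok : (∀ i : Fin 364, ∀ k ∈ lab i.1, k < 2187) ∧ (labs.map mask).Nodup ∧ labs.length = 364 := by
  decide +kernel

theorem images_ok : ∀ s : Fin 2, ∀ i : Fin 364, look tab.w tab.R s.1 i.1 < 364 ∧
    mask ((lab i.1).map (cword (genWords.getD s.1 []))) = mask (lab (look tab.w tab.R s.1 i.1)) := by
  decide +kernel

theorem moved : look tab.w tab.R 0 0 ≠ 0 ∨ look tab.w tab.R 0 1 ≠ 1 ∨ look tab.w tab.R 1 0 ≠ 0 := by
  decide +kernel

theorem lab_inj {i j : Fin 364} (h : mask (lab i.1) = mask (lab j.1)) : i = j := by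
  obtain ⟨-, hnd, hlen⟩ := labs_ok
  have hm : ∀ k : Fin 364, mask (lab k.1) = (labs.map mask)[k.1]'(by rw [List.length_map, hlen]; exact k.2) := fun k => by
    rw [List.getElem_map, lab, List.getD_eq_getElem _ _ (by rw [hlen]; exact k.2)]
  rw [hm, hm] at h
  exact Fin.ext ((hnd.getElem_inj_iff).1 h)

variable {F : Type u} [Field F] [Fintype F] (hF : Fintype.card F = 3)

/-- The three elements. -/
noncomputable def iota : ZMod 3 ≃+* F := FiniteField.ringEquivOfCardEq ((ZMod.card 3).trans hF.symm)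

/-- The vector over the field with given digits. -/
noncomputable def vv (k : ℕ) : W → F := fun q => iota hF (vec k q)

include hF

theorem two_ne : (2 : F) ≠ 0 := fun h => by
  have : (2 : ZMod 3) = 0 := (iota hF).injective (by rw [map_ofNat, h, map_zero])
  exact absurd this (by decide)

theorem vv_inj : ∀ a < 2187, ∀ b < 2187, vv hF a = vv hF b → a = b := fun a ha b hb h => by
  have h' : vec a = vec b := funext fun q => (iota hF).injective (congrFun h q)
  have := code_vec ⟨a, ha⟩
  rw [show code (vec a) = code (vec b) by rw [h']] at this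
  exact this.symm.trans (code_vec ⟨b, hb⟩)

theorem exists_code (x : W → F) : ∃ k < 2187, x = vv hF k := by
  obtain ⟨h1, h1'⟩ := code_spec fun q => (iota hF).symm (x q)
  exact ⟨_, h1, funext fun q => by simp only [vv, h1', RingEquiv.apply_symm_apply]⟩

theorem exists_orthModel : ∃ gs : ℕ → Cfsg.Omega F (Cfsg.quadFormOdd 3 F),
    (∀ s < 2, ∀ x < 2187, cword (genWords.getD s []) x < 2187 ∧
      ((gs s).1.1 : Matrix W W F) *ᵥ vv hF x = vv hF (cword (genWords.getD s []) x)) ∧
    Subgroup.closure (gs '' {s | s < 2}) = ⊤ ∧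
    ∃ H : Subgroup (Equiv.Perm (Fin 364)), Model 364 tab H ∧
      Nonempty (↥H ≃* Cfsg.Omega F (Cfsg.quadFormOdd 3 F)) ∧
        Nonempty (Cfsg.Omega F (Cfsg.quadFormOdd 3 F) ≃* Cfsg.POmega F (Cfsg.quadFormOdd 3 F)) := by
  classical
  let Qf : (W → F) → F := Cfsg.quadFormOdd 3 F
  have h2 : (2 : F) ≠ 0 := two_ne hF
  have hn : 5 ≤ Fintype.card W := by simp [W]
  have hQ : Cfsg.Geo.IsNondegenerateQuadraticForm Qf := quadFormOdd_nd h2
  haveI hsimp : IsSimpleGroup (Cfsg.POmega F Qf) := pomega_isSimple hQ hn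
  have hz1 : Nat.card (Subgroup.center (Cfsg.Omega F Qf)) = 1 := by
    refine CfsgLib.Orth.card_center_omega_of_not hQ hn ?_
    rintro ⟨g, hg, hm⟩
    have hd := Abelianization.commutator_subset_ker
      (Matrix.GeneralLinearGroup.det.comp (Cfsg.isometryGroup F Qf).subtype) hg
    rw [MonoidHom.mem_ker, MonoidHom.comp_apply] at hd
    have hd' := congrArg Units.val hd
    rw [Matrix.GeneralLinearGroup.val_det_apply, Units.val_one] at hd'
    rw [show (((Cfsg.isometryGroup F Qf).subtype g : GL W F) : Matrix W W F) = -1 from hm,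
      Matrix.det_neg, Matrix.det_one, show Fintype.card W = 7 from rfl] at hd'
    exact h2 (by linear_combination -hd')
  have hbot : Subgroup.center (Cfsg.Omega F Qf) = ⊥ := Subgroup.card_eq_one.1 hz1
  let proj : Cfsg.Omega F Qf →* Cfsg.POmega F Qf := QuotientGroup.mk' _
  have hproj : Function.Bijective proj := ⟨by
    rw [← MonoidHom.ker_eq_bot_iff, QuotientGroup.ker_mk', hbot], QuotientGroup.mk'_surjective _⟩
  let e' : Cfsg.Omega F Qf ≃* Cfsg.POmega F Qf := MulEquiv.ofBijective proj hproj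
  haveI : Nontrivial (Cfsg.Omega F Qf) := e'.toEquiv.nontrivial
  haveI : IsSimpleGroup (Cfsg.Omega F Qf) :=
    IsSimpleGroup.isSimpleGroup_of_surjective e'.symm.toMonoidHom e'.symm.surjective
  have hcard : Nat.card (Cfsg.Omega F Qf) = 4585351680 := by
    have h := CfsgLib.Orth.card_pomega_mul hQ (by omega) (Or.inl (by rw [hF]; norm_num))
    rw [← Nat.card_congr e'.toEquiv, hz1, CfsgLib.Orth.card_sqClass_odd h2,
      show Nat.card (Cfsg.isometryGroup F Qf) = _ from CfsgLib.Classical.card_iso_odd h2 3, hF] at h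
    norm_num [Finset.prod_range_succ] at h ⊢
    linarith
  have hq : ∀ v : V3, Qf (fun q => iota hF (v q)) = iota hF (qv v) := fun v => by
    simp only [Qf, Cfsg.quadFormOdd, qv, map_sum, map_mul, map_add, map_pow]
  have hrefl : ∀ a ∈ axesList, ∃ r : Cfsg.isometryGroup F Qf, r * r = 1 ∧
      ∀ x, (r.1 : Matrix W W F) *ᵥ vv hF x = vv hF (nstep a x) := by
    intro a ha
    obtain ⟨-, hqa⟩ := axes_ok a ha
    have hQa : Qf (vv hF a) ≠ 0 := by
      show Qf (fun q => iota hF (vec a q)) ≠ 0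
      rw [hq]
      exact (map_ne_zero_iff _ (iota hF).injective).2 hqa
    obtain ⟨r, hr, hre⟩ := exists_refl hQ hQa
    have hinv : ∀ c : ZMod 3, c ≠ 0 → c⁻¹ = c := fun c hc => inv_eq_of_mul_eq_one_right (by revert c; decide)
    refine ⟨⟨r, hr⟩, Subtype.ext (gl_ext_vec fun x => ?_), fun x => ?_⟩
    · show ((r * r : GL W F) : Matrix W W F) *ᵥ x = ((1 : GL W F) : Matrix W W F) *ᵥ x
      rw [gl_mul_mulVec, Units.val_one, one_mulVec, hre, hre]
      simp only [psub_left hQ, psmul_left hQ, pself hQ]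
      match_scalars <;> field_simp <;> ring
    · have hsum : vv hF x + vv hF a = fun q => iota hF ((vec x + vec a) q) := by
        funext q; simp [vv]
      rw [hre, QuadraticMap.polar, hsum]
      unfold vv
      rw [hq, hq, hq, ← map_inv₀, hinv _ hqa]
      funext q
      simp only [vec_nstep, rstep, map_sub, map_mul, Pi.sub_apply, Pi.smul_apply, smul_eq_mul]
  choose! rf hrf1 hrf2 using hrefl
  let cc : ℕ × ℕ → Cfsg.isometryGroup F Qf := fun p => rf p.1 * rf p.2 * rf p.1 * rf p.2
  have hcc : ∀ p : ℕ × ℕ, p.1 ∈ axesList → p.2 ∈ axesList → cc p ∈ Cfsg.Omega F Qf ∧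
      ∀ x, ((cc p).1 : Matrix W W F) *ᵥ vv hF x = vv hF (cstep p x) := by
    intro p ha hb
    refine ⟨?_, fun x => ?_⟩
    · have he : cc p = ⁅rf p.1, rf p.2⁆ := by
        rw [commutatorElement_def, inv_eq_of_mul_eq_one_right (hrf1 _ ha), inv_eq_of_mul_eq_one_right (hrf1 _ hb)]
      rw [he, Cfsg.Omega, commutator_def]
      exact Subgroup.commutator_mem_commutator (Subgroup.mem_top _) (Subgroup.mem_top _)
    · show ((((rf p.1).1 * (rf p.2).1 * (rf p.1).1 * (rf p.2).1 : GL W F)) : Matrix W W F) *ᵥ vv hF x = _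
      rw [gl_mul_mulVec, gl_mul_mulVec, gl_mul_mulVec, hrf2 _ hb, hrf2 _ ha, hrf2 _ hb, hrf2 _ ha]
      rfl
  let word : List (ℕ × ℕ) → Cfsg.isometryGroup F Qf := fun l => (l.map cc).prod
  have hword : ∀ l : List (ℕ × ℕ), (∀ p ∈ l, p.1 ∈ axesList ∧ p.2 ∈ axesList) → word l ∈ Cfsg.Omega F Qf ∧
      ∀ x < 2187, cword l x < 2187 ∧ ((word l).1 : Matrix W W F) *ᵥ vv hF x = vv hF (cword l x) := by
    intro l
    induction l with
    | nil => exact fun _ => ⟨one_mem _, fun x hx => ⟨hx, by simp [word, cword]⟩⟩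
    | cons p l ih =>
      intro hl
      obtain ⟨i1, i2⟩ := ih fun q hq => hl q (List.mem_cons_of_mem _ hq)
      obtain ⟨c1, c2⟩ := hcc p (hl p List.mem_cons_self).1 (hl p List.mem_cons_self).2
      have hw : word (p :: l) = cc p * word l := by simp [word]
      refine ⟨hw ▸ mul_mem c1 i1, fun x hx => ⟨nstep_lt _ _, ?_⟩⟩
      rw [hw, Subgroup.coe_mul, gl_mul_mulVec, (i2 x hx).2, c2]
      rfl
  letI : MulAction (Cfsg.Omega F Qf) (Set (W → F)) :=
    { smul := fun g S => (fun x => (g.1.1 : Matrix W W F) *ᵥ x) '' S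
      one_smul := fun S => by
        show (fun x => ((1 : GL W F) : Matrix W W F) *ᵥ x) '' S = S
        simp
      mul_smul := fun g h S => by
        show (fun x => ((g.1.1 * h.1.1 : GL W F) : Matrix W W F) *ᵥ x) '' S = _
        simp only [gl_mul_mulVec]
        exact (Set.image_image (fun x => (g.1.1 : Matrix W W F) *ᵥ x)
          (fun x => (h.1.1 : Matrix W W F) *ᵥ x) S).symm }
  let e : Fin 364 → Set (W → F) := fun i => vv hF '' {k | k ∈ lab i.1}
  have he : Function.Injective e := fun i j h => lab_inj (Nat.eq_of_testBit_eq fun k => by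
    rw [Bool.eq_iff_iff, testBit_mask, testBit_mask]
    have key : ∀ a b : Fin 364, e a = e b → k ∈ lab a.1 → k ∈ lab b.1 := fun a b hab hk => by
      obtain ⟨k', hk', hkk⟩ : vv hF k ∈ e b := hab ▸ ⟨k, hk, rfl⟩
      exact vv_inj hF k' (labs_ok.1 b k' hk') k (labs_ok.1 a k hk) hkk ▸ hk'
    exact ⟨key i j h, key j i h.symm⟩)
  let gs : ℕ → Cfsg.Omega F Qf := fun s =>
    if h : word (genWords.getD s []) ∈ Cfsg.Omega F Qf then ⟨_, h⟩ else 1
  have hmemw : ∀ s < 2, genWords.getD s [] ∈ genWords := fun s hs => by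
    interval_cases s <;> simp [genWords]
  have hgv : ∀ s < 2, ∀ x < 2187, cword (genWords.getD s []) x < 2187 ∧
      ((gs s).1.1 : Matrix W W F) *ᵥ vv hF x = vv hF (cword (genWords.getD s []) x) := fun s hs x hx => by
    obtain ⟨hO, hx'⟩ := hword _ (words_axes _ (hmemw s hs))
    rw [show (gs s).1 = word (genWords.getD s []) by simp only [gs, dif_pos hO]]
    exact hx' x hx
  have hgs : ∀ s < tab.ngen, ∀ i : Fin 364, ∃ j : Fin 364, j.1 = look tab.w tab.R s i.1 ∧ gs s • e i = e j := by
    intro s hs i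
    have hs2 : s < 2 := hs
    obtain ⟨hlt, hmask⟩ := images_ok ⟨s, hs2⟩ i
    refine ⟨⟨_, hlt⟩, rfl, ?_⟩
    show (fun x => ((gs s).1.1 : Matrix W W F) *ᵥ x) '' (vv hF '' {k | k ∈ lab i.1}) = _
    rw [Set.image_image]
    have hset : ∀ k, k ∈ (lab i.1).map (cword (genWords.getD s [])) ↔ k ∈ lab (look tab.w tab.R s i.1) := fun k => by
      rw [← testBit_mask, hmask, testBit_mask]
    ext y
    constructor
    · rintro ⟨k, hk, rfl⟩
      exact ⟨_, (hset _).1 (List.mem_map_of_mem hk), ((hgv s hs2 k (labs_ok.1 i k hk)).2).symm⟩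
    · rintro ⟨k, hk, rfl⟩
      obtain ⟨k', hk', rfl⟩ := List.mem_map.1 ((hset k).2 hk)
      exact ⟨k', hk', (hgv s hs2 k' (labs_ok.1 i k' hk')).2⟩
  let P : Subgroup (Cfsg.Omega F Qf) := Subgroup.closure (gs '' {s | s < 2})
  have hinvP : ∀ g ∈ P, ∀ i, ∃ j, g • e i = e j := by
    intro g hg
    have hg' : g ∈ (Subgroup.closure (gs '' {s | s < 2})).toSubmonoid := hg
    rw [Subgroup.closure_toSubmonoid_of_finite] at hg'
    clear hg
    induction hg' using Submonoid.closure_induction with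
    | mem y hy =>
      obtain ⟨s, hs, rfl⟩ := hy
      exact fun i => let ⟨j, _, hj⟩ := hgs s hs i; ⟨j, hj⟩
    | one => exact fun i => ⟨i, one_smul _ _⟩
    | mul a b _ _ iha ihb =>
      intro i
      obtain ⟨j, hj⟩ := ihb i
      obtain ⟨k, hk⟩ := iha j
      exact ⟨k, by rw [mul_smul, hj, hk]⟩
  have hgP : ∀ s < tab.ngen, gs s ∈ P := fun s hs => Subgroup.subset_closure ⟨s, hs, rfl⟩
  have hP : P = ⊤ := by
    have hp : ∀ (g : P) i, ∃ j, g.1 • e i = e j := fun g => hinvP g.1 g.2
    choose act hact using hp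
    have act_one : ∀ i, act 1 i = i := fun i => he (by rw [← hact, Subgroup.coe_one, one_smul])
    have act_mul : ∀ g h i, act (g * h) i = act g (act h i) := fun g h i => he (by
      rw [← hact, ← hact, ← hact, Subgroup.coe_mul, mul_smul])
    let rho : P →* Equiv.Perm (Fin 364) :=
      { toFun := fun g =>
          { toFun := act g
            invFun := act g⁻¹
            left_inv := fun i => by rw [← act_mul, inv_mul_cancel, act_one]
            right_inv := fun i => by rw [← act_mul, mul_inv_cancel, act_one] }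
        map_one' := Equiv.ext act_one
        map_mul' := fun g h => Equiv.ext (act_mul g h) }
    have hok := tab_ok
    simp only [Tab.ok, Bool.and_eq_true] at hok
    obtain ⟨⟨hops, hchain⟩, hord⟩ := hok
    have hm : ∀ s < tab.ngen, ∃ g ∈ rho.range, Matches tab.w g tab.R s := fun s hs => by
      refine ⟨rho ⟨gs s, hgP s hs⟩, ⟨_, rfl⟩, fun i => ?_⟩
      obtain ⟨j, hj, he'⟩ := hgs s hs i
      rw [← hj]
      exact congrArg Fin.val (he ((hact ⟨gs s, hgP s hs⟩ i).symm.trans he'))
    have h1 : (tab.trans.map List.length).prod ≤ Nat.card ↥rho.range :=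
      le_trans (Nat.le_mul_of_pos_right _ Nat.card_pos) (card_chain (exists_of_ops hops _ hm) hchain)
    have h3 : (tab.trans.map List.length).prod = 4585351680 := Nat.eq_of_beq_eq_true hord
    refine Subgroup.eq_top_of_le_card P ?_
    rw [hcard, ← h3]
    exact h1.trans (Nat.card_le_card_of_surjective _ rho.rangeRestrict_surjective)
  obtain ⟨H, M, ⟨f⟩⟩ := exists_model tab (G := Cfsg.Omega F Qf) e he
    (fun g => hinvP g (hP ▸ Subgroup.mem_top g)) gs hgs
    (by
      rcases moved with h | h | h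
      · exact ⟨0, by decide, ⟨0, by norm_num⟩, h⟩
      · exact ⟨0, by decide, ⟨1, by norm_num⟩, h⟩
      · exact ⟨1, by decide, ⟨0, by norm_num⟩, h⟩)
    (by rw [hcard]; exact tab_ok)
  exact ⟨gs, hgv, hP, H, M, ⟨f⟩, ⟨e'⟩⟩

end CfsgLib.Lie.MultExc.OSevenThree
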