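import Cfsg.Agent.Lib.Lie.MultExc.OSevenThree.Group
import Cfsg.Agent.Lib.Lie.MultExc.OSevenThree.SpinData

/-!
Spin matrices of degree eight over three elements and the checks on their tables.
-/

set_option autoImplicit false
set_option maxRecDepth 100000

namespace CfsgLib.Lie.MultExc.OSevenThree

open Matrix
open scoped commutatorElement

universe u

local notation "V3" => (W → ZMod 3)
local notation "G8" => GL (Fin 8) (ZMod 3)
local notation "M8" => Matrix (Fin 8) (Fin 8) (ZMod 3)

/-- A matrix from its packed entries. -/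
def dec8 (N : ℕ) : M8 := Matrix.of fun i j => (((N >>> (2 * (8 * i.1 + j.1))) % 4 : ℕ) : ZMod 3)

/-- The matrices of the first table. -/
def gmat (k : ℕ) : M8 := dec8 (gamTab.getD k 0)

/-- The matrices of the second table. -/
def lmat (k : ℕ) : M8 := dec8 (liftTab.getD k 0)

/-- The number of a coordinate. -/
def num : W → ℕ
  | .inl _ => 0
  | .inr (.inl j) => 1 + j.1
  | .inr (.inr j) => 4 + j.1

/-- The image of a vector in the Clifford algebra. -/
def rho (v : V3) : M8 := ∑ q : W, v q • gmat (num q)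

/-- The code of a basis vector. -/
def bcode (q : W) : ℕ := code (Pi.single q 1)

/-- A word of the generators on codes. -/
def wcode (us : List ℕ) (x : ℕ) : ℕ := us.foldr (fun s y => cword (genWords.getD s []) y) x

/-- A word is recorded at a place of the second table. -/
def placeOK : List ℕ → ℕ → Bool
  | [], _ => false
  | [s], k => Nat.blt s 2 && Nat.beq k s
  | s :: t, k => Nat.blt s 2 && Nat.ble 2 k && Nat.blt (k - 2) liftOps.length &&
      Nat.beq (liftOps.getD (k - 2) (0, 0)).1 s && placeOK t (liftOps.getD (k - 2) (0, 0)).2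

theorem gamOps_ok : ∀ k : Fin gamOps.length,
    (gamOps.getD k.1 (0, 0)).1 < 7 + k.1 ∧ (gamOps.getD k.1 (0, 0)).2 < 7 + k.1 ∧
      gmat (7 + k.1) = gmat (gamOps.getD k.1 (0, 0)).1 * gmat (gamOps.getD k.1 (0, 0)).2 := by
  decide +kernel

theorem units_ok : ∀ i j : Fin 8, (unitAt.getD (8 * i.1 + j.1) (0, 0)).1 < 7 + gamOps.length ∧
    ((unitAt.getD (8 * i.1 + j.1) (0, 0)).2 : ZMod 3) ≠ 0 ∧
    gmat (unitAt.getD (8 * i.1 + j.1) (0, 0)).1 =
      Matrix.single i j ((unitAt.getD (8 * i.1 + j.1) (0, 0)).2 : ZMod 3) := by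
  decide +kernel

theorem liftOps_ok : ∀ k : Fin liftOps.length,
    lmat (2 + k.1) = lmat (liftOps.getD k.1 (0, 0)).1 * lmat (liftOps.getD k.1 (0, 0)).2 := by
  decide +kernel

theorem liftInv_ok : ∀ s : Fin 2, lmat s.1 * dec8 (liftInv.getD s.1 0) = 1 ∧ dec8 (liftInv.getD s.1 0) * lmat s.1 = 1 := by
  decide +kernel

theorem intertwine_ok : ∀ s : Fin 2, ∀ q : W,
    lmat s.1 * gmat (num q) = rho (vec (cword (genWords.getD s.1 []) (bcode q))) * lmat s.1 := by
  decide +kernel

theorem words_ok : (∀ q : W, wcode (wordU ++ wordV) (bcode q) = wcode (wordV ++ wordU) (bcode q)) ∧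
    placeOK (wordU ++ wordV) placeUV = true ∧ placeOK (wordV ++ wordU) placeVU = true ∧
    lmat placeUV = -lmat placeVU ∧ (∀ x ∈ wordU ++ wordV, x < 2) := by
  decide +kernel

end CfsgLib.Lie.MultExc.OSevenThree
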