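import Cfsg.Agent.Lib.Lie.MultExc.OSevenThree.Group
import Cfsg.Agent.Lib.Lie.MultExc.OSevenThree.SpinChecks

/-!
The double cover of the derived orthogonal group in dimension seven over three elements by spin matrices.
-/

set_option autoImplicit false
set_option maxRecDepth 100000

namespace CfsgLib.Lie.MultExc.OSevenThree

open Matrix
open scoped commutatorElement

universe u

local notation "V3" => (W → ZMod 3)
local notation "G8" => GL (Fin 8) (ZMod 3)
local notation "M8" => Matrix (Fin 8) (Fin 8) (ZMod 3)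

theorem prod_of_placeOK : ∀ (w : List ℕ) (k : ℕ), placeOK w k = true → (w.map lmat).prod = lmat k
  | [], _, h => by simp [placeOK] at h
  | [s], k, h => by
    simp only [placeOK, Bool.and_eq_true] at h
    rw [Nat.eq_of_beq_eq_true h.2]
    simp
  | s :: a :: t, k, h => by
    simp only [placeOK, Bool.and_eq_true] at h
    obtain ⟨⟨⟨⟨-, hk⟩, hlt⟩, hs⟩, ht⟩ := h
    have hlt' : k - 2 < liftOps.length := Nat.le_of_ble_eq_true hlt
    have hk' : 2 + (k - 2) = k := by have := Nat.le_of_ble_eq_true hk; omega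
    rw [List.map_cons, List.prod_cons, prod_of_placeOK (a :: t) _ ht, ← Nat.eq_of_beq_eq_true hs,
      ← liftOps_ok ⟨k - 2, hlt'⟩, hk']

theorem rho_mulVec (A : Matrix W W (ZMod 3)) (v : V3) :
    rho (A *ᵥ v) = ∑ q : W, v q • rho (A *ᵥ Pi.single q 1) := by
  simp only [rho, Finset.smul_sum, smul_smul]
  rw [Finset.sum_comm]
  refine Finset.sum_congr rfl fun r _ => ?_
  rw [← Finset.sum_smul]
  congr 1
  simp only [Matrix.mulVec, dotProduct, Pi.single_apply, mul_ite, mul_one, mul_zero, Finset.sum_ite_eq',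
    Finset.mem_univ, if_true]
  exact Finset.sum_congr rfl fun q _ => mul_comm _ _

theorem intertwine_of_basis {A : Matrix W W (ZMod 3)} {M : M8}
    (h : ∀ q, M * gmat (num q) = rho (A *ᵥ Pi.single q 1) * M) (v : V3) : M * rho v = rho (A *ᵥ v) * M := by
  rw [rho_mulVec, rho, Finset.mul_sum, Finset.sum_mul]
  exact Finset.sum_congr rfl fun q _ => by rw [mul_smul_comm, h, smul_mul_assoc]

theorem rho_single (q : W) : rho (Pi.single q 1) = gmat (num q) := by
  rw [rho, Finset.sum_eq_single q (fun r _ hr => by rw [Pi.single_eq_of_ne hr, zero_smul])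
    (fun h => absurd (Finset.mem_univ q) h), Pi.single_eq_same, one_smul]

theorem commute_gamTab {M : M8} (h : ∀ q, M * gmat (num q) = gmat (num q) * M) :
    ∀ k < 7 + gamOps.length, Commute M (gmat k) := by
  intro k
  induction k using Nat.strong_induction_on with
  | _ k ih =>
    intro hk
    by_cases h7 : k < 7
    · have hsurj : ∀ m : Fin 7, ∃ q : W, num q = m.1 := by decide +kernel
      obtain ⟨q, hq⟩ := hsurj ⟨k, h7⟩
      have := h q
      rw [hq] at this
      exact this
    · obtain ⟨h1, h2, h3⟩ := gamOps_ok ⟨k - 7, by omega⟩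
      simp only [show 7 + (k - 7) = k by omega] at h1 h2 h3
      rw [h3]
      exact (ih _ h1 (by omega)).mul_right (ih _ h2 (by omega))

theorem scalar_of_commute {M : M8} (h : ∀ q, M * gmat (num q) = gmat (num q) * M) :
    ∃ c : ZMod 3, Matrix.scalar (Fin 8) c = M := by
  refine Matrix.mem_range_scalar_iff_commute_single'.2 fun i j => ?_
  obtain ⟨h1, h2, h3⟩ := units_ok i j
  have hc := commute_gamTab h _ h1
  rw [h3] at hc
  have e : Matrix.single i j (1 : ZMod 3) =
      ((unitAt.getD (8 * i.1 + j.1) (0, 0)).2 : ZMod 3)⁻¹ •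
        Matrix.single i j ((unitAt.getD (8 * i.1 + j.1) (0, 0)).2 : ZMod 3) := by
    rw [Matrix.smul_single, smul_eq_mul, inv_mul_cancel₀ h2]
  rw [e]
  exact (hc.smul_right _).symm

variable {F : Type u} [Field F] [Fintype F] (hF : Fintype.card F = 3)

include hF

/-- A double cover of the derived orthogonal group. -/
theorem exists_spinCover (gs : ℕ → Cfsg.Omega F (Cfsg.quadFormOdd 3 F))
    (hgs : ∀ s < 2, ∀ x < 2187, cword (genWords.getD s []) x < 2187 ∧
      ((gs s).1.1 : Matrix W W F) *ᵥ vv hF x = vv hF (cword (genWords.getD s []) x))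
    (htop : Subgroup.closure (gs '' {s | s < 2}) = ⊤) :
    ∃ (Γ : Type u) (_ : Group Γ) (_ : Finite Γ) (τ : Γ →* Cfsg.Omega F (Cfsg.quadFormOdd 3 F)),
      Cfsg.IsStemExtension τ ∧ Nat.card τ.ker = 2 := by
  classical
  let O := Cfsg.Omega F (Cfsg.quadFormOdd 3 F)
  let gz : O →* Matrix W W (ZMod 3) :=
    ((RingHom.mapMatrix (iota hF).symm.toRingHom : Matrix W W F →+* Matrix W W (ZMod 3)) : _ →* _).comp
      ((Units.coeHom _).comp ((Cfsg.isometryGroup F (Cfsg.quadFormOdd 3 F)).subtype.comp O.subtype))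
  have gz_apply : ∀ (g : O) (v : V3),
      gz g *ᵥ v = fun q => (iota hF).symm (((g.1.1 : Matrix W W F) *ᵥ fun r => iota hF (v r)) q) := fun g v => by
    funext q
    simp [gz, Matrix.mulVec, dotProduct, map_sum, map_mul]
  have gz_inj : Function.Injective gz := fun a b h => Subtype.ext (Subtype.ext (Units.ext (by
    ext i j
    exact (iota hF).symm.injective (congrFun (congrFun h i) j))))
  have gz_gen : ∀ s < 2, ∀ x < 2187, gz (gs s) *ᵥ vec x = vec (cword (genWords.getD s []) x) := fun s hs x hx => by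
    rw [gz_apply]
    funext q
    have := congrFun (hgs s hs x hx).2 q
    simp only [vv] at this
    rw [show (fun r => iota hF (vec x r)) = vv hF x from rfl, this]
    exact (iota hF).symm_apply_apply _
  have hb : ∀ q : W, bcode q < 2187 ∧ vec (bcode q) = Pi.single q 1 := fun q =>
    ⟨(code_spec _).1, funext (code_spec _).2⟩
  let good : Submonoid (O × G8) :=
    { carrier := {a | ∀ v : V3, (a.2 : M8) * rho v = rho (gz a.1 *ᵥ v) * (a.2 : M8)}
      one_mem' := fun v => by simp
      mul_mem' := fun {a b} ha hb' v => by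
        simp only [Prod.fst_mul, Prod.snd_mul, map_mul, Units.val_mul]
        rw [mul_assoc, hb' v, ← mul_assoc, ha, mul_assoc, ← Matrix.mulVec_mulVec] }
  let lu : Fin 2 → G8 := fun s => ⟨lmat s.1, dec8 (liftInv.getD s.1 0), (liftInv_ok s).1, (liftInv_ok s).2⟩
  let g2 : ℕ → O × G8 := fun s => if hs : s < 2 then (gs s, lu ⟨s, hs⟩) else 1
  have hg2 : ∀ s, ∀ hs : s < 2, g2 s = (gs s, lu ⟨s, hs⟩) := fun s hs => dif_pos hs
  let Γ : Subgroup (O × G8) := Subgroup.closure (g2 '' {s | s < 2})
  have hgood : ∀ a ∈ Γ, a ∈ good := by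
    intro a ha
    have ha' : a ∈ (Subgroup.closure (g2 '' {s | s < 2})).toSubmonoid := ha
    rw [Subgroup.closure_toSubmonoid_of_finite] at ha'
    refine Submonoid.closure_le.2 ?_ ha'
    rintro _ ⟨s, hs, rfl⟩
    rw [hg2 s hs]
    show ∀ v : V3, lmat s * rho v = rho (gz (gs s) *ᵥ v) * lmat s
    refine intertwine_of_basis fun q => ?_
    rw [intertwine_ok ⟨s, hs⟩ q, ← (hb q).2, gz_gen s hs _ (hb q).1]
  have himg : Γ.map (MonoidHom.fst O G8) = ⊤ := by
    rw [MonoidHom.map_closure, ← htop, Set.image_image]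
    congr 1
    exact Set.image_congr fun s hs => by rw [hg2 s hs]; rfl
  let τ : Γ →* O := (MonoidHom.fst O G8).comp Γ.subtype
  have hsurj : Function.Surjective τ := fun h => by
    obtain ⟨a, ha, e⟩ := himg.ge (Subgroup.mem_top h)
    exact ⟨⟨a, ha⟩, e⟩
  have hker : ∀ a : Γ, τ a = 1 → ((a.1.2 : G8) : M8) = 1 ∨ ((a.1.2 : G8) : M8) = -1 := fun a ha => by
    have h1 : a.1.1 = 1 := ha
    obtain ⟨c, hc⟩ := scalar_of_commute (M := (a.1.2 : M8)) fun q => by
      have := hgood _ a.2 (Pi.single q 1)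
      rwa [h1, map_one, Matrix.one_mulVec, rho_single] at this
    have hc0 : c ≠ 0 := by
      rintro rfl
      rw [map_zero] at hc
      exact (Units.ne_zero a.1.2) hc.symm
    have hall : ∀ d : ZMod 3, d ≠ 0 → d = 1 ∨ d = -1 := by decide
    have hc' : c = 1 ∨ c = -1 := hall c hc0
    rcases hc' with rfl | rfl
    · exact Or.inl (by rw [← hc, map_one])
    · exact Or.inr (by rw [← hc, map_neg, map_one])
  -- the commutator
  obtain ⟨hcode, hpu, hpv, hneg, hlt⟩ := words_ok
  have hmem : ∀ us : List ℕ, (∀ x ∈ us, x < 2) → (us.map g2).prod ∈ Γ := fun us hus =>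
    list_prod_mem fun a ha => by
      obtain ⟨x, hx, rfl⟩ := List.mem_map.1 ha
      exact Subgroup.subset_closure ⟨x, hus x hx, rfl⟩
  have heval : ∀ us : List ℕ, (∀ x ∈ us, x < 2) → (((us.map g2).prod).2 : M8) = (us.map lmat).prod ∧
      ∀ x < 2187, wcode us x < 2187 ∧ gz ((us.map g2).prod).1 *ᵥ vec x = vec (wcode us x) := by
    intro us
    induction us with
    | nil => exact fun _ => ⟨rfl, fun x hx => ⟨hx, by simp [wcode]⟩⟩
    | cons a us ih =>
      intro h
      obtain ⟨i1, i2⟩ := ih fun y hy => h y (List.mem_cons_of_mem _ hy)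
      have ha := h a List.mem_cons_self
      refine ⟨?_, fun x hx => ?_⟩
      · rw [List.map_cons, List.prod_cons, Prod.snd_mul, Units.val_mul, i1, List.map_cons, List.prod_cons, hg2 a ha]
      · refine ⟨(hgs a ha _ (i2 x hx).1).1, ?_⟩
        rw [List.map_cons, List.prod_cons, Prod.fst_mul, map_mul, ← Matrix.mulVec_mulVec, (i2 x hx).2, hg2 a ha,
          gz_gen a ha _ (i2 x hx).1]
        rfl
  have hlt2 : ∀ x ∈ wordV ++ wordU, x < 2 := fun x hx => hlt x (by
    simpa [List.mem_append, or_comm] using hx)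
  obtain ⟨U, hU⟩ : ∃ U : Γ, (U : O × G8) = (wordU.map g2).prod :=
    ⟨⟨_, hmem wordU fun x hx => hlt x (List.mem_append_left _ hx)⟩, rfl⟩
  obtain ⟨V, hV⟩ : ∃ V : Γ, (V : O × G8) = (wordV.map g2).prod :=
    ⟨⟨_, hmem wordV fun x hx => hlt x (List.mem_append_right _ hx)⟩, rfl⟩
  have huv : ((U * V : Γ) : O × G8) = ((wordU ++ wordV).map g2).prod := by
    rw [List.map_append, List.prod_append, Subgroup.coe_mul, hU, hV]
  have hvu : ((V * U : Γ) : O × G8) = ((wordV ++ wordU).map g2).prod := by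
    rw [List.map_append, List.prod_append, Subgroup.coe_mul, hU, hV]
  have e1 : ((U * V : Γ) : O × G8).1 = ((V * U : Γ) : O × G8).1 := gz_inj (by
    refine Matrix.ext_of_mulVec_single fun q => ?_
    rw [← (hb q).2, huv, hvu, ((heval _ hlt).2 _ (hb q).1).2, ((heval _ hlt2).2 _ (hb q).1).2, hcode q])
  have e2 : ((((U * V : Γ) : O × G8).2 : G8) : M8) = -((((V * U : Γ) : O × G8).2 : G8) : M8) := by
    rw [huv, hvu, (heval _ hlt).1, (heval _ hlt2).1, prod_of_placeOK _ _ hpu, prod_of_placeOK _ _ hpv, hneg]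
  obtain ⟨z, hz, hzuv⟩ : ∃ z : Γ, z ∈ _root_.commutator Γ ∧ U * V = z * (V * U) :=
    ⟨⁅U, V⁆, Subgroup.commutator_mem_commutator (Subgroup.mem_top _) (Subgroup.mem_top _),
      by rw [commutatorElement_def]; group⟩
  have hz1 : τ z = 1 := by
    have : τ (U * V) = τ z * τ (V * U) := by rw [hzuv, map_mul]
    rw [show τ (U * V) = τ (V * U) from e1] at this
    exact mul_eq_right.1 this.symm
  have hz2 : ((z.1.2 : G8) : M8) = -1 := by
    rcases hker z hz1 with h | h
    · exfalso
      have h2 : ((((U * V : Γ) : O × G8).2 : G8) : M8) = ((z.1.2 : G8) : M8) * ((((V * U : Γ) : O × G8).2 : G8) : M8) := by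
        rw [hzuv, Subgroup.coe_mul, Prod.snd_mul, Units.val_mul]
      rw [h, one_mul, e2] at h2
      have h4 := congrArg (fun A : M8 => A * (((((V * U : Γ) : O × G8).2)⁻¹ : G8) : M8)) h2
      simp only [neg_mul] at h4
      rw [Units.mul_inv] at h4
      exact absurd (congrFun (congrFun h4 0) 0) (by rw [Matrix.neg_apply, Matrix.one_apply_eq]; decide)
    · exact h
  have hkset : ∀ a : Γ, a ∈ τ.ker → a = 1 ∨ a = z := fun a ha => by
    rcases hker a ha with h | h
    · exact Or.inl (Subtype.ext (Prod.ext ha (Units.ext h)))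
    · exact Or.inr (Subtype.ext (Prod.ext ((show a.1.1 = 1 from ha).trans (show z.1.1 = 1 from hz1).symm)
        (Units.ext (h.trans hz2.symm))))
  refine ⟨Γ, inferInstance, inferInstance, τ, ⟨hsurj, fun a ha => ?_, fun a ha => ?_⟩, ?_⟩
  · refine Subgroup.mem_center_iff.2 fun b => Subtype.ext (Prod.ext ?_ (Units.ext ?_))
    · show b.1.1 * a.1.1 = a.1.1 * b.1.1
      rw [show a.1.1 = 1 from ha, mul_one, one_mul]
    · show ((b.1.2 : G8) : M8) * ((a.1.2 : G8) : M8) = ((a.1.2 : G8) : M8) * ((b.1.2 : G8) : M8)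
      rcases hker a ha with h | h <;> simp [h]
  · rcases hkset a ha with rfl | rfl
    · exact one_mem _
    · exact hz
  · have hne : (1 : τ.ker) ≠ ⟨z, hz1⟩ := fun h => by
      have h' : ((z.1.2 : G8) : M8) = 1 := by rw [← show (1 : Γ) = z from congrArg Subtype.val h]; rfl
      rw [hz2] at h'
      exact absurd (congrFun (congrFun h' 0) 0) (by rw [Matrix.neg_apply, Matrix.one_apply_eq]; decide)
    have hset : (Set.univ : Set τ.ker) = {1, ⟨z, hz1⟩} := by
      ext a
      simp only [Set.mem_univ, Set.mem_insert_iff, Set.mem_singleton_iff, true_iff]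
      exact (hkset a.1 a.2).imp Subtype.ext Subtype.ext
    rw [← Set.ncard_univ, hset, Set.ncard_pair hne]

end CfsgLib.Lie.MultExc.OSevenThree
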